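/- Spec of the tower HM (row S5175, blueprints/HM.md): minimal `2`-fusion systems with a proper
subsystem containing the normalizers of the subgroups normal in `N_F(S)`. -/
import Cfsg.Agent.H96.GLU
import Cfsg.Agent.H96.GSet
import Cfsg.Agent.H1.F2A
import Cfsg.Agent.H87.JCSpec
import Cfsg.Agent.H9.R2DSQ
import Cfsg.Prelude.Def_CaseTheorems
import Cfsg.Prelude.Def_Classical
import Cfsg.Prelude.Def_Spor_J3

set_option autoImplicit false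

namespace H87.HM
open Cfsg Cfsg.FusionSystem H92 H93 Subgroup
open H96.CG (Bk key)
open H87.S4 (Co)
open scoped commutatorElement

universe u v

/-- The last alternative of the theorem. -/
def Alt6 (G : Type v) [Group G] : Prop :=
  ∃ (K : Type) (_ : Field K) (_ : Fintype K),
    (Nonempty (↥(generalizedFittingSubgroup G) ≃* Matrix.ProjectiveSpecialLinearGroup (Fin 3) K) ∨
      (Nonempty (↥(generalizedFittingSubgroup G) ≃* PSp 2 K) ∧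
        ∃ e : ℕ, Odd e ∧ Fintype.card K = 2 ^ e)) ∧
    generalizedFittingSubgroup G ≤ pResidual 2 G ∧
    Odd ((generalizedFittingSubgroup G).subgroupOf (pResidual 2 G)).index ∧
    (pResidual 2 G).index = 2

/-- `PSL₂(r²)` extended by an element of order two modulo it. -/
def Alt2 (G : Type v) [Group G] : Prop :=
  ∃ (K : Type) (_ : Field K) (_ : Fintype K) (r : ℕ), Odd r ∧ Fintype.card K = r ^ 2 ∧
    ∃ L : Subgroup G, L.Normal ∧ L.index = 2 ∧ Subgroup.centralizer (L : Set G) = ⊥ ∧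
      Nonempty (↥L ≃* Matrix.ProjectiveSpecialLinearGroup (Fin 2) K)

/-- The six alternatives. -/
def Alt (S : Type u) [Group S] (G : Type v) [Group G] : Prop :=
  ((∃ m : ℕ, 8 ≤ m ∧ Nonempty (S ≃* DihedralGroup m)) ∧
      ∃ (K : Type) (_ : Field K) (_ : Fintype K), Odd (Fintype.card K) ∧
        (Nonempty (G ≃* Matrix.ProjectiveSpecialLinearGroup (Fin 2) K) ∨
          Nonempty (G ≃* GL (Fin 2) K ⧸ Subgroup.center (GL (Fin 2) K)))) ∨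
    (IsQuasiDihedral S ∧ Alt2 G) ∨
    (IsQuasiDihedral S ∧ Nat.card S = 16 ∧
      Nonempty (G ≃* Matrix.ProjectiveSpecialLinearGroup (Fin 3) (ZMod 3))) ∨
    (Nat.card S = 32 ∧ (Nonempty (G ≃* MulAut ↥(alternatingGroup (Fin 6))) ∨
      Nonempty (G ≃* MulAut (Matrix.ProjectiveSpecialLinearGroup (Fin 3) (ZMod 3))))) ∨
    (Nat.card S = 2 ^ 7 ∧ Spor.IsoJ3 G) ∨ Alt6 G

section defs
variable {Ω : Type u} [Group Ω] {S : Subgroup Ω}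

/-- The conclusion. -/
def Real (F : FusionSystem S) : Prop :=
  ∃ (G : Type) (_ : Group G) (_ : Finite G) (ι : S →* G),
    F.IsRealizedBy ι ∧ (∃ T : Sylow 2 G, (T : Subgroup G) = ι.range) ∧ Alt S G

/-- `x` is sent to `y` by a map of the normalizer system of `U`. -/
def Fu (F : FusionSystem S) (U : Subgroup Ω) (x y : Ω) : Prop :=
  ∃ g ∈ Nm U, M F (U ⊔ zpowers x) g ∧ g * x * g⁻¹ = y

/-- The form in which solvability of the normalizer systems is used. -/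
def NS (F : FusionSystem S) : Prop :=
  ∀ U : Subgroup Ω, U ≠ ⊥ → U ≤ S → ∀ X X' : Set Ω, X.Nonempty → X'.Nonempty → 1 ∉ X →
    (∀ a ∈ X, a ∈ S ⊓ Nm U) → (∀ a ∈ X', a ∈ S ⊓ Nm U) →
    (∀ a ∈ X, ∀ a' ∈ X', (∃ b ∈ X, Fu F U ⁅a, a'⁆ b) ∧ ∃ b ∈ X', Fu F U ⁅a, a'⁆ b) → False

/-- `X` is a model of the normalizer system of `U`. -/
structure Md (F : FusionSystem S) (U X : Subgroup Ω) : Prop where
  syl : H98.IsSyl 2 (S ⊓ Nm U) X
  le : X ≤ Nm U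
  ch : H98.CharP 2 X
  mor : ∀ P g, g ∈ X → P ≤ S ⊓ Nm U → cj g P ≤ S ⊓ Nm U → M F P g
  real : ∀ P g, U ≤ P → P ≤ Nm U → M F P g → g ∈ Nm U → ∃ x ∈ X, g⁻¹ * x ∈ Ct P

/-- The hypotheses in a good ambient group. -/
structure Hyp (F N : FusionSystem S) : Prop where
  satF : SatA 2 F
  satN : SatA 2 N
  le : ∀ P g, M N P g → M F P g
  ne : ∃ P g, M F P g ∧ ¬ M N P g
  par : ∀ R, R ≠ ⊥ → R ≤ S → Aut F S ≤ Nm R → ∀ P g, R ≤ P → M F P g → g ∈ Nm R → M N P g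
  mdl : ∀ U, U ≠ ⊥ → F.IsFullyNormalized U → ∃ X, Md F U X
  ns : NS F

/-- The normalizer system of `U` is not contained in `N`. -/
def Bad (F N : FusionSystem S) (U : Subgroup Ω) : Prop :=
  U ≠ ⊥ ∧ U ≤ S ∧ ∃ P g, U ≤ P ∧ P ≤ Nm U ∧ M F P g ∧ g ∈ Nm U ∧ ¬ M N P g

/-- A maximal choice. -/
def Mx [Finite Ω] (F N : FusionSystem S) (U : Subgroup Ω) : Prop :=
  Bad F N U ∧ ∀ U', Bad F N U' → key (S ⊓ Nm U') ≤ key (S ⊓ Nm U)

/-- A block of `F` outside `N`. -/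
structure FB (F N : FusionSystem S) (q : ℕ) (B R A A' : Subgroup Ω) : Prop where
  bk : Bk q B R A A'
  mor : ∀ g ∈ R, M F (B ⊓ Ct A) g
  out : ∃ g ∈ R, ¬ M N A g

/-- The output of section L1 for a maximal `U`. -/
structure L1 (F N : FusionSystem S) (U : Subgroup Ω) : Prop where
  fn : F.IsFullyNormalized U
  c : ∀ D, S ⊓ Nm (H98.bm 2 (S ⊓ Nm U)) ≤ Nm D → (S ≤ Nm U → Aut F S ≤ Nm D) → ¬ Bad F N D
  d : ∃ X H q R A A', Md F U X ∧ H98.CX 2 X (S ⊓ Nm U) H ∧ R ≤ X ∧ ¬ R ≤ H ∧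
    FB F N q (H98.bm 2 (S ⊓ Nm U)) R A A'

/-- The output of sections L2, L3. -/
structure Bl (F : FusionSystem S) (q : ℕ) (B R A A' X : Subgroup Ω) (t : Ω) : Prop where
  sat : SatA 2 F
  ns : NS F
  bk : Bk q B R A A'
  gen : A ⊔ A' = B
  md : Md F A X
  bm : H98.bm 2 (S ⊓ Nm A) = B
  RX : R ≤ X
  XR : X ≤ Nm R
  tS : t ∈ S
  sw : cj t A = A'
  sw' : cj t A' = A
  DD : H52.zc B ⊓ Ct R ⊓ Ct (cj t R) = ⊥

/-- `S = B⟨t⟩`, `B = A A'`, `t` interchanges `A` and `A'`; `Z = A ⊓ A'`. -/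
structure Tw (S B A A' : Subgroup Ω) (t : Ω) : Prop where
  two : IsPGroup 2 S
  BS : B ≤ S
  tS : t ∈ S
  idx : ∀ s ∈ S, s ∈ B ∨ s * t ∈ B
  eA : ∀ a ∈ A, a * a = 1
  gen : A ⊔ A' = B
  comm : ∀ a ∈ A, ∀ a' ∈ A', ⁅a, a'⁆ ∈ A ⊓ A'
  reg : ∀ a ∈ A, ∀ a' ∈ A', Commute a a' → a ∈ A' ∨ a' ∈ A
  ne : ¬ A ≤ A'
  sw : cj t A = A'
  sw' : cj t A' = A
  big : 2 < (A ⊓ A').relIndex A ∨ t ∉ Ct (A ⊓ A')

/-- The generic configuration after section L4. -/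
structure Cf (F : FusionSystem S) (q : ℕ) (B R A A' : Subgroup Ω) (t : Ω) : Prop where
  sat : SatA 2 F
  tw : Tw S B A A' t
  bk : Bk q B R A A'
  RF : R ≤ Aut F A
  RB : ∀ g ∈ R, g ∈ Nm B → M F B g
  nD : Aut F A ≤ Nm (H52.zc B ⊓ Ct R)
  DD : H52.zc B ⊓ Ct R ⊓ Ct (cj t R) = ⊥

/-- An involution with centralizer of order four, fused into the centre. -/
structure Fo (F : FusionSystem S) (x : Ω) : Prop where
  sat : SatA 2 F
  ns : NS F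
  mem : x ∈ S
  sq : x * x = 1
  cen : Nat.card ↥(S ⊓ Ct (zpowers x)) = 4
  big : 16 ≤ Nat.card S
  fus : ∃ g, M F (zpowers x) g ∧ g * x * g⁻¹ ∈ Ct S

/-- `t` inverts no more than it has to: `C_Z(t) = [Z, t]`. -/
def Ng (Z : Subgroup Ω) (t : Ω) : Prop := ∀ z ∈ Z, Commute t z → ∃ w ∈ Z, z = w * (t * w * t⁻¹)

/-- The exceptional essential subgroup. -/
def Qx (S Z : Subgroup Ω) (t : Ω) : Subgroup Ω := S ⊓ Tv (zpowers t) Z

/-- All essential subgroups lie in `B`. -/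
def In (F : FusionSystem S) (B : Subgroup Ω) : Prop := ∀ E, F.IsEssential 2 E → E ≤ B

/-- A frame: `A₀` is a complement to `Z` in `A`, `n` a Weyl element. -/
structure Fr (F : FusionSystem S) (B A A' A₀ : Subgroup Ω) (t n : Ω) : Prop where
  sat : SatA 2 F
  tw : Tw S B A A' t
  t2 : t * t = 1
  le : A₀ ≤ A
  dj : A₀ ⊓ A' = ⊥
  ne : A₀ ≠ ⊥
  nA : n ∈ Aut F A
  br : ∀ g ∈ Aut F A, g ∈ Nm (A ⊓ A') ∨ ∃ s ∈ B, n * s * g ∈ Nm (A ⊓ A')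
  dg : ∀ g ∈ Aut F B, g ∈ Nm A → ∃ b ∈ B, b * g ∈ Nm A₀ ⊓ Nm (cj t A₀)

/-- Diagonal automorphisms of `B` commuting with `t` extend to automorphisms of `S` fixing `t`. -/
def Top (F : FusionSystem S) (B A₀ : Subgroup Ω) (t : Ω) : Prop :=
  ∀ g ∈ Aut F B, g ∈ Nm A₀ ⊓ Nm (cj t A₀) → ⁅g, t⁆ ∈ Ct B → ∃ h ∈ Aut F S, g⁻¹ * h ∈ Ct B ∧ Commute h t

variable {K : Type} [Field K]

/-- Heisenberg coordinates. -/
structure He (B : Subgroup Ω) (m : K → K → K → Ω) : Prop where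
  mem : ∀ a b c, m a b c ∈ B
  surj : ∀ g ∈ B, ∃ a b c, g = m a b c
  mul : ∀ a b c a' b' c', m a b c * m a' b' c' = m (a + a') (b + b') (c + c' + a * b')
  inj : ∀ {a b c a' b' c'}, m a b c = m a' b' c' → a = a' ∧ b = b' ∧ c = c'

def A3 (m : K → K → K → Ω) : Subgroup Ω := closure {g | ∃ a c, g = m a 0 c}
def A3' (m : K → K → K → Ω) : Subgroup Ω := closure {g | ∃ b c, g = m 0 b c}
def Z3 (m : K → K → K → Ω) : Subgroup Ω := closure {g | ∃ c, g = m 0 0 c}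
def X3 (m : K → K → K → Ω) : Subgroup Ω := closure {g | ∃ a, g = m a 0 0}

structure Pre3 (F : FusionSystem S) (B : Subgroup Ω) (m : K → K → K → Ω) (t : Ω) : Prop where
  sat : SatA 2 F
  he : He B m
  tw : Tw S B (A3 m) (A3' m) t
  mv : ¬ Aut F (A3 m) ≤ Nm (Z3 m)

/-- The group `S = B⟨t⟩` with `t` of graph (`σ = 1`) or graph-field type. -/
structure T3 (S B : Subgroup Ω) (m : K → K → K → Ω) (t : Ω) (σ : RingAut K) : Prop where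
  he : He B m
  two : IsPGroup 2 S
  BS : B ≤ S
  tS : t ∈ S
  idx : ∀ s ∈ S, s ∈ B ∨ s * t ∈ B
  t2 : t * t = 1
  act : ∀ a b c, t * m a b c * t⁻¹ = m (σ b) (σ a) (σ (c + a * b))

def Dg3 (m : K → K → K → Ω) (g : Ω) (c c' : K) (ρ : RingAut K) : Prop :=
  ∀ a b z, g * m a b z * g⁻¹ = m (c * ρ a) (c' * ρ b) (c * c' * ρ z)

def Sw3 (m : K → K → K → Ω) (n : Ω) : Prop := ∀ a z, n * m a 0 z * n⁻¹ = m z 0 a

structure St3 (F : FusionSystem S) (B : Subgroup Ω) (m : K → K → K → Ω) (t : Ω) (σ : RingAut K) :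
    Prop where
  sat : SatA 2 F
  t3 : T3 S B m t σ
  n : ∃ n, M F (A3 m) n ∧ Sw3 m n

structure Std3 (F : FusionSystem S) (B : Subgroup Ω) (m : K → K → K → Ω) (t : Ω) (σ : RingAut K) :
    Prop extends St3 F B m t σ where
  fix : σ = 1 → ∀ s, s ≠ 0 → ∃ g, M F S g ∧ Dg3 m g s s 1 ∧ Commute g t

def P3 (F : FusionSystem S) (B : Subgroup Ω) (m : K → K → K → Ω) (c c' : K) (ρ : RingAut K) : Prop :=
  c ≠ 0 ∧ c' ≠ 0 ∧ ∃ g, M F B g ∧ Dg3 m g c c' ρ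

/-- The properties of the set of diagonal automorphisms. -/
structure PP3 (σ : RingAut K) (P : K → K → RingAut K → Prop) : Prop where
  ne : ∀ c c' ρ, P c c' ρ → c ≠ 0 ∧ c' ≠ 0
  mul : ∀ c c' ρ d d' τ, P c c' ρ → P d d' τ → P (c * ρ d) (c' * ρ d') (ρ * τ)
  tor : ∀ s, s ≠ 0 → P s⁻¹ (s ^ 2) 1 ∧ P (s ^ 2) s⁻¹ 1
  sw : ∀ c c' ρ, P c c' ρ → P (σ c') (σ c) ρ
  odd : ∀ c c' ρ, P c c' ρ → Odd (orderOf ρ)

/-- No element of `B` is conjugate to an element of `T` outside `B`. -/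
def Sc {G : Type*} [Group G] (T B : Subgroup G) : Prop := ∀ g, ∀ x ∈ B, g * x * g⁻¹ ∈ T → g * x * g⁻¹ ∈ B

def Mod3 (σ : RingAut K) (P : K → K → RingAut K → Prop) : Prop :=
  ∃ (G : Type) (_ : Group G) (_ : Finite G) (T : Sylow 2 G) (B : Subgroup G) (m : K → K → K → G)
    (t : G), T3 T B m t σ ∧ (∃ n, Sw3 m n) ∧
    (σ = 1 → ∀ s, s ≠ 0 → ∃ g, Dg3 m g s s 1 ∧ Commute g t) ∧
    (∀ c c' ρ, P c c' ρ ↔ c ≠ 0 ∧ c' ≠ 0 ∧ ∃ g, Dg3 m g c c' ρ) ∧ Sc T B ∧ Alt6 G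

structure Pre4 (F : FusionSystem S) (B : Subgroup Ω) (m : K → K → K → K → Ω) (t : Ω) : Prop where
  sat : SatA 2 F
  co : Co B m
  tw : Tw S B (co.Q 0) co.V t
  nz : Aut F (co.Q 0) ≤ Nm co.Z
  mv : ¬ Aut F (co.Q 0) ≤ Nm co.Y
  tz : ∀ w, ∃ y, t * m 0 0 w 0 * t⁻¹ = m 0 y 0 0

/-- The group `S = B⟨t⟩` with `t` an involutory graph automorphism. -/
structure T4 (S B : Subgroup Ω) (m : K → K → K → K → Ω) (t : Ω) (σ : RingAut K) : Prop where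
  co : Co B m
  two : IsPGroup 2 S
  BS : B ≤ S
  tS : t ∈ S
  idx : ∀ s ∈ S, s ∈ B ∨ s * t ∈ B
  t2 : t * t = 1
  fr : ∀ x, σ (σ x) ^ 2 = x
  act : ∀ c y w a, t * m c y w a * t⁻¹ =
    m (σ a ^ 2) (σ w + σ c * σ a ^ 2) (σ y ^ 2 + σ c ^ 2 * σ a ^ 2) (σ c)

def X4 (m : K → K → K → K → Ω) : Subgroup Ω := closure {g | ∃ a, g = m 0 0 0 a}

def Dg4 (m : K → K → K → K → Ω) (g : Ω) (α β : K) (ρ : RingAut K) : Prop :=
  ∀ c y w a, g * m c y w a * g⁻¹ = m (β * ρ c) (α * β * ρ y) (α ^ 2 * β * ρ w) (α * ρ a)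

def Sw4 (m : K → K → K → K → Ω) (n : Ω) : Prop := ∀ y w a, n * m 0 y w a * n⁻¹ = m 0 a w y

structure Std4 (F : FusionSystem S) (B : Subgroup Ω) (m : K → K → K → K → Ω) (t : Ω)
    (σ : RingAut K) : Prop where
  sat : SatA 2 F
  t4 : T4 S B m t σ
  n : ∃ n, M F (t4.co.Q 0) n ∧ Sw4 m n

def Mod4 (σ : RingAut K) (Φ : Subgroup (RingAut K)) : Prop :=
  ∃ (G : Type) (_ : Group G) (_ : Finite G) (T : Sylow 2 G) (B : Subgroup G) (m : K → K → K → K → G)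
    (t : G), T4 T B m t σ ∧ (∃ n, Sw4 m n) ∧
    (∀ α β ρ, α ≠ 0 → β ≠ 0 → ((∃ g, Dg4 m g α β ρ) ↔ ρ ∈ Φ)) ∧ Sc T B ∧
    (Alt6 G ∨ Nat.card K = 2 ∧ Nonempty (G ≃* MulAut ↥(alternatingGroup (Fin 6))))

end defs

/-- The theorem in a good ambient group. -/
def Main : Prop := ∀ (Ω : Type u) [Group Ω] [Finite Ω] (S : Subgroup Ω) (F N : FusionSystem S),
  Hyp F N → Real F

/-- The hypotheses of the row. -/
structure Row {Ω : Type u} [Group Ω] {S : Subgroup Ω} (F N : FusionSystem S) : Prop where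
  min : ∀ U : Subgroup Ω, U ≠ ⊥ → F.IsFullyNormalized U →
    ∀ E : FusionSystem (normalizerIn S U), F.IsNormalizerSystem U E → E.IsSolvableSystem
  satN : N.IsSaturated 2
  le : N ≤ F
  ne : N ≠ F
  par : ∀ R : Subgroup Ω, R ≠ ⊥ → R ≤ S → S ≤ normalizer (R : Set Ω) →
    (∀ P : Subgroup Ω, F.normalizerHom S P ⊆ F.normalizerHom R P) →
    ∀ P : Subgroup Ω, F.normalizerHom R P ⊆ N.Hom P

/-- In a good ambient group the hypotheses of the row give `Hyp`. -/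
def JobHyp : Prop := ∀ (Ω : Type u) [Group Ω] [Finite Ω] (S : Subgroup Ω) (F N : FusionSystem S),
  SatA 2 F → Row F N → Hyp F N

/-- Transport to a good ambient group and back. -/
def JobTop : Prop := JobHyp.{u} → Main.{u} → ∀ (Ω : Type u) [Group Ω] (S : Subgroup Ω) [Finite S]
  (F N : FusionSystem S), IsPGroup 2 S → F.IsSaturated 2 → Row F N →
  ∃ (G : Type u) (_ : Group G) (_ : Finite G) (ι : S →* G),
    F.IsRealizedBy ι ∧ (∃ T : Sylow 2 G, (T : Subgroup G) = ι.range) ∧ Alt S G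

def JobL1 : Prop := ∀ (Ω : Type u) [Group Ω] [Finite Ω] (S : Subgroup Ω) (F N : FusionSystem S),
  Hyp F N → (∃ U, Mx F N U) ∧ ∀ U, Mx F N U → L1 F N U

def JobL2 : Prop := JobL1.{u} → ∀ (Ω : Type u) [Group Ω] [Finite Ω] (S : Subgroup Ω)
  (F N : FusionSystem S), Hyp F N → ∃ q B R A A' X t, Bl F q B R A A' X t

/-- An element of `N_S(A)` outside `B` with square in `B` acts freely on the layers of `B`. -/
def JobL4f : Prop := ∀ (Ω : Type u) [Group Ω] [Finite Ω] (S : Subgroup Ω) (F : FusionSystem S)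
  (q : ℕ) (B R A A' X : Subgroup Ω) (t : Ω), Bl F q B R A A' X t →
  ∀ s ∈ S ⊓ Nm A, s ∉ B → s * s ∈ B →
    (∀ a ∈ A, ⁅a, s⁆ ∈ H52.zc B → ∃ c ∈ A, a * ⁅c, s⁆ ∈ H52.zc B) ∧
    (∀ a ∈ A', ⁅a, s⁆ ∈ H52.zc B → ∃ c ∈ A', a * ⁅c, s⁆ ∈ H52.zc B) ∧ Ng (H52.zc B) s

def JobL4n : Prop := JobL4f.{u} → ∀ (Ω : Type u) [Group Ω] [Finite Ω] (S : Subgroup Ω)
  (F : FusionSystem S) (q : ℕ) (B R A A' X : Subgroup Ω) (t : Ω), Bl F q B R A A' X t →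
  S ⊓ Nm A = B

def JobL4b : Prop := ∀ (Ω : Type u) [Group Ω] [Finite Ω] (S : Subgroup Ω) (F : FusionSystem S)
  (q : ℕ) (B R A A' X : Subgroup Ω) (t : Ω), Bl F q B R A A' X t → S ⊓ Nm A = B →
  Cf F q B R A A' t ∨ ∃ x, Fo F x

/-- `PGL₂(r)`. -/
def JobPg : Prop := ∀ m : ℕ, ∃ (K : Type) (_ : Field K) (_ : Fintype K), Odd (Fintype.card K) ∧
  ∃ a b : GL (Fin 2) K ⧸ Subgroup.center (GL (Fin 2) K),
    H9.DM (m + 1) (-1) 0 a b ∧ H9.CF a b ∧ ¬ H9.CF a (a * b)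

/-- `PSL₂(r²).2` with semidihedral Sylow subgroups. -/
def JobSd : Prop := ∀ m : ℕ, ∃ (G : Type) (_ : Group G) (_ : Finite G) (a b : G),
  H9.DM (m + 2) (2 ^ (m + 2) - 1) 0 a b ∧ H9.CF a b ∧ ¬ H9.CF a (a * b) ∧ Alt2 G

def JobDS : Prop := JobPg → JobSd → ∀ (Ω : Type u) [Group Ω] [Finite Ω] (S : Subgroup Ω)
  (F : FusionSystem S) (x : Ω), Fo F x → Real F

/-- Essential subgroups, graph type. -/
def JobEg : Prop := ∀ (K : Type) [Field K] [Finite K] [CharP K 2] (Ω : Type u) [Group Ω] [Finite Ω]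
  (S B : Subgroup Ω) (F : FusionSystem S) (m : K → K → K → Ω) (t : Ω), 2 < Nat.card K →
  SatA 2 F → T3 S B m t 1 → In F B

/-- Essential subgroups, the other types. -/
def JobEn : Prop := ∀ (Ω : Type u) [Group Ω] [Finite Ω] (S B A A' : Subgroup Ω) (F : FusionSystem S)
  (t : Ω), SatA 2 F → Tw S B A A' t → t * t = 1 → Ng (A ⊓ A') t → ∀ E, F.IsEssential 2 E →
  E ≤ B ∨ Nat.card ↥(A ⊓ A') = 4 ∧ E = Qx S (A ⊓ A') t ∧
    ∃ y ∈ E, y ∉ B ∧ ∃ g ∈ Aut F E, g * y * g⁻¹ ∈ A ⊓ A'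

def JobCO3 : Prop := ∀ (Ω : Type u) [Group Ω] [Finite Ω] (S : Subgroup Ω) (F : FusionSystem S)
  (q : ℕ) (B R A A' : Subgroup Ω) (t : Ω), Cf F q B R A A' t → H52.zc B ⊓ Ct R = ⊥ →
  ∃ (K : Type) (_ : Field K) (_ : Finite K) (_ : CharP K 2) (m : K → K → K → Ω),
    2 < Nat.card K ∧ Pre3 F B m t

def JobCO4 : Prop := ∀ (Ω : Type u) [Group Ω] [Finite Ω] (S : Subgroup Ω) (F : FusionSystem S)
  (q : ℕ) (B R A A' : Subgroup Ω) (t : Ω), Cf F q B R A A' t → H52.zc B ⊓ Ct R ≠ ⊥ →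
  ∃ (K : Type) (_ : Field K) (_ : Finite K) (_ : CharP K 2) (m : K → K → K → K → Ω), Pre4 F B m t

def JobFr3 : Prop := ∀ (K : Type) [Field K] [Finite K] [CharP K 2] (Ω : Type u) [Group Ω] [Finite Ω]
  (S B : Subgroup Ω) (F : FusionSystem S) (m : K → K → K → Ω) (t : Ω) (σ : RingAut K),
  2 < Nat.card K → St3 F B m t σ →
  (∀ n, M F (A3 m) n → Sw3 m n → Fr F B (A3 m) (A3' m) (X3 m) t n) ∧ PP3 σ (P3 F B m) ∧
    ∀ g ∈ Nm (X3 m) ⊓ Nm (cj t (X3 m)), ∃ c c' ρ, c ≠ 0 ∧ c' ≠ 0 ∧ Dg3 m g c c' ρ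

def JobS3 : Prop := JobFr3.{u} → ∀ (K : Type) [Field K] [Finite K] [CharP K 2] (Ω : Type u) [Group Ω]
  [Finite Ω] (S B : Subgroup Ω) (F : FusionSystem S) (m : K → K → K → Ω) (t : Ω), 2 < Nat.card K →
  Pre3 F B m t → ∃ (m' : K → K → K → Ω) (t' : Ω) (σ : RingAut K),
    Std3 F B m' t' σ ∧ (σ = 1 → t ∈ Ct (Z3 m))

def JobS4 : Prop := ∀ (K : Type) [Field K] [Finite K] [CharP K 2] (Ω : Type u) [Group Ω] [Finite Ω]
  (S B : Subgroup Ω) (F : FusionSystem S) (m : K → K → K → K → Ω) (t : Ω),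
  Pre4 F B m t → ∃ (m' : K → K → K → K → Ω) (t' : Ω) (σ : RingAut K), Std4 F B m' t' σ

def JobFr4 : Prop := ∀ (K : Type) [Field K] [Finite K] [CharP K 2] (Ω : Type u) [Group Ω] [Finite Ω]
  (S B : Subgroup Ω) (F : FusionSystem S) (m : K → K → K → K → Ω) (t : Ω) (σ : RingAut K)
  (s : Std4 F B m t σ),
  (∀ n, M F (s.t4.co.Q 0) n → Sw4 m n → Fr F B (s.t4.co.Q 0) s.t4.co.V (X4 m) t n) ∧
    (∃ Φ : Subgroup (RingAut K), ∀ α β ρ, α ≠ 0 → β ≠ 0 →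
      ((∃ g, M F B g ∧ Dg4 m g α β ρ) ↔ ρ ∈ Φ)) ∧
    ∀ g ∈ Aut F B, g ∈ Nm (X4 m) ⊓ Nm (cj t (X4 m)) → ∃ α β ρ, α ≠ 0 ∧ β ≠ 0 ∧ Dg4 m g α β ρ

def JobM3 : Prop := ∀ (K : Type) [Field K] [Finite K] [CharP K 2] (σ : RingAut K)
  (P : K → K → RingAut K → Prop), 2 < Nat.card K → σ * σ = 1 → PP3 σ P → Mod3 σ P

def JobA6 : Prop := ∀ (K : Type) [Field K], Nat.card K = 2 →
  Nonempty (MulAut (Matrix.symplecticGroup (Fin 2) K) ≃* MulAut ↥(alternatingGroup (Fin 6)))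

def JobM4 : Prop := JobA6 → ∀ (K : Type) [Field K] [Finite K] [CharP K 2] (σ : RingAut K)
  (Φ : Subgroup (RingAut K)), (∀ x, σ (σ x) ^ 2 = x) → Mod4 σ Φ

/-- `J₃`: Sylow subgroup in coordinates, one class of involutions. -/
def JobJ3m : Prop := ∀ (K : Type) [Field K], Nat.card K = 4 →
  ∃ (G : Type) (_ : Group G) (_ : Finite G) (T : Sylow 2 G) (B : Subgroup G) (m : K → K → K → G)
    (t : G), Spor.IsoJ3 G ∧ He B m ∧ Tw (T : Subgroup G) B (A3 m) (A3' m) t ∧ t ∉ Ct (Z3 m) ∧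
    ∀ x y : G, orderOf x = 2 → orderOf y = 2 → IsConj x y

/-- `J₃` in normalized coordinates. -/
def JobJ3n : Prop := JobEn.{0} → JobFr3.{0} → JobS3.{0} → JobJ3m → ∀ (K : Type) [Field K] [Finite K]
  [CharP K 2] (σ : RingAut K), Nat.card K = 4 → σ ≠ 1 →
  ∃ (G : Type) (_ : Group G) (_ : Finite G) (T : Sylow 2 G) (B : Subgroup G) (m : K → K → K → G)
    (t : G), Spor.IsoJ3 G ∧ T3 T B m t σ ∧ (∃ n, Sw3 m n) ∧ ¬ Sc T B

/-- The automizer of `Q = 2^{1+4}_-`. -/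
def JobQ5 : Prop := JobEn.{u} → JobFr3.{u} → ∀ (K : Type) [Field K] [Finite K] [CharP K 2]
  (Ω : Type u) [Group Ω] [Finite Ω] (S B : Subgroup Ω) (F : FusionSystem S) (m : K → K → K → Ω)
  (t : Ω) (σ : RingAut K), Nat.card K = 4 → σ ≠ 1 → St3 F B m t σ → ¬ In F B →
  (∀ c c', c ≠ 0 → c' ≠ 0 → P3 F B m c c' 1) ∧ ∀ E : FusionSystem S, SatA 2 E →
    Aut E (Qx S (A3 m ⊓ A3' m) t) ≤ Aut F (Qx S (A3 m ⊓ A3' m) t)

/-- `L₃(3)` extended by the graph automorphism. -/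
def JobM33 : Prop := ∀ (K : Type) [Field K], Nat.card K = 2 →
  ∃ (G : Type) (_ : Group G) (_ : Finite G) (T : Sylow 2 G) (B : Subgroup G) (m : K → K → K → K → G)
    (t : G) (h : Co B m), Tw (T : Subgroup G) B (h.Q 0) h.V t ∧
    (∀ w, ∃ y, t * m 0 0 w 0 * t⁻¹ = m 0 y 0 0) ∧ (∀ g ∈ Nm (h.Q 0), g ∈ Nm h.Z) ∧
    (∃ g ∈ Nm (h.Q 0), g ∉ Nm h.Y) ∧ ¬ Sc T B ∧ Alt6 G

/-- `L₃(3):2` in normalized coordinates. -/
def JobM33n : Prop := JobS4.{0} → JobM33 → ∀ (K : Type) [Field K] [Finite K] [CharP K 2]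
  (σ : RingAut K), Nat.card K = 2 →
  ∃ (G : Type) (_ : Group G) (_ : Finite G) (T : Sylow 2 G) (B : Subgroup G) (m : K → K → K → K → G)
    (t : G), T4 T B m t σ ∧ (∃ n, Sw4 m n) ∧ ¬ Sc T B ∧ Alt6 G

/-- The automizer of `Q = 4 ∘ Q₈`. -/
def JobQ3 : Prop := JobEn.{u} → ∀ (K : Type) [Field K] [Finite K] [CharP K 2]
  (Ω : Type u) [Group Ω] [Finite Ω] (S B : Subgroup Ω) (F E : FusionSystem S)
  (m : K → K → K → K → Ω) (t : Ω) (σ : RingAut K) (h : T4 S B m t σ), Nat.card K = 2 →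
  SatA 2 F → SatA 2 E → ¬ In F B →
  Aut E (Qx S (h.co.Q 0 ⊓ h.co.V) t) ≤ Aut F (Qx S (h.co.Q 0 ⊓ h.co.V) t)

end H87.HM
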