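/- Spec of the tower SP4 (row S5260, blueprints/SP4.md): fusion systems on a Sylow `p`-subgroup of
`Sp₄(q)`, `q = pⁿ`, with a non-trivial normal subgroup are realizable. -/
import Cfsg.Agent.H92.EsA
import Cfsg.Agent.H92.Syl

set_option autoImplicit false

namespace H87.S4
open Cfsg Cfsg.FusionSystem H92 H93 Subgroup

universe u v

/-- Automorphisms of an additive group, as a multiplicative group. -/
abbrev A (N : Type*) [AddCommGroup N] := N ≃ₗ[ℤ] N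

/-- Coordinates on a Sylow subgroup of `Sp₄(K)`: `(c, y, w)` a symmetric matrix, `a` the unipotent
element of `GL₂(K)`. -/
structure Co {K Ω : Type*} [Field K] [Group Ω] (S : Subgroup Ω) (m : K → K → K → K → Ω) : Prop where
  mem : ∀ c y w a, m c y w a ∈ S
  surj : ∀ g ∈ S, ∃ c y w a, g = m c y w a
  mul : ∀ c y w a c' y' w' a', m c y w a * m c' y' w' a' =
    m (c + c') (y + y' + a * c') (w + w' + 2 * a * y' + a ^ 2 * c') (a + a')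
  inj : ∀ {c y w a c' y' w' a'}, m c y w a = m c' y' w' a' → c = c' ∧ y = y' ∧ w = w' ∧ a = a'

def JobCO : Prop := ∀ (p : ℕ) [Fact p.Prime] (K : Type v) [Field K] [Fintype K] [CharP K p]
  (T : Sylow p (Matrix.symplecticGroup (Fin 2) K)),
  ∃ m : K → K → K → K → Matrix.symplecticGroup (Fin 2) K, Co (T : Subgroup _) m

/-- The maximal intersection trick. -/
def JobTRK : Prop := ∀ (p : ℕ) [Fact p.Prime] (N : Type v) [AddCommGroup N] [Finite N]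
  (Γ U : Subgroup (A N)) (B : Set N), SylIn p U Γ → U ≠ ⊥ →
  (∀ u ∈ U, u ≠ 1 → ∀ x, u x = x ↔ x ∈ B) → (∀ x ∉ B, ∀ b ∈ B, ∃ u ∈ U, u x = x + b) →
  ∀ g ∈ Γ, (∀ b ∈ B, g b ∈ B) ∨ ∀ b ∈ B, g b ∈ B → b = 0

/-- The spread lemma: a natural `SL₂(K)` in the coordinates `(x, y + φ x)`. -/
def JobSP : Prop := ∀ (p : ℕ) [Fact p.Prime] (K : Type v) [Field K] [Finite K] [CharP K p]
  (Γ Γ₀ U : Subgroup (A (K × K))), (∀ g, g ∈ U ↔ ∃ a, ∀ x y, g (x, y) = (x, y + a * x)) →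
  SylIn p U Γ → U ≤ Γ₀ → Γ ≤ Nm Γ₀ → (∃ g ∈ Γ, ∃ y, (g (0, y)).1 ≠ 0) →
  ∃ φ : K →+ K,
    (∀ g ∈ Γ, (∀ y, (g (0, y)).1 = 0) ∨ ∃ a, ∀ y, (g (0, y)).2 = φ (g (0, y)).1 + a * (g (0, y)).1) ∧
    (∀ s, s ≠ 0 → ∃ g ∈ Γ₀, ∀ x y, g (x, y + φ x) = (s⁻¹ * x, s * y + φ (s⁻¹ * x))) ∧
    ∃ g ∈ Γ₀, ∀ x y, g (x, y + φ x) = (y, -x + φ y)

section odd
variable {K : Type*} [Field K]

/-- `U` is the cubic unipotent group, a Sylow `p`-subgroup of `Γ`. -/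
structure D3 (p : ℕ) (Γ U : Subgroup (A (K × K × K))) : Prop where
  hU : ∀ g, g ∈ U ↔ ∃ a, ∀ c y w, g (c, y, w) = (c, y + a * c, w + 2 * a * y + a ^ 2 * c)
  syl : SylIn p U Γ

/-- `g` preserves `Z = 0 × 0 × K`. -/
def PZ (g : A (K × K × K)) : Prop := ∀ w, ∃ w', g (0, 0, w) = (0, 0, w')

/-- `g` preserves `0 × K × K`. -/
def PY (g : A (K × K × K)) : Prop := ∀ y w, (g (0, y, w)).1 = 0

/-- `g` acts on the three layers by `s², s, 1`. -/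
def Lay (s : K) (g : A (K × K × K)) : Prop := (∀ c y w, (g (c, y, w)).1 = s ^ 2 * c) ∧
  (∀ y w, (g (0, y, w)).2.1 = s * y) ∧ ∀ w, g (0, 0, w) = (0, 0, w)

/-- The configuration that is excluded by counting (blueprint section Des). -/
structure Des (p : ℕ) (Γ U : Subgroup (A (K × K × K))) (E : AddSubgroup K) : Prop
    extends D3 p Γ U where
  nz : ∀ g ∈ Γ, PZ g → PY g
  tor : ∀ s, s ≠ 0 → ∃ d ∈ Γ, ∀ c y w, d (c, y, w) = (s ^ 2 * c, s * y, w)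
  cen : ∀ g ∈ Γ, (∀ w, g (0, 0, w) = (0, 0, w)) →
    ∃ u ∈ U, ∃ s, s ≠ 0 ∧ ∀ c y w, g (c, y, w) = u (s ^ 2 * c, s * y, w)
  ne : E ≠ ⊥
  fix : ∀ g ∈ Γ, ∀ e ∈ E, g (0, 0, e) = (0, 0, e)
  meet : ∀ g ∈ Γ, PZ g ∨ ∀ w w', g (0, 0, w) = (0, 0, w') → w ∈ E
  mv : ∃ g ∈ Γ, ¬ PZ g

/-- The conjugates of `Z` centralized by `τ = diag(1, -1, 1)`. -/
def Sig (Γ : Subgroup (A (K × K × K))) : Set (Set (K × K × K)) :=
  {P | (∃ g ∈ Γ, P = Set.range fun w => g (0, 0, w)) ∧ ∀ v ∈ P, v.2.1 = 0}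

end odd

def JobNZ : Prop := JobSP.{v} → ∀ (p : ℕ) [Fact p.Prime] (K : Type v) [Field K] [Finite K]
  [CharP K p] (Γ U : Subgroup (A (K × K × K))), p ≠ 2 → D3 p Γ U → ∀ g ∈ Γ, PZ g → PY g

def JobDiv : Prop := ∀ (p : ℕ) [Fact p.Prime] (K : Type v) [Field K] [Finite K] [CharP K p]
  (Γ U : Subgroup (A (K × K × K))) (E : AddSubgroup K), p ≠ 2 → Des p Γ U E →
  (Sig Γ).ncard ∣ Nat.card K - 1 ∧ 2 ≤ (Sig Γ).ncard

def JobNum : Prop := ∀ (p : ℕ) [Fact p.Prime] (K : Type v) [Field K] [Finite K] [CharP K p]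
  (Γ U : Subgroup (A (K × K × K))) (E : AddSubgroup K), p ≠ 2 → Des p Γ U E →
  (Sig Γ).ncard ∣ Nat.card K - 1 → 2 ≤ (Sig Γ).ncard → False

/-- The result on the cubic module. -/
def V3 : Prop := ∀ (p : ℕ) [Fact p.Prime] (K : Type v) [Field K] [Finite K] [CharP K p]
  (Γ U : Subgroup (A (K × K × K))), p ≠ 2 → D3 p Γ U → (∀ s, s ≠ 0 → ∃ g ∈ Γ, Lay s g) →
  ∀ r : K, r ≠ 0 → (∀ g ∈ Γ, ∃ w, g (0, 0, r) = (0, 0, w)) → ∀ g ∈ Γ, PZ g ∧ PY g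

def JobV3 : Prop := JobSP.{v} → JobNZ.{v} → JobDiv.{v} → JobNum.{v} → V3.{v}

/-- Odd characteristic. -/
def JobFO : Prop := JobTRK.{u} → JobSP.{v} → V3.{v} →
  ∀ (p : ℕ) [Fact p.Prime] (K : Type v) [Field K] [Finite K] [CharP K p] (Ω : Type u) [Group Ω]
  [Finite Ω] (S : Subgroup Ω) (F : FusionSystem S) (m : K → K → K → K → Ω), p ≠ 2 → SatA p F →
  Co S m → F.core ≠ ⊥ → F.IsConstrained p

section two
variable {K : Type*} [Field K]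

/-- The quadratic modules in characteristic 2: `θ t x = t² x` or `t x²`. -/
structure D2 (θ : K → K → K) (Γ U : Subgroup (A (K × K × K))) : Prop where
  th : (∀ t x, θ t x = t ^ 2 * x) ∨ ∀ t x, θ t x = t * x ^ 2
  hU : ∀ g, g ∈ U ↔ ∃ t, ∀ x y w, g (x, y, w) = (x, y + t * x, w + θ t x)
  syl : SylIn 2 U Γ
  mv : ∃ g ∈ Γ, ¬ PY g

end two

/-- One of the two lines is invariant and contains every vector whose orbit lies in `0 × K × K`. -/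
def JobP2 : Prop := ∀ (K : Type v) [Field K] [Finite K] [CharP K 2] (θ : K → K → K)
  (Γ U : Subgroup (A (K × K × K))), D2 θ Γ U →
  ((∀ g ∈ Γ, PZ g) ∧ ∀ y w, (∀ g ∈ Γ, (g (0, y, w)).1 = 0) → y = 0) ∨
  ((∀ g ∈ Γ, ∀ y, ∃ y', g (0, y, 0) = (0, y', 0)) ∧
    ∀ y w, (∀ g ∈ Γ, (g (0, y, w)).1 = 0) → w = 0)

/-- Weyl element, Bruhat decomposition, torus. -/
def JobW : Prop := JobSP.{v} → ∀ (K : Type v) [Field K] [Finite K] [CharP K 2] (θ : K → K → K)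
  (Γ U : Subgroup (A (K × K × K))), D2 θ Γ U → (∀ g ∈ Γ, PZ g) →
  ∃ n ∈ Γ, n * n = 1 ∧ (∀ y, (n (0, y, 0)).1 = y) ∧ (∀ w, n (0, 0, w) = (0, 0, w)) ∧
    (∀ g ∈ Γ, PY g ∨ ∃ u ∈ U, PY (n * u * g)) ∧
    ∀ s, s ≠ 0 → ∃ d ∈ Γ, (∀ x y w, (d (x, y, w)).1 = s⁻¹ * x) ∧
      (∀ y w, (d (0, y, w)).2.1 = s * y) ∧ ∀ w, d (0, 0, w) = (0, 0, w)

/-- A finite group with the exceptional fusion pattern (`ty`: the line is central). -/
def Mod (K : Type*) [Field K] (ty : Prop) : Prop :=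
  ∃ (G : Type) (_ : Group G) (_ : Finite G) (T : Sylow 2 G) (m : K → K → K → K → G),
    Co (T : Subgroup G) m ∧ (∀ g w, ∃ w', g * m 0 0 w 0 * g⁻¹ = m 0 0 w' 0) ∧
    (ty ↔ ∀ g w, g * m 0 0 w 0 * g⁻¹ = m 0 0 w 0) ∧
    (∃ g, (∀ c y w, ∃ c' y' w', g * m c y w 0 * g⁻¹ = m c' y' w' 0) ∧
      ∃ y w c' y' w', c' ≠ 0 ∧ g * m 0 y w 0 * g⁻¹ = m c' y' w' 0) ∧
    ∃ g, (∀ y w a, ∃ y' w' a', g * m 0 y w a * g⁻¹ = m 0 y' w' a') ∧
      ∃ y w y' w' a', a' ≠ 0 ∧ g * m 0 y w 0 * g⁻¹ = m 0 y' w' a'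

/-- `A₆ × 2` (or `L₃(2) × 2`). -/
def JobM2 : Prop := ∀ (K : Type v) [Field K], Nat.card K = 2 → Mod K True

/-- `2²·L₃(4)` and `2²·L₃(4)·3`. -/
def JobM4 : Prop := ∀ (K : Type v) [Field K], Nat.card K = 4 → Mod K True ∧ Mod K False

/-- Characteristic 2. -/
def JobF2 : Prop := JobSP.{v} → JobP2.{v} → JobW.{v} → JobM2.{v} → JobM4.{v} →
  ∀ (K : Type v) [Field K] [Finite K] [CharP K 2] (Ω : Type u) [Group Ω]
  [Finite Ω] (S : Subgroup Ω) (F : FusionSystem S) (m : K → K → K → K → Ω), SatA 2 F →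
  Co S m → F.core ≠ ⊥ → F.IsRealizable 2

end H87.S4
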