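/- Kit of the tower SP4: automorphisms of additive groups, induced actions on sections. -/
import Cfsg.Agent.H87.S4Spec

set_option autoImplicit false

namespace H87.S4
open Cfsg Cfsg.FusionSystem H92 H93 Subgroup

instance finA (N : Type*) [AddCommGroup N] [Finite N] : Finite (A N) :=
  Finite.of_injective (fun f : A N => (f : N → N)) DFunLike.coe_injective

/-- An automorphism from an additive map with an inverse. -/
def mkA {N : Type*} [AddCommGroup N] (f g : N → N) (add : ∀ x y, f (x + y) = f x + f y)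
    (l : ∀ x, g (f x) = x) (r : ∀ x, f (g x) = x) : A N :=
  AddEquiv.toIntLinearEquiv ⟨⟨f, g, l, r⟩, add⟩

@[simp] theorem mkA_apply {N : Type*} [AddCommGroup N] (f g : N → N) (add l r) (x : N) :
    mkA f g add l r x = f x := rfl

section
variable {N : Type*} [AddCommGroup N]
@[simp] theorem A.inv_self (g : A N) (x : N) : g⁻¹ (g x) = x := g.symm_apply_apply x
@[simp] theorem A.self_inv (g : A N) (x : N) : g (g⁻¹ x) = x := g.apply_symm_apply x
theorem A.mul_apply (g h : A N) (x : N) : (g * h) x = g (h x) := rfl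
theorem A.one_apply (x : N) : (1 : A N) x = x := rfl
end

section
variable {K : Type*} [Field K]

def u2 (a : K) : A (K × K) := mkA (fun v => (v.1, v.2 + a * v.1)) (fun v => (v.1, v.2 - a * v.1))
  (fun _ _ => Prod.ext rfl (by simp only [Prod.snd_add, Prod.fst_add]; ring))
  (fun _ => Prod.ext rfl (by simp)) fun _ => Prod.ext rfl (by simp)

@[simp] theorem u2_apply (a x y : K) : u2 a (x, y) = (x, y + a * x) := rfl

def u3 (a : K) : A (K × K × K) :=
  mkA (fun v => (v.1, v.2.1 + a * v.1, v.2.2 + 2 * a * v.2.1 + a ^ 2 * v.1))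
    (fun v => (v.1, v.2.1 - a * v.1, v.2.2 - 2 * a * v.2.1 + a ^ 2 * v.1))
    (fun _ _ => Prod.ext rfl (Prod.ext (by simp only [Prod.snd_add, Prod.fst_add]; ring)
      (by simp only [Prod.snd_add, Prod.fst_add]; ring)))
    (fun _ => Prod.ext rfl (Prod.ext (by simp) (by simp only; ring)))
    fun _ => Prod.ext rfl (Prod.ext (by simp) (by simp only; ring))

@[simp] theorem u3_apply (a c y w : K) :
    u3 a (c, y, w) = (c, y + a * c, w + 2 * a * y + a ^ 2 * c) := rfl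

theorem D3.mem {p : ℕ} {Γ U : Subgroup (A (K × K × K))} (h : D3 p Γ U) {g : A (K × K × K)} :
    g ∈ U ↔ ∃ a, g = u3 a :=
  (h.hU g).trans (exists_congr fun _ =>
    ⟨fun e => LinearEquiv.ext fun v => e v.1 v.2.1 v.2.2, fun e _ _ _ => e ▸ rfl⟩)

/-- `(x, y, w) ↦ (x, y + t x, w + θ x)`. -/
def ut (t : K) (θ : K →+ K) : A (K × K × K) :=
  mkA (fun v => (v.1, v.2.1 + t * v.1, v.2.2 + θ v.1)) (fun v => (v.1, v.2.1 - t * v.1, v.2.2 - θ v.1))
    (fun _ _ => Prod.ext rfl (Prod.ext (by simp only [Prod.snd_add, Prod.fst_add]; ring)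
      (by simp only [Prod.snd_add, Prod.fst_add, map_add]; ring)))
    (fun _ => Prod.ext rfl (Prod.ext (by simp) (by simp)))
    fun _ => Prod.ext rfl (Prod.ext (by simp) (by simp))

@[simp] theorem ut_apply (t : K) (θ : K →+ K) (x y w : K) :
    ut t θ (x, y, w) = (x, y + t * x, w + θ x) := rfl

/-- The diagonal map. -/
def dg (r s t : K) (hr : r ≠ 0) (hs : s ≠ 0) (ht : t ≠ 0) : A (K × K × K) :=
  mkA (fun v => (r * v.1, s * v.2.1, t * v.2.2)) (fun v => (r⁻¹ * v.1, s⁻¹ * v.2.1, t⁻¹ * v.2.2))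
    (fun _ _ => by simp [mul_add]) (fun _ => by simp [hr, hs, ht]) fun _ => by simp [hr, hs, ht]

@[simp] theorem dg_apply (r s t : K) (hr hs ht) (x y w : K) :
    dg r s t hr hs ht (x, y, w) = (r * x, s * y, t * w) := rfl

/-- The projection `K × K × K → K × K`. -/
def pr2 : K × K × K →+ K × K := ⟨⟨fun v => (v.1, v.2.1), rfl⟩, fun _ _ => rfl⟩

@[simp] theorem pr2_apply (x y w : K) : pr2 (x, y, w) = (x, y) := rfl

theorem pr2_surj : Function.Surjective (pr2 (K := K)) := fun v => ⟨(v.1, v.2, 0), rfl⟩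
end

theorem exists_A {X N : Type*} [AddCommGroup N] {D : Set X} {π : X → N} {t t' : X → X}
    (sur : ∀ v, ∃ x ∈ D, π x = v) (wd : ∀ x ∈ D, ∀ y ∈ D, π x = π y → π (t x) = π (t y))
    (wd' : ∀ x ∈ D, ∀ y ∈ D, π x = π y → π (t' x) = π (t' y))
    (add : ∀ x ∈ D, ∀ y ∈ D, ∃ z ∈ D, π z = π x + π y ∧ π (t z) = π (t x) + π (t y))
    (m : ∀ x ∈ D, t x ∈ D ∧ t' (t x) = x) (m' : ∀ x ∈ D, t' x ∈ D ∧ t (t' x) = x) :
    ∃ γ : A N, ∀ x ∈ D, γ (π x) = π (t x) := by
  choose s hs e using sur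
  have f : ∀ x ∈ D, π (t (s (π x))) = π (t x) := fun x hx => wd _ (hs _) _ hx (e _)
  have f' : ∀ x ∈ D, π (t' (s (π x))) = π (t' x) := fun x hx => wd' _ (hs _) _ hx (e _)
  refine ⟨mkA (fun v => π (t (s v))) (fun v => π (t' (s v))) (fun v w => ?_) (fun v => ?_)
    fun v => ?_, f⟩
  · obtain ⟨z, hz, e1, e2⟩ := add _ (hs v) _ (hs w)
    rw [← e2, ← f z hz, e1, e, e]
  · simp only [f' _ (m _ (hs v)).1, (m _ (hs v)).2, e]
  · simp only [f _ (m' _ (hs v)).1, (m' _ (hs v)).2, e]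

/-- What is known of the image map `I` of subgroups of `H` along the relation `R`. -/
structure Im (p : ℕ) {G G' : Type*} [Group G] [Group G'] (H : Subgroup G) (R : G → G' → Prop)
    (I : Subgroup G → Subgroup G') : Prop where
  ex : ∀ g ∈ H, ∃ γ, R g γ
  mem : ∀ X ≤ H, ∀ γ, γ ∈ I X ↔ ∃ g ∈ X, R g γ
  pp : ∀ X Y, Y ≤ H → PP p X Y → PP p (I X) (I Y)
  nm : ∀ X Y, X ≤ H → Y ≤ H → Y ≤ Nm X → I Y ≤ Nm (I X)
  pg : ∀ X ≤ H, IsPGroup p X → IsPGroup p (I X)
  mono : ∀ X Y, X ≤ Y → I X ≤ I Y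

theorem exists_im (p : ℕ) {G G' : Type*} [Group G] [Group G'] [Finite G] {H : Subgroup G}
    {R : G → G' → Prop} (ex : ∀ g ∈ H, ∃ γ, R g γ) (un : ∀ g γ γ', R g γ → R g γ' → γ = γ')
    (mul : ∀ g ∈ H, ∀ g' ∈ H, ∀ γ γ', R g γ → R g' γ' → R (g * g') (γ * γ')) :
    ∃ I, Im p H R I := by
  choose r hr using fun g : H => ex g g.2
  let ρ : H →* G' := MonoidHom.mk' r fun a b => un _ _ _ (hr _) (mul _ a.2 _ b.2 _ _ (hr a) (hr b))
  refine ⟨fun X => (X.subgroupOf H).map ρ, ex, fun X hX γ => ⟨?_, ?_⟩, fun X Y hY h => ⟨?_, ?_⟩,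
    fun X Y _ _ h => ?_, fun X _ h => (isPGroup_subgroupOf H h).map ρ,
    fun X Y h => map_mono (comap_mono h)⟩
  · rintro ⟨g, hg, rfl⟩; exact ⟨g, hg, hr g⟩
  · rintro ⟨g, hg, e⟩; exact ⟨⟨g, hX hg⟩, hg, un _ _ _ (hr _) e⟩
  · exact map_mono (comap_mono h.1)
  · refine fun d => h.2 (d.trans ?_)
    rw [← relIndex_subgroupOf hY, ← relIndex_comap]
    exact relIndex_dvd_of_le_left _ (le_comap_map _ _)
  · refine (map_mono ?_).trans (le_normalizer_map ρ)
    exact (comap_mono h).trans (le_normalizer_comap H.subtype)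

theorem Im.syl {p : ℕ} [Fact p.Prime] {G G' : Type*} [Group G] [Group G'] [Finite G']
    {H X Y : Subgroup G} {R : G → G' → Prop} {I : Subgroup G → Subgroup G'} (h : Im p H R I)
    (hY : Y ≤ H) (hp : PP p X Y) (hX : IsPGroup p (I X)) : SylIn p (I X) (I Y) :=
  (h.pp X Y hY hp).sylIn hX

/-- Action of a group of automorphisms on a quotient. -/
theorem exists_quot (p : ℕ) {M N : Type*} [AddCommGroup M] [AddCommGroup N] [Finite M] (π : M →+ N)
    (hπ : Function.Surjective π) {H : Subgroup (A M)} (hH : ∀ g ∈ H, ∀ x, π x = 0 → π (g x) = 0) :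
    ∃ I, Im p H (fun g (γ : A N) => ∀ x, γ (π x) = π (g x)) I := by
  have wd : ∀ g ∈ H, ∀ x y, π x = π y → π (g x) = π (g y) := fun g hg x y e => by
    rw [← sub_eq_zero, ← map_sub, ← map_sub]
    exact hH g hg _ (by rw [map_sub, e, sub_self])
  refine exists_im p (fun g hg => ?_) (fun g γ γ' h h' => LinearEquiv.ext fun v => ?_)
    fun g _ g' _ γ γ' h h' x => by rw [A.mul_apply, h', h]; rfl
  · obtain ⟨γ, h⟩ := exists_A (D := Set.univ) (π := π) (t := g) (t' := (g⁻¹ : A M))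
      (fun v => by simpa using hπ v) (fun x _ y _ => wd g hg x y)
      (fun x _ y _ => wd _ (H.inv_mem hg) x y) (fun x _ y _ => ⟨x + y, trivial, by simp⟩)
      (by simp) (by simp)
    exact ⟨γ, fun x => h x trivial⟩
  · obtain ⟨x, rfl⟩ := hπ v
    rw [h, h']

/-- Action by conjugation on an abelian section `E / ker π` of an ambient group. -/
theorem exists_act (p : ℕ) {Ω N : Type*} [Group Ω] [Finite Ω] [AddCommGroup N] {E H : Subgroup Ω}
    {π : Ω → N} (add : ∀ x ∈ E, ∀ y ∈ E, π (x * y) = π x + π y) (sur : ∀ v, ∃ x ∈ E, π x = v)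
    (hE : H ≤ Nm E) (hH : ∀ g ∈ H, ∀ x ∈ E, π x = 0 → π (g * x * g⁻¹) = 0) :
    ∃ I, Im p H (fun g (γ : A N) => ∀ x ∈ E, γ (π x) = π (g * x * g⁻¹)) I := by
  have c : ∀ g ∈ H, ∀ x ∈ E, g * x * g⁻¹ ∈ E := fun g hg x => conj_mem_of_Nm (hE hg)
  have wd : ∀ g ∈ H, ∀ x ∈ E, ∀ y ∈ E, π x = π y → π (g * x * g⁻¹) = π (g * y * g⁻¹) :=
    fun g hg x hx y hy e => by
    have hz := E.mul_mem (E.inv_mem hx) hy
    have e1 := add x hx _ hz
    rw [mul_inv_cancel_left, e, left_eq_add] at e1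
    have e2 := add _ (c g hg x hx) _ (c g hg _ hz)
    rw [hH g hg _ hz e1, add_zero] at e2
    rw [← e2]; congr 1; group
  refine exists_im p (fun g hg => ?_) (fun g γ γ' h h' => LinearEquiv.ext fun v => ?_)
    fun g _ g' hg' γ γ' h h' x hx => by
      rw [A.mul_apply, h' x hx, h _ (c g' hg' x hx)]; congr 1; group
  · refine exists_A (D := E) (t' := fun x => g⁻¹ * x * g⁻¹⁻¹) sur (wd g hg) (wd _ (H.inv_mem hg))
      (fun x hx y hy => ⟨x * y, E.mul_mem hx hy, add x hx y hy, ?_⟩)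
      (fun x hx => ⟨c g hg x hx, by group⟩) fun x hx => ⟨c _ (H.inv_mem hg) x hx, by group⟩
    rw [← add _ (c g hg x hx) _ (c g hg y hy)]; congr 1; group
  · obtain ⟨x, hx, rfl⟩ := sur v
    rw [h x hx, h' x hx]

end H87.S4
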