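/- Kit of the tower SP4: computing in the coordinates `Co`. -/
import Cfsg.Agent.H87.S4K

set_option autoImplicit false

namespace H87.S4
open Cfsg Cfsg.FusionSystem H92 H93 Subgroup

variable {K Ω : Type*} [Field K] [Group Ω] {S : Subgroup Ω} {m : K → K → K → K → Ω}
  {c y w a c' y' w' a' l : K} {g x : Ω}

namespace Co
variable (h : Co S m)
include h

theorem eq_iff : m c y w a = m c' y' w' a' ↔ c = c' ∧ y = y' ∧ w = w' ∧ a = a' :=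
  ⟨h.inj, by rintro ⟨rfl, rfl, rfl, rfl⟩; rfl⟩

theorem one : m 0 0 0 0 = 1 := by
  have := h.mul 0 0 0 0 0 0 0 0
  simpa using this

theorem inv (c y w a : K) :
    (m c y w a)⁻¹ = m (-c) (-y + a * c) (-w + 2 * a * y - a ^ 2 * c) (-a) := by
  rw [inv_eq_iff_mul_eq_one, h.mul, ← h.one]; congr 1 <;> ring

theorem eq_one : m c y w a = 1 ↔ c = 0 ∧ y = 0 ∧ w = 0 ∧ a = 0 := by rw [← h.one, h.eq_iff]

theorem conj (c' y' w' a' c y w a : K) : m c' y' w' a' * m c y w a * (m c' y' w' a')⁻¹ =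
    m c (y + a' * c - a * c') (w + 2 * a' * y + a' ^ 2 * c - 2 * a * y' - a ^ 2 * c') a := by
  rw [h.inv, h.mul, h.mul]; congr 1 <;> ring

/-- The commutator in the form used by `Tv`. -/
theorem tv (c' y' w' a' c y w a : K) :
    (m c y w a)⁻¹ * (m c' y' w' a' * m c y w a * (m c' y' w' a')⁻¹) =
    m 0 (a' * c - a * c') (2 * a' * y + a' ^ 2 * c - 2 * a * y' + a ^ 2 * c' - 2 * a * a' * c) 0 := by
  rw [h.conj, h.inv, h.mul]; congr 1 <;> ring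

theorem comm_iff : m c y w a * m c' y' w' a' = m c' y' w' a' * m c y w a ↔
    a * c' = a' * c ∧ 2 * a * y' + a ^ 2 * c' = 2 * a' * y + a' ^ 2 * c := by
  rw [h.mul, h.mul, h.eq_iff]
  exact ⟨fun ⟨_, e1, e2, _⟩ => ⟨by linear_combination e1, by linear_combination e2⟩,
    fun ⟨e1, e2⟩ => ⟨by ring, by linear_combination e1, by linear_combination e2, by ring⟩⟩

/-- `{m (l a + c) y w a}` with `c, y, a` in given additive subgroups. -/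
def sub (l : K) (C Y B : AddSubgroup K) (hY : ∀ a ∈ B, ∀ a' ∈ B, ∀ c ∈ C, a * (l * a' + c) ∈ Y) :
    Subgroup Ω where
  carrier := {g | ∃ c y w a, c - l * a ∈ C ∧ y ∈ Y ∧ a ∈ B ∧ g = m c y w a}
  one_mem' := ⟨0, 0, 0, 0, by simp, zero_mem _, zero_mem _, h.one.symm⟩
  mul_mem' := by
    rintro _ _ ⟨c, y, w, a, h1, h2, h3, rfl⟩ ⟨c', y', w', a', h1', h2', h3', rfl⟩
    refine ⟨_, _, _, _, ?_, add_mem (add_mem h2 h2') ?_, add_mem h3 h3', h.mul ..⟩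
    · convert add_mem h1 h1' using 1; ring
    · convert hY a h3 a' h3' _ h1' using 1; ring
  inv_mem' := by
    rintro _ ⟨c, y, w, a, h1, h2, h3, rfl⟩
    refine ⟨_, _, _, _, ?_, add_mem (neg_mem h2) ?_, neg_mem h3, h.inv ..⟩
    · convert neg_mem h1 using 1; ring
    · convert hY a h3 a h3 _ h1 using 1; ring

theorem mem_sub {C Y B : AddSubgroup K} {hY} :
    m c y w a ∈ h.sub l C Y B hY ↔ c - l * a ∈ C ∧ y ∈ Y ∧ a ∈ B :=
  ⟨fun ⟨_, _, _, _, h1, h2, h3, e⟩ => by obtain ⟨rfl, rfl, rfl, rfl⟩ := h.inj e; exact ⟨h1, h2, h3⟩,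
    fun ⟨h1, h2, h3⟩ => ⟨_, _, _, _, h1, h2, h3, rfl⟩⟩

theorem sub_le {C Y B : AddSubgroup K} {hY} : h.sub l C Y B hY ≤ S := by
  rintro _ ⟨c, y, w, a, -, -, -, rfl⟩; exact h.mem ..

def V : Subgroup Ω := h.sub 0 ⊤ ⊤ ⊥ fun _ _ _ _ _ _ => trivial
def Q (l : K) : Subgroup Ω := h.sub l ⊥ ⊤ ⊤ fun _ _ _ _ _ _ => trivial
def Y : Subgroup Ω := h.sub 0 ⊥ ⊤ ⊥ fun _ _ _ _ _ _ => trivial
def Z : Subgroup Ω := h.sub 0 ⊥ ⊥ ⊥ fun _ ha _ _ _ _ => by simp [AddSubgroup.mem_bot.1 ha]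

@[simp] theorem mem_V : m c y w a ∈ h.V ↔ a = 0 := h.mem_sub.trans (by simp)
@[simp] theorem mem_Q : m c y w a ∈ h.Q l ↔ c = l * a := h.mem_sub.trans (by simp [sub_eq_zero])
@[simp] theorem mem_Y : m c y w a ∈ h.Y ↔ c = 0 ∧ a = 0 := h.mem_sub.trans (by simp)
@[simp] theorem mem_Z : m c y w a ∈ h.Z ↔ c = 0 ∧ y = 0 ∧ a = 0 := h.mem_sub.trans (by simp)
theorem V_le : h.V ≤ S := h.sub_le
theorem Q_le (l : K) : h.Q l ≤ S := h.sub_le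
theorem Y_le : h.Y ≤ S := h.sub_le
theorem Z_le : h.Z ≤ S := h.sub_le

theorem exV (hx : x ∈ h.V) : ∃ c y w, x = m c y w 0 := by
  obtain ⟨c, y, w, a, rfl⟩ := h.surj x (h.V_le hx)
  exact ⟨c, y, w, by rw [h.mem_V.1 hx]⟩
theorem exQ (hx : x ∈ h.Q l) : ∃ y w a, x = m (l * a) y w a := by
  obtain ⟨c, y, w, a, rfl⟩ := h.surj x (h.Q_le l hx)
  exact ⟨y, w, a, by rw [h.mem_Q.1 hx]⟩
theorem exY (hx : x ∈ h.Y) : ∃ y w, x = m 0 y w 0 := by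
  obtain ⟨c, y, w, a, rfl⟩ := h.surj x (h.Y_le hx)
  obtain ⟨rfl, rfl⟩ := h.mem_Y.1 hx
  exact ⟨y, w, rfl⟩
theorem exZ (hx : x ∈ h.Z) : ∃ w, x = m 0 0 w 0 := by
  obtain ⟨c, y, w, a, rfl⟩ := h.surj x (h.Z_le hx)
  obtain ⟨rfl, rfl, rfl⟩ := h.mem_Z.1 hx
  exact ⟨w, rfl⟩

theorem Z_le_Y : h.Z ≤ h.Y := fun _ hx => by obtain ⟨w, rfl⟩ := h.exZ hx; simp
theorem Y_le_V : h.Y ≤ h.V := fun _ hx => by obtain ⟨y, w, rfl⟩ := h.exY hx; simp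
theorem Y_le_Q (l : K) : h.Y ≤ h.Q l := fun _ hx => by obtain ⟨y, w, rfl⟩ := h.exY hx; simp
theorem V_inf_Q (l : K) : h.V ⊓ h.Q l = h.Y :=
  le_antisymm (fun _ hx => by
    obtain ⟨c, y, w, rfl⟩ := h.exV hx.1
    simpa using h.mem_Q.1 hx.2) (le_inf h.Y_le_V (h.Y_le_Q l))

theorem V_comm : h.V ≤ Ct h.V := fun _ hx => mem_Ct'.2 fun _ hy => by
  obtain ⟨c, y, w, rfl⟩ := h.exV hx
  obtain ⟨c', y', w', rfl⟩ := h.exV hy
  simp [h.comm_iff]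

theorem Z_cen : S ≤ Ct h.Z := fun x hx => mem_Ct'.2 fun _ hy => by
  obtain ⟨c, y, w, a, rfl⟩ := h.surj x hx
  obtain ⟨w', rfl⟩ := h.exZ hy
  simp [h.comm_iff]

theorem tvY (hg : g ∈ S) (hx : x ∈ S) : x⁻¹ * (g * x * g⁻¹) ∈ h.Y := by
  obtain ⟨c, y, w, a, rfl⟩ := h.surj x hx
  obtain ⟨c', y', w', a', rfl⟩ := h.surj g hg
  simp [h.tv]

/-- Every subgroup between `Y` and `S` is normal in `S`. -/
theorem le_Nm [Finite Ω] {E : Subgroup Ω} (h1 : h.Y ≤ E) (h2 : E ≤ S) : S ≤ Nm E :=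
  fun _ hs => mem_Nm_of_conj fun x hx => by simpa using E.mul_mem hx (h1 (h.tvY hs (h2 hx)))

theorem S_Tv [Finite Ω] : S ≤ Tv S h.Y := fun _ hs =>
  ⟨h.le_Nm le_rfl h.Y_le hs, fun _ hx => h.tvY hs hx⟩

theorem S_TvZ : S ≤ Tv h.Y h.Z := fun g hs => ⟨Ct_le_Nm _ (h.Z_cen hs), fun _ hx => by
  obtain ⟨y, w, rfl⟩ := h.exY hx
  obtain ⟨c', y', w', a', rfl⟩ := h.surj g hs
  simp [h.tv]⟩

theorem Y_TvZ : h.Y ≤ Tv S h.Z := fun _ hs => ⟨Ct_le_Nm _ (h.Z_cen (h.Y_le hs)), fun x hx => by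
  obtain ⟨y, w, rfl⟩ := h.exY hs
  obtain ⟨c', y', w', a', rfl⟩ := h.surj x hx
  simp [h.tv]⟩

theorem Q_TvZ (l : K) : h.Q l ≤ Tv (h.Q l) h.Z := fun _ hs =>
  ⟨Ct_le_Nm _ (h.Z_cen (h.Q_le l hs)), fun _ hx => by
    obtain ⟨y, w, a, rfl⟩ := h.exQ hs
    obtain ⟨y', w', a', rfl⟩ := h.exQ hx
    simp only [h.tv, mem_Z, true_and, and_true]; ring⟩

open Classical in
/-- The coordinates of an element of `S`. -/
noncomputable def co (_ : Co S m) (g : Ω) : K × K × K × K :=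
  if e : ∃ v : K × K × K × K, g = m v.1 v.2.1 v.2.2.1 v.2.2.2 then e.choose else 0

@[simp] theorem co_m (c y w a : K) : h.co (m c y w a) = (c, y, w, a) := by
  have e : ∃ v : K × K × K × K, m c y w a = m v.1 v.2.1 v.2.2.1 v.2.2.2 := ⟨(c, y, w, a), rfl⟩
  obtain ⟨h1, h2, h3, h4⟩ := h.inj e.choose_spec
  rw [co, dif_pos e]
  exact (Prod.ext h1 (Prod.ext h2 (Prod.ext h3 h4))).symm

theorem map {Ω' : Type*} [Group Ω'] {S' : Subgroup Ω'} (e : S ≃* S') :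
    Co S' fun c y w a => (e ⟨m c y w a, h.mem ..⟩ : Ω') where
  mem _ _ _ _ := Subtype.prop _
  surj g hg := by
    obtain ⟨c, y, w, a, r⟩ := h.surj _ (e.symm ⟨g, hg⟩).2
    exact ⟨c, y, w, a, by simp only [← r, Subtype.coe_eta, e.apply_symm_apply]⟩
  mul _ _ _ _ _ _ _ _ := by
    rw [← coe_mul, ← map_mul]; congr 2; exact Subtype.ext (h.mul ..)
  inj r := h.inj (congrArg Subtype.val (e.injective (Subtype.ext r)))

/-- Two groups with coordinates over the same field are isomorphic. -/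
theorem exists_hom {Ω' : Type*} [Group Ω'] {S' : Subgroup Ω'} {m' : K → K → K → K → Ω'}
    (h' : Co S' m') : ∃ ι : S →* Ω', Function.Injective ι ∧ ι.range = S' ∧
      ∀ c y w a, ι ⟨m c y w a, h.mem ..⟩ = m' c y w a := by
  let f : Ω → Ω' := fun g => m' (h.co g).1 (h.co g).2.1 (h.co g).2.2.1 (h.co g).2.2.2
  have hf : ∀ c y w a, f (m c y w a) = m' c y w a := fun c y w a => by simp [f]
  have mu : ∀ g k : S, f (g * k : S) = f g * f k := fun ⟨g, hg⟩ ⟨k, hk⟩ => by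
    obtain ⟨c, y, w, a, rfl⟩ := h.surj g hg
    obtain ⟨c', y', w', a', rfl⟩ := h.surj k hk
    show f (_ * _) = f _ * f _
    rw [h.mul, hf, hf, hf, h'.mul]
  refine ⟨MonoidHom.mk' (fun g => f g) mu, ?_, le_antisymm ?_ fun g hg => ?_, hf⟩
  · rintro ⟨g, hg⟩ ⟨k, hk⟩ e
    obtain ⟨c, y, w, a, rfl⟩ := h.surj g hg
    obtain ⟨c', y', w', a', rfl⟩ := h.surj k hk
    exact Subtype.ext (h.eq_iff.2 (h'.inj (by rw [← hf, ← hf]; exact e)))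
  · rintro _ ⟨g, rfl⟩; exact h'.mem ..
  · obtain ⟨c, y, w, a, rfl⟩ := h'.surj g hg
    exact ⟨⟨_, h.mem ..⟩, hf ..⟩

end Co
end H87.S4
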