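/- Tower SP4, odd characteristic: the candidates for essential subgroups. -/
import Cfsg.Agent.H87.S4C
import Cfsg.Agent.H93.Grp

set_option autoImplicit false

namespace H87.S4
open Cfsg Cfsg.FusionSystem H92 H92.Es H93 Subgroup

universe u v

variable {K : Type v} {Ω : Type u} [Field K] [Group Ω] {S : Subgroup Ω} {m : K → K → K → K → Ω}
  {F : FusionSystem S} {E : Subgroup Ω} {c y w a l k : K} {g x : Ω} {p : ℕ}

namespace Co
variable (h : Co S m) (h2 : (2 : K) ≠ 0)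
include h h2

theorem cenQ (l : K) : h.Q l ⊓ Ct (h.Q l) = h.Z := by
  refine le_antisymm (fun x hx => ?_) (le_inf (h.Z_le_Y.trans (h.Y_le_Q l))
    (le_Ct_comm.1 ((h.Q_le l).trans h.Z_cen)))
  obtain ⟨y, w, a, rfl⟩ := h.exQ hx.1
  have e1 := (h.comm_iff.1 (mem_Ct'.1 hx.2 (m 0 1 0 0) (by simp))).2
  have e2 := (h.comm_iff.1 (mem_Ct'.1 hx.2 (m l 0 0 1) (by simp))).2
  obtain rfl : a = 0 := mul_left_cancel₀ h2 (by linear_combination -e1)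
  obtain rfl : y = 0 := mul_left_cancel₀ h2 (by linear_combination e2)
  simp

theorem cenS : S ⊓ Ct S = h.Z := by
  refine le_antisymm (fun x hx => ?_) (le_inf h.Z_le (le_Ct_comm.1 h.Z_cen))
  obtain ⟨c, y, w, a, rfl⟩ := h.surj x hx.1
  have e1 := (h.comm_iff.1 (mem_Ct'.1 hx.2 _ (h.mem 1 0 0 0))).1
  have e2 := h.comm_iff.1 (mem_Ct'.1 hx.2 _ (h.mem 0 0 0 1))
  obtain rfl : a = 0 := by linear_combination -e1
  obtain rfl : c = 0 := by linear_combination e2.1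
  obtain rfl : y = 0 := mul_left_cancel₀ h2 (by linear_combination e2.2)
  simp

omit h2 in
theorem z2 : S ⊓ Tv S h.Z = h.Y := by
  refine le_antisymm (fun x hx => ?_) (le_inf h.Y_le h.Y_TvZ)
  obtain ⟨c, y, w, a, rfl⟩ := h.surj x hx.1
  have e1 := hx.2.2 _ (h.mem 1 0 0 0)
  have e2 := hx.2.2 _ (h.mem 0 0 0 1)
  simp only [h.tv, mem_Z] at e1 e2
  exact h.mem_Y.2 ⟨by linear_combination -e2.2.1, by linear_combination e1.2.1⟩

theorem cY : S ⊓ Ct h.Y = h.V := by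
  refine le_antisymm (fun x hx => ?_) (le_inf h.V_le (h.V_comm.trans (Ct_anti h.Y_le_V)))
  obtain ⟨c, y, w, a, rfl⟩ := h.surj x hx.1
  have e1 := (h.comm_iff.1 (mem_Ct'.1 hx.2 (m 0 1 0 0) (by simp))).2
  exact h.mem_V.2 (mul_left_cancel₀ h2 (by linear_combination -e1))

theorem nmS (hg : g ∈ Nm S) : g ∈ Nm h.Z ∧ g ∈ Nm h.Y ∧ g ∈ Nm h.V := by
  have e1 : g ∈ Nm h.Z := h.cenS h2 ▸ mem_Nm_inf hg (mem_Nm_Ct hg)
  have e2 : g ∈ Nm h.Y := h.z2 ▸ mem_Nm_inf hg (mem_Nm_Tv hg e1)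
  exact ⟨e1, e2, h.cY h2 ▸ mem_Nm_inf hg (mem_Nm_Ct e2)⟩

omit h2 in
theorem S_St [Finite Ω] (hE : E ≤ S) : S ≤ St E [h.Y, h.Z] := fun _ hs =>
  ⟨Tv_anti hE _ (h.S_Tv hs), h.S_TvZ hs, h.Z_cen hs⟩

end Co

variable [hp : Fact p.Prime] [Finite Ω] (hF : SatA p F)
include hF

theorem syl_act {N : Type*} [AddCommGroup N] [Finite N] {π : Ω → N} {I : Subgroup Ω → Subgroup (A N)}
    (hI : Im p (Aut F E) (fun g (γ : A N) => ∀ x ∈ E, γ (π x) = π (g * x * g⁻¹)) I)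
    (hE : F.IsFullyNormalized E) : SylIn p (I (S ⊓ Nm E)) (I (Aut F E)) := by
  have e : I ((S ⊓ Nm E) ⊔ Ct E) = I (S ⊓ Nm E) := by
    refine le_antisymm (fun γ hγ => ?_) (hI.mono _ _ le_sup_left)
    obtain ⟨g, hg, r⟩ := (hI.mem _ (Nm_sup_Ct_le_Aut F E) γ).1 hγ
    obtain ⟨a, ha, hc⟩ := (mem_sup_Ct' inf_le_right).1 hg
    exact (hI.mem _ (Nm_le_Aut F E) γ).2
      ⟨a, ha, fun x hx => by rw [r x hx, conj_eq_iff_Ct.2 hc x hx]⟩
  have := hI.pp _ _ le_rfl (hF.pp_of_fn hE)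
  rw [e] at this
  exact this.sylIn (hI.pg _ (Nm_le_Aut F E) (hF.pgl inf_le_left))

theorem st_le {L : List (Subgroup Ω)} (hE : E ≤ S) (hn : S ≤ Nm E) (hL : ∀ B ∈ L, B ≤ S)
    (hS : S ≤ St E L) : Aut F E ⊓ St E L ≤ S ⊔ Ct E := by
  have hA : S ≤ Aut F E := fun s hs => Nm_le_Aut F E ⟨hs, hn hs⟩
  have h1 : (Aut F E ⊓ St E L) ⊔ Ct E ≤ Aut F E := sup_le inf_le_left (Ct_le_Aut F E)
  have := ((hF.pp_of_normal hE hn).mono_right (sup_le_sup_right (le_inf hA hS) _) h1).eq_of_pMod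
    (h1.trans (Aut_le_Nm_Ct F E)) le_sup_right
    (pMod_sup ((pMod_St fun B hB => hF.pgl (hL B hB)).mono inf_le_right le_rfl)
      (inf_le_left.trans (Aut_le_Nm_Ct F E)))
  exact this ▸ le_sup_left

theorem ext_chain {L : List (Subgroup Ω)} (hE : E ≤ S) (hn : S ≤ Nm E) (hL : ∀ B ∈ L, B ≤ S)
    (hS : S ≤ St E L) (hg : g ∈ Aut F E) (hg' : ∀ B ∈ L, g ∈ Nm B) :
    ∃ k ∈ Aut F S, g⁻¹ * k ∈ Ct E := by
  obtain ⟨k, hk, e⟩ := hF.ext_aut hg (hF.fc_of_fn (fn_of_le_Nm F hE hn)) (le_inf le_rfl hn) (by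
    rw [inf_eq_left.2 hn]
    exact cj_le_iff.2 fun s hs => st_le hF hE hn hL hS ⟨mul_mem (mul_mem hg
      (Nm_le_Aut F E ⟨hs, hn hs⟩)) ((Aut F E).inv_mem hg),
      conj_mem_of_Nm (mem_Nm_St (Aut_le_Nm F E hg) hg') (hS hs)⟩)
  rw [sup_eq_right.2 hE] at hk
  exact ⟨k, hk.mem_Aut' hk.cj_le, e⟩

variable (h : Co S m) (h2 : (2 : K) ≠ 0) (hE : F.IsEssential p E)
include h h2 hE

theorem Z_le_ess : h.Z ≤ E := h.cenS h2 ▸ cen_le hF hE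

theorem Y_le_ess (hZ : Aut F E ≤ Nm h.Z) : h.Y ≤ E := fun y hy =>
  mem_of_St hF hE (l := [h.Z]) (by simpa using ⟨Z_le_ess hF h h2 hE, hZ⟩)
    ⟨h.Y_le hy, Nm_of_Tv (h.Y_TvZ hy) (Z_le_ess hF h h2 hE) hE.1.1⟩
    ⟨Tv_anti hE.1.1 _ (h.Y_TvZ hy), h.Z_cen (h.Y_le hy)⟩

omit h2 in
theorem not_YZ (h1 : h.Y ≤ E) (hZ : Aut F E ≤ Nm h.Z) : ¬ Aut F E ≤ Nm h.Y := fun hY =>
  (ess_lt hF hE).not_ge fun s hs => mem_of_St hF hE (l := [h.Y, h.Z])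
    (by simpa using ⟨⟨h1, hY⟩, h.Z_le_Y.trans h1, hZ⟩) ⟨hs, h.le_Nm h1 hE.1.1 hs⟩
    (h.S_St hE.1.1 hs)

theorem caseA (hx : m (l * a) y w a ∈ E) (ha : a ≠ 0) (hZ : Aut F E ≤ Nm h.Z) : E = h.Q l := by
  have hY := Y_le_ess hF h h2 hE hZ
  by_cases hQ : E ≤ h.Q l
  · exact le_antisymm hQ fun s hs => mem_of_St hF hE (l := [h.Z])
      (by simpa using ⟨h.Z_le_Y.trans hY, hZ⟩) ⟨h.Q_le l hs, h.le_Nm hY hE.1.1 (h.Q_le l hs)⟩
      ⟨Tv_anti hQ _ (h.Q_TvZ l hs), h.Z_cen (h.Q_le l hs)⟩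
  obtain ⟨x, hx1, hx2⟩ := SetLike.not_le_iff_exists.1 hQ
  obtain ⟨c1, y1, w1, a1, rfl⟩ := h.surj x (hE.1.1 hx1)
  refine (not_YZ hF h hE hY hZ fun g hg => ?_).elim
  have e : h.Y = E ⊓ Tv E h.Z := by
    refine le_antisymm (le_inf hY (h.Y_TvZ.trans (Tv_anti hE.1.1 _))) fun s hs => ?_
    obtain ⟨c', y', w', a', rfl⟩ := h.surj s (hE.1.1 hs.1)
    have e1 := hs.2.2 _ hx
    have e2 := hs.2.2 _ hx1
    simp only [h.tv, Co.mem_Z] at e1 e2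
    obtain rfl : c' = l * a' := mul_left_cancel₀ ha (by linear_combination -e1.2.1)
    obtain rfl : a' = 0 := mul_right_cancel₀ (sub_ne_zero.2 (mt h.mem_Q.2 hx2))
      (by linear_combination e2.2.1)
    simp
  rw [e]
  exact mem_Nm_inf (Aut_le_Nm F E hg) (mem_Nm_Tv (Aut_le_Nm F E hg) (hZ hg))

theorem caseB (hT : JobTRK.{u}) (h0 : F.core ≠ ⊥)
    (hm : ∀ c y w a, m c y w a ∈ E ↔ c = l * a ∧ 2 * y = k * a + l * a ^ 2) : False := by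
  classical
  have ex : ∀ x ∈ E, ∃ y w a, 2 * y = k * a + l * a ^ 2 ∧ x = m (l * a) y w a := fun x hx => by
    obtain ⟨c, y, w, a, rfl⟩ := h.surj x (hE.1.1 hx)
    obtain ⟨rfl, e⟩ := (hm ..).1 hx
    exact ⟨y, w, a, e, rfl⟩
  have cm : ∀ x ∈ E, ∀ x' ∈ E, x * x' = x' * x := fun x hx x' hx' => by
    obtain ⟨y, w, a, e, rfl⟩ := ex x hx
    obtain ⟨y', w', a', e', rfl⟩ := ex x' hx'
    exact h.comm_iff.2 ⟨by ring, by linear_combination a * e' - a' * e⟩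
  have hZ := Z_le_ess hF h h2 hE
  have hn := isNormal_core F
  have hR := le_of_normal_of_essential hF.pg hF.sat hn hE
  have RZ : F.core ≤ h.Z := fun r hr => by
    obtain ⟨y, w, a, e, rfl⟩ := ex r (hR hr)
    have := hR (mul_mem (inv_mem hr) (conj_mem_of_normal hn (h.mem 1 0 0 0) hr))
    rw [h.tv, hm] at this
    obtain rfl : a = 0 := mul_left_cancel₀ h2 (by linear_combination -this.2)
    obtain rfl : y = 0 := mul_left_cancel₀ h2 (by linear_combination e)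
    simp
  let _ : CommGroup E := { (inferInstance : Group E) with
    mul_comm := fun a b => Subtype.ext (cm _ a.2 _ b.2) }
  let π : Ω → Additive E := fun x => if hx : x ∈ E then Additive.ofMul ⟨x, hx⟩ else 0
  have hπ : ∀ x (hx : x ∈ E), π x = Additive.ofMul ⟨x, hx⟩ := fun x hx => dif_pos hx
  have inj : ∀ x ∈ E, ∀ x' ∈ E, π x = π x' → x = x' := fun x hx x' hx' e => by
    rw [hπ x hx, hπ x' hx'] at e
    exact congrArg Subtype.val (Additive.ofMul.injective e)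
  have add : ∀ x ∈ E, ∀ x' ∈ E, π (x * x') = π x + π x' := fun x hx x' hx' => by
    rw [hπ x hx, hπ x' hx', hπ _ (mul_mem hx hx')]; rfl
  have sur : ∀ v, ∃ x ∈ E, π x = v := fun v => ⟨(Additive.toMul v : E), Subtype.prop _, hπ _ _⟩
  have p1 : π 1 = 0 := hπ 1 (one_mem _)
  obtain ⟨I, hI⟩ := exists_act p add sur (Aut_le_Nm F E) fun g _ x hx e => by
    rw [inj x hx 1 (one_mem _) (e.trans p1.symm)]; simpa using p1
  have cj' : ∀ {g x}, g ∈ Nm E → x ∈ E → g * x * g⁻¹ ∈ E := conj_mem_of_Nm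
  have YN : ∀ y, m 0 y 0 0 ∈ S ⊓ Nm E := fun y =>
    ⟨h.mem .., Nm_of_Tv (h.Y_TvZ (by simp)) hZ hE.1.1⟩
  have mB : ∀ x ∈ E, π x ∈ π '' h.Z ↔ x ∈ h.Z := fun x hx =>
    ⟨fun ⟨z, hz, e⟩ => inj z (hZ hz) x hx e ▸ hz, fun hz => ⟨x, hz, rfl⟩⟩
  have xE : m (l * 1) ((k + l) / 2) 0 1 ∈ E := (hm ..).2 ⟨rfl, by field_simp⟩
  have nY : m 0 1 0 0 ∉ E := fun r => h2 (by simpa using ((hm ..).1 r).2)
  have key := hT p (Additive E) _ _ (π '' h.Z) (syl_act hF hI hE.2.1) (fun r => ?_)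
    (fun u hu u1 v => ?_) fun v hv b hb => ?_
  · refine nY (Y_le_ess hF h h2 hE (fun g hg => mem_Nm_of_conj fun z hz => ?_) (by simp))
    obtain ⟨γ, r⟩ := hI.ex g hg
    obtain ⟨⟨t, ht⟩, t1⟩ := (Subgroup.ne_bot_iff_exists_ne_one).1 h0
    rcases key γ ((hI.mem _ le_rfl γ).2 ⟨g, hg, r⟩) with e | e
    · rw [← mB _ (cj' (Aut_le_Nm F E hg) (hZ hz)), ← r z (hZ hz)]
      exact e _ ⟨z, hz, rfl⟩
    · refine (t1 (Subtype.ext (inj t (hR ht) 1 (one_mem _) ((e _ ⟨t, RZ ht, rfl⟩ ?_).trans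
        p1.symm)))).elim
      rw [r t (hR ht)]
      exact ⟨_, RZ (conj_mem_of_Nm (Aut_le_Nm_of_normal hF hn hE.1.1 hR hg) ht), rfl⟩
  · obtain ⟨γ, e⟩ := hI.ex _ (Nm_le_Aut F E (YN 1))
    have : γ = 1 := by
      rw [← mem_bot, ← r]; exact (hI.mem _ (Nm_le_Aut F E) γ).2 ⟨_, YN 1, e⟩
    have e1 := e _ xE
    rw [this] at e1
    have e2 := inj _ xE _ (cj' (YN 1).2 xE) e1
    rw [h.conj, h.eq_iff] at e2
    exact h2 (by linear_combination e2.2.2.1)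
  · obtain ⟨s, hs, e⟩ := (hI.mem _ (Nm_le_Aut F E) u).1 hu
    obtain ⟨x, hx, rfl⟩ := sur v
    rw [e x hx, mB x hx]
    refine ⟨fun r => ?_, fun r => by rw [conj_eq_of_Ct (h.Z_cen hs.1) r]⟩
    by_contra hz
    refine u1 (LinearEquiv.ext fun v => ?_)
    obtain ⟨x', hx', rfl⟩ := sur v
    rw [e x' hx']
    obtain ⟨c1, y1, w1, a1, rfl⟩ := h.surj s hs.1
    obtain ⟨y, w, a, e0, rfl⟩ := ex x hx
    obtain ⟨y', w', a', e', rfl⟩ := ex x' hx'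
    have e2 := inj _ (cj' hs.2 hx) _ hx r
    rw [h.conj, h.eq_iff] at e2
    have a0 : a ≠ 0 := fun r => hz (by
      subst r
      obtain rfl : y = 0 := mul_left_cancel₀ h2 (by linear_combination e0)
      simp)
    obtain rfl : c1 = l * a1 := mul_left_cancel₀ a0 (by linear_combination -e2.2.1)
    have e3 : 2 * y1 = k * a1 + l * a1 ^ 2 :=
      mul_left_cancel₀ a0 (by linear_combination a1 * e0 - e2.2.2.1)
    rw [cm _ ((hm ..).2 ⟨rfl, e3⟩) _ hx', mul_inv_cancel_right]; rfl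
  · obtain ⟨x, hx, rfl⟩ := sur v
    obtain ⟨z, hz, rfl⟩ := hb
    obtain ⟨w', rfl⟩ := h.exZ hz
    obtain ⟨y, w, a, e0, rfl⟩ := ex x hx
    have a0 : a ≠ 0 := fun r => hv ((mB _ hx).2 (by
      subst r
      obtain rfl : y = 0 := mul_left_cancel₀ h2 (by linear_combination e0)
      simp))
    obtain ⟨γ, e⟩ := hI.ex _ (Nm_le_Aut F E (YN (-w' / (2 * a))))
    refine ⟨γ, (hI.mem _ (Nm_le_Aut F E) γ).2 ⟨_, YN _, e⟩, ?_⟩
    rw [e _ hx, ← add _ hx _ (hZ hz), h.conj, h.mul]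
    congr 2
    all_goals first | ring1 | (field_simp; ring1)

theorem ess_cases (hT : JobTRK.{u}) (h0 : F.core ≠ ⊥) : E = h.V ∨ ∃ l, E = h.Q l := by
  by_cases hV : E ≤ h.V
  · exact Or.inl (le_antisymm hV ((le_inf h.V_le (h.V_comm.trans (Ct_anti hV))).trans
      (centric_Ct_le hE.1)))
  obtain ⟨x, hx, hx'⟩ := SetLike.not_le_iff_exists.1 hV
  obtain ⟨c, y, w, a, rfl⟩ := h.surj x (hE.1.1 hx)
  have a0 : a ≠ 0 := mt h.mem_V.2 hx'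
  by_cases hZ : E ⊓ Ct E ≤ h.Z
  · have e : h.Z = E ⊓ Ct E := le_antisymm (le_inf (Z_le_ess hF h h2 hE)
      (le_Ct_comm.1 (hE.1.1.trans h.Z_cen))) hZ
    refine Or.inr ⟨c / a, caseA hF h h2 hE (y := y) (w := w) (by rwa [div_mul_cancel₀ c a0]) a0
      fun g hg => ?_⟩
    rw [e]
    exact mem_Nm_inf (Aut_le_Nm F E hg) (mem_Nm_Ct (Aut_le_Nm F E hg))
  obtain ⟨z, hz, hz'⟩ := SetLike.not_le_iff_exists.1 hZ
  obtain ⟨c1, y1, w1, a1, rfl⟩ := h.surj z (hE.1.1 hz.1)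
  have a1' : a1 ≠ 0 := by
    rintro rfl
    have e := h.comm_iff.1 (mem_Ct'.1 hz.2 _ hx)
    obtain rfl : c1 = 0 := mul_left_cancel₀ a0 (by linear_combination e.1)
    obtain rfl : y1 = 0 := mul_left_cancel₀ (mul_ne_zero h2 a0) (by linear_combination e.2)
    exact hz' (by simp)
  obtain ⟨l, rfl⟩ : ∃ l, c1 = l * a1 := ⟨c1 / a1, (div_mul_cancel₀ c1 a1').symm⟩
  obtain ⟨k, hk⟩ : ∃ k, 2 * y1 = k * a1 + l * a1 ^ 2 :=
    ⟨(2 * y1 - l * a1 ^ 2) / a1, by rw [div_mul_cancel₀ _ a1']; ring⟩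
  have f : ∀ c y w a, m c y w a ∈ E → c = l * a ∧ 2 * y = k * a + l * a ^ 2 := fun c y w a r => by
    have e := h.comm_iff.1 (mem_Ct'.1 hz.2 _ r)
    obtain rfl : c = l * a := mul_left_cancel₀ a1' (by linear_combination -e.1)
    exact ⟨rfl, mul_left_cancel₀ a1' (by linear_combination a * hk - e.2)⟩
  refine (caseB hF h h2 hE hT h0 (l := l) (k := k) fun c y w a => ⟨f c y w a, ?_⟩).elim
  rintro ⟨rfl, e⟩
  refine centric_Ct_le hE.1 ⟨h.mem .., mem_Ct'.2 fun x hx => ?_⟩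
  obtain ⟨c', y', w', a', rfl⟩ := h.surj x (hE.1.1 hx)
  obtain ⟨rfl, e'⟩ := f _ _ _ _ hx
  exact h.comm_iff.2 ⟨by ring, by linear_combination a' * e - a * e'⟩

end H87.S4
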