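/- Kit of the tower HM: the configuration `Tw`. -/
import Cfsg.Agent.H87.HMSpec
import Cfsg.Agent.H87.S4F1

set_option autoImplicit false
set_option linter.unusedSectionVars false

namespace H87.HM
open Cfsg Cfsg.FusionSystem H92 H93 Subgroup H92.Es
open scoped commutatorElement

universe u

variable {Ω : Type u} [Group Ω] {S B A A' E P : Subgroup Ω} {a a' b c g s t x y z : Ω}

theorem inv_of_sq (h : x * x = 1) : x⁻¹ = x := inv_eq_of_mul_eq_one_right h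

theorem comm_of_sq (h : ∀ a ∈ A, a * a = 1) (ha : a ∈ A) (hb : b ∈ A) : Commute a b := by
  have := inv_of_sq (h _ (mul_mem ha hb))
  rw [mul_inv_rev, inv_of_sq (h _ ha), inv_of_sq (h _ hb)] at this
  exact this.symm

theorem le_Ct_of_sq (h : ∀ a ∈ A, a * a = 1) : A ≤ Ct A :=
  fun _ ha => mem_Ct'.2 fun _ hb => (comm_of_sq h hb ha).eq

theorem sq_cj (h : ∀ a ∈ A, a * a = 1) (g : Ω) : ∀ a ∈ cj g A, a * a = 1 := fun a ha => by
  obtain ⟨y, hy, rfl⟩ := mem_cj_iff_exists.1 ha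
  rw [show g * y * g⁻¹ * (g * y * g⁻¹) = g * (y * y) * g⁻¹ by group, h y hy]; group

theorem le_or_le {H K : Subgroup Ω} (h : ∀ x ∈ E, x ∈ H ∨ x ∈ K) : E ≤ H ∨ E ≤ K :=
  H96.CG.le_or_le h

theorem commute_of_Ct (h : g ∈ Ct P) (hx : x ∈ P) : Commute x g := mem_Ct'.1 h x hx

namespace Tw
variable (h : Tw S B A A' t)
include h

theorem eA' : ∀ a ∈ A', a * a = 1 := h.sw ▸ sq_cj h.eA t
theorem AB : A ≤ B := h.gen ▸ le_sup_left
theorem AB' : A' ≤ B := h.gen ▸ le_sup_right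
theorem AS : A ≤ S := h.AB.trans h.BS
theorem AS' : A' ≤ S := h.AB'.trans h.BS
theorem ZB : A ⊓ A' ≤ B := inf_le_left.trans h.AB
theorem cjZ : cj t (A ⊓ A') = A ⊓ A' := by rw [cj_inf, h.sw, h.sw', inf_comm]
theorem card_eq : Nat.card A' = Nat.card A := h.sw ▸ card_cj t A

theorem symm : Tw S B A' A t where
  two := h.two
  BS := h.BS
  tS := h.tS
  idx := h.idx
  eA := h.eA'
  gen := (sup_comm _ _).trans h.gen
  comm a ha a' ha' := by
    rw [inf_comm, ← commutatorElement_inv]; exact inv_mem (h.comm _ ha' _ ha)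
  reg a ha a' ha' e := (h.reg _ ha' _ ha e.symm).symm
  ne e := h.ne (by rw [← cj_le_cj (g := t), h.sw, h.sw']; exact e)
  sw := h.sw'
  sw' := h.sw
  big := by
    rw [inf_comm A', ← relIndex_cj t, h.cjZ, h.sw']; exact h.big

theorem Z_Ct : A ⊓ A' ≤ Ct B := by
  rw [← h.gen, Ct_sup]
  exact inf_le_inf (le_Ct_of_sq h.eA) (le_Ct_of_sq h.eA')

theorem B_Ct : B ≤ Ct (A ⊓ A') := le_Ct_comm.1 h.Z_Ct

theorem zcomm (hz : z ∈ A ⊓ A') (hb : b ∈ B) : Commute b z := commute_of_Ct (h.Z_Ct hz) hb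

theorem exA : ∃ a ∈ A, a ∉ A' := SetLike.not_le_iff_exists.1 h.ne

theorem conj_mem (ha : a ∈ A) : t * a * t⁻¹ ∈ A' := h.sw ▸ conj_mem_cj t ha

theorem conj_not_mem (ha : a ∉ A') : t * a * t⁻¹ ∉ A := fun e => ha (by
  rwa [← h.sw', conj_mem_cj_iff] at e)

theorem Z_ne : A ⊓ A' ≠ ⊥ := fun e => by
  obtain ⟨a, ha, h1⟩ := h.exA
  exact (h.reg a ha _ (h.conj_mem ha) (commutatorElement_eq_one_iff_commute.1
    (mem_bot.1 (e ▸ h.comm a ha _ (h.conj_mem ha))))).elim h1 (h.conj_not_mem h1)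

variable [Finite Ω]

theorem A_Nm : A ≤ Nm A' := fun a ha => mem_Nm_of_conj fun x hx => by
  simpa [commutatorElement_def] using mul_mem (h.comm a ha x hx).2 hx

theorem B_Nm : B ≤ Nm A := h.gen ▸ sup_le (le_Nm A) h.symm.A_Nm

theorem dec (hb : b ∈ B) : ∃ a ∈ A, ∃ a' ∈ A', b = a * a' := by
  obtain ⟨a, ha, a', ha', e⟩ := (mem_sup_of_le_Nm h.A_Nm).1 (h.gen ▸ hb)
  exact ⟨a, ha, a', ha', e.symm⟩

theorem commA (ha : a ∈ A) (hb : b ∈ B) : ⁅a, b⁆ ∈ A ⊓ A' := by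
  obtain ⟨c, hc, c', hc', rfl⟩ := h.dec hb
  have e := (comm_of_sq h.eA ha hc).eq
  have : ⁅a, c * c'⁆ = c * ⁅a, c'⁆ * c⁻¹ := by
    simp only [commutatorElement_def, mul_inv_rev, ← mul_assoc, e]
  rw [this, (h.zcomm (h.comm a ha _ hc') (h.AB hc)).eq, mul_inv_cancel_right]
  exact h.comm a ha _ hc'

theorem commB (hb : b ∈ B) (hc : c ∈ B) : ⁅b, c⁆ ∈ A ⊓ A' := by
  obtain ⟨a, ha, a', ha', rfl⟩ := h.dec hb
  have h1 : ⁅a', c⁆ ∈ A ⊓ A' := inf_comm A A' ▸ h.symm.commA ha' hc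
  have : ⁅a * a', c⁆ = a * ⁅a', c⁆ * a⁻¹ * ⁅a, c⁆ := by simp only [commutatorElement_def]; group
  rw [this, (h.zcomm h1 (h.AB ha)).eq, mul_inv_cancel_right]
  exact mul_mem h1 (h.commA ha hc)

theorem tv (hb : b ∈ B) (hx : x ∈ B) : x⁻¹ * (b * x * b⁻¹) ∈ A ⊓ A' := by
  simpa [commutatorElement_def, mul_assoc] using h.commB (inv_mem hx) hb

theorem sq_mem (hb : b ∈ B) : b * b ∈ A ⊓ A' := by
  obtain ⟨a, ha, a', ha', rfl⟩ := h.dec hb
  simpa only [commutatorElement_def, inv_of_sq (h.eA a ha), inv_of_sq (h.eA' a' ha'), mul_assoc]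
    using h.comm a ha a' ha'

/-- Every subgroup between `Z` and `B` is normal in `B`. -/
theorem le_Nm' (h1 : A ⊓ A' ≤ E) (h2 : E ≤ B) : B ≤ Nm E := fun _ hs =>
  mem_Nm_of_conj fun x hx => by simpa using E.mul_mem hx (h1 (h.tv hs (h2 hx)))

theorem B_St (h2 : E ≤ B) : B ≤ St E [A ⊓ A'] := fun _ hb =>
  ⟨⟨Ct_le_Nm _ (h.B_Ct hb), fun _ hx => h.tv hb (h2 hx)⟩, h.B_Ct hb⟩

theorem invol (hb : b ∈ B) (e : b * b = 1) : b ∈ A ∨ b ∈ A' := by
  obtain ⟨a, ha, a', ha', rfl⟩ := h.dec hb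
  have := inv_of_sq e
  rw [mul_inv_rev, inv_of_sq (h.eA a ha), inv_of_sq (h.eA' a' ha')] at this
  exact (h.reg a ha a' ha' this.symm).symm.imp (mul_mem ha) fun r => mul_mem r ha'

theorem cent (ha : a ∈ A) (h1 : a ∉ A') (hb : b ∈ B) (e : Commute a b) : b ∈ A := by
  obtain ⟨c, hc, c', hc', rfl⟩ := h.dec hb
  have := (comm_of_sq h.eA ha hc).inv_right.mul_right e
  rw [inv_mul_cancel_left] at this
  exact mul_mem hc ((h.reg a ha c' hc' this).resolve_left h1)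

theorem ea_or (h1 : E ≤ B) (h2 : ∀ x ∈ E, x * x = 1) : E ≤ A ∨ E ≤ A' :=
  le_or_le fun x hx => h.invol (h1 hx) (h2 x hx)

theorem t_not : t ∉ B := fun e => h.ne ((cj_eq_of_Nm (h.B_Nm e)).symm.trans h.sw).le

theorem t_Nm : t ∈ Nm B := mem_Nm.2 (by rw [← h.gen, cj_sup, h.sw, h.sw', sup_comm])

theorem tt : t * t ∈ B := (h.idx t h.tS).resolve_left h.t_not

theorem out (hy : y ∈ S) (h1 : y ∉ B) : ∃ c ∈ B, y = c * t :=
  ⟨y * t * (t * t)⁻¹, mul_mem ((h.idx y hy).resolve_left h1) (inv_mem h.tt), by group⟩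

theorem S_Nm : S ≤ Nm B := fun y hy => by
  by_cases h1 : y ∈ B
  · exact le_Nm B h1
  obtain ⟨c, hc, rfl⟩ := h.out hy h1
  exact mul_mem (le_Nm B hc) h.t_Nm

theorem mul_out (hx : x ∈ S) (h1 : x ∉ B) (hy : y ∈ S) (h2 : y ∉ B) : x * y ∈ B := by
  obtain ⟨c, hc, rfl⟩ := h.out hx h1
  obtain ⟨d, hd, rfl⟩ := h.out hy h2
  simpa [mul_assoc] using mul_mem (mul_mem hc (conj_mem_of_Nm h.t_Nm hd)) h.tt

theorem sw_out (hy : y ∈ S) (h1 : y ∉ B) : cj y A = A' := by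
  obtain ⟨c, hc, rfl⟩ := h.out hy h1
  rw [cj_mul, h.sw, cj_eq_of_Nm (h.symm.B_Nm hc)]

theorem ct_out (hy : y ∈ S) (h1 : y ∉ B) : y ∈ Ct (A ⊓ A') ↔ t ∈ Ct (A ⊓ A') := by
  obtain ⟨c, hc, rfl⟩ := h.out hy h1
  exact mul_mem_cancel_left (h.B_Ct hc)

/-- Any element outside `B` can play the role of `t`. -/
theorem change (hy : y ∈ S) (h1 : y ∉ B) : Tw S B A A' y :=
  { h with
    tS := hy
    idx := fun _ hs => (em _).imp_right fun e => h.mul_out hs e hy h1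
    sw := h.sw_out hy h1
    sw' := h.symm.sw_out hy h1
    big := h.big.imp_right (mt (h.ct_out hy h1).1) }

theorem conj_out (hy : y ∈ S) (h1 : y ∉ B) (hz : z ∈ A ⊓ A') : y * z * y⁻¹ = t * z * t⁻¹ := by
  obtain ⟨c, hc, rfl⟩ := h.out hy h1
  have := (h.zcomm (h.cjZ ▸ conj_mem_cj t hz) hc).eq
  rw [mul_inv_rev, show c * t * z * (t⁻¹ * c⁻¹) = c * (t * z * t⁻¹) * c⁻¹ by group, this]; group

theorem S_NmZ : S ≤ Nm (A ⊓ A') := fun y hy => by
  by_cases h1 : y ∈ B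
  · exact Ct_le_Nm _ (h.B_Ct h1)
  · exact mem_Nm.2 (h.change hy h1).cjZ

theorem ng_out (hy : y ∈ S) (h1 : y ∉ B) (n : Ng (A ⊓ A') t) : Ng (A ⊓ A') y := fun z hz e => by
  obtain ⟨w, hw, r⟩ := n z hz (by
    have := h.conj_out hy h1 hz
    rw [e.eq, mul_inv_cancel_right, eq_mul_inv_iff_mul_eq] at this
    exact this.symm)
  exact ⟨w, hw, by rwa [h.conj_out hy h1 hw]⟩

theorem not_ct (n : Ng (A ⊓ A') t) : t ∉ Ct (A ⊓ A') := fun e => h.Z_ne (eq_bot_iff.2 fun z hz => by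
  obtain ⟨w, hw, r⟩ := n z hz (commute_of_Ct e hz).symm
  rw [r, conj_eq_of_Ct e hw]
  exact h.eA w hw.1)

theorem nm_A : S ⊓ Nm A = B := le_antisymm (fun _ hy => by_contra fun h1 =>
  h.ne ((cj_eq_of_Nm hy.2).symm.trans (h.sw_out hy.1 h1)).le) (le_inf h.BS h.B_Nm)

theorem cenA : S ⊓ Ct A = A := le_antisymm (fun y hy => by
  obtain ⟨a, ha, h1⟩ := h.exA
  exact h.cent ha h1 (h.nm_A.le ⟨hy.1, Ct_le_Nm _ hy.2⟩) (commute_of_Ct hy.2 ha))
  (le_inf h.AS (le_Ct_of_sq h.eA))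

theorem cenB : S ⊓ Ct B = A ⊓ A' := le_antisymm
  (le_inf ((inf_le_inf_left _ (Ct_anti h.AB)).trans h.cenA.le)
    ((inf_le_inf_left _ (Ct_anti h.AB')).trans h.symm.cenA.le)) (le_inf (h.ZB.trans h.BS) h.Z_Ct)

theorem zc_eq : H52.zc B = A ⊓ A' := le_antisymm ((inf_le_inf_right _ h.BS).trans h.cenB.le)
  (le_inf h.ZB h.Z_Ct)

/-- An involution of `B` commuting with an element outside `B` is central in `B`. -/
theorem inv_Z (hy : y ∈ S) (h1 : y ∉ B) (hb : b ∈ B) (e : b * b = 1) (c : Commute y b) :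
    b ∈ A ⊓ A' := by
  have r : y * b * y⁻¹ = b := by rw [c.eq, mul_inv_cancel_right]
  rcases h.invol hb e with k | k
  · exact ⟨k, r ▸ (h.change hy h1).conj_mem k⟩
  · exact ⟨r ▸ (h.change hy h1).symm.conj_mem k, k⟩

/-- `t² ` can be moved into `Z`. -/
theorem exists_sq : ∃ a ∈ A, a * t * (a * t) ∈ A ⊓ A' := by
  obtain ⟨a, ha, a', ha', e⟩ := h.dec h.tt
  have h1 : t * a * t⁻¹ * (t * a' * t⁻¹) = a * a' := by
    rw [← e, show t * a * t⁻¹ * (t * a' * t⁻¹) = t * (a * a') * t⁻¹ by group, ← e]; group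
  have h2 := h.conj_mem ha
  have h3 := h.symm.conj_mem ha'
  have h4 : t * a * t⁻¹ * a' ∈ A := by
    have k := (h.commB (h.AB' h2) (h.AB h3)).1
    have : t * a * t⁻¹ * a' = (t * a * t⁻¹ * a⁻¹ * (t * a * t⁻¹)⁻¹) *
        (t * a * t⁻¹ * (a * a')) := by group
    rw [this, ← h1, ← mul_assoc (t * a * t⁻¹) (t * a * t⁻¹), h.eA' _ h2, one_mul]
    exact mul_mem (conj_mem_of_Nm (h.B_Nm (h.AB' h2)) (inv_mem ha)) h3
  have h5 : t * a * t⁻¹ * a' ∈ A ⊓ A' := ⟨h4, mul_mem h2 ha'⟩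
  refine ⟨a, ha, ?_⟩
  have := mul_mem (h.commB (h.AB ha) (h.AB' h2)) h5
  rw [show a * t * (a * t) = a * (t * a * t⁻¹) * (t * t) by group, e]
  convert this using 1
  rw [commutatorElement_def, inv_of_sq (h.eA a ha)]; group

theorem card_B : Nat.card B * Nat.card ↥(A ⊓ A') = Nat.card A * Nat.card A := by
  have h1 : Nat.card B = Nat.card A' * A'.relIndex B := by
    rw [← card_mul_index (A'.subgroupOf B), Nat.card_congr (subgroupOfEquivOfLe h.AB').toEquiv]; rfl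
  have h2 : Nat.card A = Nat.card ↥(A ⊓ A') * (A ⊓ A').relIndex A := by
    rw [← card_mul_index ((A ⊓ A').subgroupOf A),
      Nat.card_congr (subgroupOfEquivOfLe inf_le_left).toEquiv]; rfl
  have h3 : A'.relIndex B = (A ⊓ A').relIndex A := by
    have : (A'.subgroupOf B).Normal := (normal_subgroupOf_iff_le_normalizer h.AB').2 h.symm.B_Nm
    rw [inf_relIndex_left, ← relIndex_subgroupOf h.AB, ← relIndex_sup_right (A.subgroupOf B) (A'.subgroupOf B),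
      ← subgroupOf_sup h.AB h.AB', h.gen, subgroupOf_self, relIndex_top_right]; rfl
  rw [h1, h3, h.card_eq, mul_assoc, mul_comm _ (Nat.card ↥(A ⊓ A')), ← h2]

theorem card_S : Nat.card S = 2 * Nat.card B := by
  have : (B.subgroupOf S).index = 2 := index_eq_two_iff.2 ⟨⟨t, h.tS⟩, fun s => by
    by_cases h1 : (s : Ω) ∈ B
    · exact Or.inr ⟨h1, fun e => h.t_not ((mul_mem_cancel_left h1).1 e)⟩
    · exact Or.inl ⟨h.mul_out s.2 h1 h.tS h.t_not, h1⟩⟩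
  rw [← card_mul_index (B.subgroupOf S), this, Nat.card_congr (subgroupOfEquivOfLe h.BS).toEquiv, mul_comm]

/-- `A` and `A'` are the only elementary abelian subgroups of their order. -/
theorem ea_max (h1 : E ≤ S) (h2 : ∀ x ∈ E, x * x = 1) (h3 : Nat.card A ≤ Nat.card E) :
    E = A ∨ E = A' := by
  by_cases h4 : E ≤ B
  · exact (h.ea_or h4 h2).imp (eq_of_le_of_card_ge · h3) (eq_of_le_of_card_ge · (h.card_eq ▸ h3))
  exfalso
  obtain ⟨y, hy, h5⟩ := SetLike.not_le_iff_exists.1 h4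
  have h6 : E ⊓ B ≤ A ⊓ A' ⊓ Ct (zpowers y) := fun b hb =>
    ⟨h.inv_Z (h1 hy) h5 hb.2 (h2 b hb.1) (comm_of_sq h2 hy hb.1),
      Ct_anti (zpowers_le.2 hy) (le_Ct_of_sq h2 hb.1)⟩
  have h7 : ((E ⊓ B).subgroupOf E).index = 2 := index_eq_two_iff.2 ⟨⟨y, hy⟩, fun s => by
    by_cases h8 : (s : Ω) ∈ B
    · exact Or.inr ⟨⟨s.2, h8⟩, fun e => h5 ((mul_mem_cancel_left h8).1 e.2)⟩
    · exact Or.inl ⟨⟨mul_mem s.2 hy, h.mul_out (h1 s.2) h8 (h1 hy) h5⟩, fun e => h8 e.2⟩⟩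
  have h8 := card_mul_index ((E ⊓ B).subgroupOf E)
  rw [h7, Nat.card_congr (subgroupOfEquivOfLe inf_le_left).toEquiv] at h8
  have h9 := card_mul_index ((A ⊓ A').subgroupOf A)
  rw [Nat.card_congr (subgroupOfEquivOfLe inf_le_left).toEquiv, ← relIndex] at h9
  have c1 := card_le_of_le h6
  have c2 : 0 < Nat.card ↥(A ⊓ A') := Nat.card_pos
  have c3 : 2 ≤ (A ⊓ A').relIndex A := by
    have : (A ⊓ A').relIndex A ≠ 0 := index_ne_zero_of_finite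
    have : (A ⊓ A').relIndex A ≠ 1 := fun e => h.ne ((relIndex_eq_one.1 e).trans inf_le_right)
    omega
  rcases h.big with k | k
  · have := card_le_of_le (inf_le_left : A ⊓ A' ⊓ Ct (zpowers y) ≤ _)
    nlinarith
  · have := card_lt_of_lt (lt_of_le_of_ne (inf_le_left : A ⊓ A' ⊓ Ct (zpowers y) ≤ _) fun e =>
      k ((h.ct_out (h1 hy) h5).1 (le_Ct_comm.1 (e.ge.trans inf_le_right) (mem_zpowers y))))
    nlinarith

theorem cj_or (h1 : cj g A ≤ S) : cj g A = A ∨ cj g A = A' :=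
  h.ea_max h1 (sq_cj h.eA g) (card_cj g A).ge

/-- A map defined on `B` with values in `S` permutes `A` and `A'`. -/
theorem perm (h1 : cj g B ≤ S) : g ∈ Nm A ⊓ Nm A' ∨ cj g A = A' ∧ cj g A' = A := by
  have n : ∀ {X}, cj g A = X → cj g A' = X → False := fun e e' => h.ne (cj_inj.1 (e.trans e'.symm)).le
  rcases h.cj_or ((cj_mono g h.AB).trans h1) with e | e <;>
    rcases h.symm.cj_or ((cj_mono g h.AB').trans h1) with e' | e'
  exacts [Or.inl ⟨mem_Nm.2 e, mem_Nm.2 e'⟩, (n e e').elim, (n e e').elim, Or.inr ⟨e, e'⟩]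

theorem nmB (h1 : cj g B ≤ S) : g ∈ Nm B := by
  rcases h.perm h1 with e | e
  · exact h.gen ▸ mem_Nm_sup e.1 e.2
  · exact mem_Nm.2 (by rw [← h.gen, cj_sup, e.1, e.2, sup_comm])

theorem nmZ (h1 : cj g B ≤ S) : g ∈ Nm (A ⊓ A') := by
  rcases h.perm h1 with e | e
  · exact mem_Nm_inf e.1 e.2
  · exact mem_Nm.2 (by rw [cj_inf, e.1, e.2, inf_comm])

theorem nmA' (h1 : g ∈ Nm B) (h2 : g ∈ Nm A) : g ∈ Nm A' :=
  (h.perm ((cj_eq_of_Nm h1).le.trans h.BS)).elim (·.2) fun e =>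
    (h.ne ((cj_eq_of_Nm h2).symm.trans e.1).le).elim

variable {F : FusionSystem S}

theorem autB (hg : M F B g) : g ∈ Aut F B := hg.mem_Aut (h.nmB hg.cj_le)

theorem autS (hg : g ∈ Aut F S) : g ∈ Aut F B := h.autB ((M.of_Aut hg le_rfl).mono h.BS)

variable (hF : SatA 2 F)
include hF

theorem fn : F.IsFullyNormalized A := hF.amb.fn_iff.2 ⟨h.AS, fun g hg => by
  rcases h.cj_or hg.cj_le with e | e <;> rw [e]
  rw [h.nm_A, h.symm.nm_A]⟩

theorem fnB : F.IsFullyNormalized B := fn_of_le_Nm F h.BS h.S_Nm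

theorem centricA : F.IsCentric A := hF.amb.centric_iff.2 ⟨h.AS, fun g hg => by
  rcases h.cj_or hg.cj_le with e | e <;> rw [e]
  exacts [h.cenA.le, h.symm.cenA.le]⟩

theorem centricB : F.IsCentric B := hF.amb.centric_iff.2 ⟨h.BS, fun g hg => by
  rw [cj_eq_of_Nm (h.nmB hg.cj_le), h.cenB]; exact h.ZB⟩

theorem pp : PP 2 (B ⊔ Ct A) (Aut F A) := by
  have := Fact.mk Nat.prime_two
  exact h.nm_A ▸ hF.pp_of_fn (h.fn hF)

theorem ppB : PP 2 (S ⊔ Ct B) (Aut F B) := by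
  have := Fact.mk Nat.prime_two
  exact hF.pp_of_normal h.BS h.S_Nm

/-- Automorphisms of `B` in the system acting trivially on `B/Z` and `Z` are inner. -/
theorem stB (hg : g ∈ Aut F B) (h1 : g ∈ St B [A ⊓ A']) : g ∈ B ⊔ Ct B := by
  have := Fact.mk Nat.prime_two
  have k := H92.SatA.le_of_pMod hF (K := Aut F B ⊓ St B [A ⊓ A']) (h.fnB hF) inf_le_left
    (fun x hx => mem_Nm_inf (le_Nm _ hx) (mem_Nm_St hx.1 (by
      simpa using h.nmZ (M.of_Aut hx h.BS).cj_le)))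
    ((pMod_St (by simpa using hF.pgl (h.ZB.trans h.BS))).mono inf_le_right le_rfl) ⟨hg, h1⟩
  obtain ⟨s, hs, c, hc, rfl⟩ := (mem_sup_Ct inf_le_right).1 k
  refine mul_mem_sup (by_contra fun h2 => ?_) hc
  obtain ⟨a, ha, h3⟩ := h.exA
  have r := h1.1.2 a (h.AB ha)
  rw [mul_inv_rev, show s * c * a * (c⁻¹ * s⁻¹) = s * (c * a * c⁻¹) * s⁻¹ by group,
    conj_eq_of_Ct hc (h.AB ha)] at r
  exact (h.change hs.1 h2).conj_not_mem h3 ((mul_mem_cancel_left (inv_mem ha)).1 r.1)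

/-- Automorphisms of `A` normalizing `Z` extend to `B`. -/
theorem ext (hg : g ∈ Aut F A) (h1 : g ∈ Nm (A ⊓ A')) : ∃ k ∈ Aut F B, g⁻¹ * k ∈ Ct A := by
  have := Fact.mk Nat.prime_two
  have n : ∀ x ∈ Aut F A ⊓ Nm (A ⊓ A'), x ∈ Nm (Aut F A ⊓ St A [A ⊓ A']) := fun x hx =>
    mem_Nm_inf (le_Nm _ hx.1) (mem_Nm_St hx.1.1 (by simpa using hx.2))
  have k : Aut F A ⊓ St A [A ⊓ A'] ≤ B ⊔ Ct A := by
    have p := pMod_St (p := 2) (A := A) (l := [A ⊓ A']) (by simpa using hF.pgl (h.ZB.trans h.BS))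
    have l : B ⊔ Ct A ≤ Aut F A ⊓ St A [A ⊓ A'] := le_inf (h.pp hF).le (sup_le (h.B_St h.AB) fun c hc =>
      ⟨mem_Tv_of_Ct hc (Ct_le_Nm _ (Ct_anti inf_le_left hc)), Ct_anti inf_le_left hc⟩)
    exact (((h.pp hF).mono_right l inf_le_left).eq_of_pMod (inf_le_left.trans (Aut_le_Nm_Ct F A))
      le_sup_right (p.mono inf_le_right le_rfl)).ge
  obtain ⟨k', r1, r2⟩ := hF.ext_aut (R := B) hg (hF.fc_of_fn (h.fn hF)) h.nm_A.ge (by
    rw [h.nm_A]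
    exact (cj_le_iff.2 fun b hb => conj_mem_of_Nm (n g ⟨hg, h1⟩)
      ⟨(h.pp hF).le (mem_sup_left hb), h.B_St h.AB hb⟩).trans k)
  exact ⟨k', h.autB (r1.mono le_sup_right), r2⟩

/-- An automorphism of `B` commuting with `t` up to inner ones extends to `S`. -/
theorem extS (hg : g ∈ Aut F B) (h1 : ⁅g, t⁆ ∈ B ⊔ Ct B) : ∃ k ∈ Aut F S, g⁻¹ * k ∈ Ct B := by
  have := Fact.mk Nat.prime_two
  obtain ⟨k, r1, r2⟩ := H92.SatA.ext_of_comm hF (R := S) hg (hF.fc_of_fn (h.fnB hF)) (le_inf le_rfl h.S_Nm)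
    fun r hr => by
      have l : B ⊔ Ct B ≤ (S ⊓ Nm B) ⊔ Ct B := sup_le_sup_right (le_inf h.BS (le_Nm B)) _
      by_cases h2 : r ∈ B
      · exact l (mem_sup_left (mul_mem (conj_mem_of_Nm hg.1 h2) (inv_mem h2)))
      obtain ⟨c, hc, rfl⟩ := h.out hr h2
      have := mul_mem (mul_mem (mem_sup_left (conj_mem_of_Nm hg.1 hc)) h1)
        (mem_sup_left (inv_mem hc) : c⁻¹ ∈ B ⊔ Ct B)
      refine l ?_
      convert this using 1
      rw [commutatorElement_def]; group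
  have r3 := r1.mono (le_sup_right : S ≤ B ⊔ S)
  exact ⟨k, r3.mem_Aut' r3.cj_le, r2⟩

/-- The essential subgroups inside `B`. -/
theorem ess_le (hE : F.IsEssential 2 E) (h1 : E ≤ B) : E = A ∨ E = A' ∨ E = B := by
  have := Fact.mk Nat.prime_two
  have c := centric_Ct_le (top_or_essential_centric (Or.inr hE))
  have hZ : A ⊓ A' ≤ E := (le_inf (h.ZB.trans h.BS) (h.Z_Ct.trans (Ct_anti h1))).trans c
  have k : ∀ {A A'}, Tw S B A A' t → E ≤ A → E = A := fun h e =>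
    le_antisymm e ((le_inf h.AS ((le_Ct_of_sq h.eA).trans (Ct_anti e))).trans c)
  by_cases h2 : E ≤ A
  · exact Or.inl (k h h2)
  by_cases h3 : E ≤ A'
  · exact Or.inr (Or.inl (k h.symm h3))
  refine Or.inr (Or.inr (le_antisymm h1 fun b hb => mem_of_St hF hE (l := [A ⊓ A']) ?_
    ⟨h.BS hb, h.le_Nm' hZ h1 hb⟩ (h.B_St h1 hb)))
  simp only [List.mem_singleton, forall_eq]
  refine ⟨hZ, fun g hg => mem_Nm_of_conj fun z hz => ?_⟩
  have m1 := conj_mem_of_Nm hg.1 (hZ hz)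
  have m2 : g * z * g⁻¹ ∈ Ct E := conj_mem_Ct_of_Nm hg.1 (Ct_anti h1 (h.Z_Ct hz))
  have m3 : g * z * g⁻¹ * (g * z * g⁻¹) = 1 := sq_cj h.eA g _ (conj_mem_cj g hz.1)
  by_contra m4
  rcases h.invol (h1 m1) m3 with r | r
  · exact h2 fun e he => h.cent r (fun r' => m4 ⟨r, r'⟩) (h1 he) (commute_of_Ct m2 he).symm
  · exact h3 fun e he => h.symm.cent r (fun r' => m4 ⟨r', r⟩) (h1 he) (commute_of_Ct m2 he).symm

end Tw

end H87.HM
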