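/- Kit of the tower HM, part 2: coordinates, realizations, the comparison lemma. -/
import Cfsg.Agent.H87.HMK
import Cfsg.Agent.H9.R2Cand
import Cfsg.Agent.H93.Wrap
import Cfsg.Agent.H94.Tr3
import Cfsg.Agent.H89.AlmostSimple
import Cfsg.Agent.H7.NPC

set_option autoImplicit false
set_option linter.unusedSectionVars false

namespace H87.HM
open Cfsg Cfsg.FusionSystem H92 H93 Subgroup H92.Es
open H87.S4 (Co)
open scoped commutatorElement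

universe u v

variable {Ω : Type u} [Group Ω] {S B A A' A₀ E P : Subgroup Ω} {g n s t x y z : Ω}
  {K : Type} [Field K] {a b c a' b' c' : K} {σ : RingAut K}

theorem card_of_param {X : Type*} (f : X → Ω) (hf : Function.Injective f) (h : ∀ g, g ∈ P ↔ ∃ v, g = f v) :
    Nat.card P = Nat.card X := (Nat.card_congr (Equiv.ofBijective (fun v => (⟨f v, (h _).2 ⟨v, rfl⟩⟩ : P))
  ⟨fun _ _ e => hf (congrArg Subtype.val e), fun g => let ⟨v, e⟩ := (h _).1 g.2; ⟨v, Subtype.ext e.symm⟩⟩)).symm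

namespace He
variable {m : K → K → K → Ω} (h : He B m)
include h

theorem eq_iff : m a b c = m a' b' c' ↔ a = a' ∧ b = b' ∧ c = c' :=
  ⟨h.inj, by rintro ⟨rfl, rfl, rfl⟩; rfl⟩

theorem one : m 0 0 0 = 1 := by simpa using h.mul 0 0 0 0 0 0

theorem inv (a b c : K) : (m a b c)⁻¹ = m (-a) (-b) (-c + a * b) := by
  rw [inv_eq_iff_mul_eq_one, h.mul, ← h.one]; congr 1 <;> ring

theorem eq_one : m a b c = 1 ↔ a = 0 ∧ b = 0 ∧ c = 0 := by rw [← h.one, h.eq_iff]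

theorem conj (a' b' c' a b c : K) :
    m a' b' c' * m a b c * (m a' b' c')⁻¹ = m a b (c + a' * b - a * b') := by
  rw [h.inv, h.mul, h.mul]; congr 1 <;> ring

theorem comm (a b c a' b' c' : K) : ⁅m a b c, m a' b' c'⁆ = m 0 0 (a * b' - a' * b) := by
  rw [commutatorElement_def, h.conj, h.inv, h.mul]; congr 1 <;> ring

theorem comm_iff : Commute (m a b c) (m a' b' c') ↔ a * b' = a' * b := by
  rw [← commutatorElement_eq_one_iff_commute, h.comm, h.eq_one, sub_eq_zero]; simp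

theorem exA (hx : x ∈ A3 m) : ∃ a c, x = m a 0 c := closure_induction (fun _ r => r) ⟨0, 0, h.one.symm⟩
  (by rintro _ _ - - ⟨a, c, rfl⟩ ⟨a', c', rfl⟩; exact ⟨_, _, by rw [h.mul, add_zero]⟩)
  (by rintro _ - ⟨a, c, rfl⟩; exact ⟨_, _, by rw [h.inv, neg_zero]⟩) hx

theorem exA' (hx : x ∈ A3' m) : ∃ b c, x = m 0 b c := closure_induction (fun _ r => r) ⟨0, 0, h.one.symm⟩
  (by rintro _ _ - - ⟨a, c, rfl⟩ ⟨a', c', rfl⟩; exact ⟨_, _, by rw [h.mul, add_zero]⟩)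
  (by rintro _ - ⟨a, c, rfl⟩; exact ⟨_, _, by rw [h.inv, neg_zero]⟩) hx

theorem exZ (hx : x ∈ Z3 m) : ∃ c, x = m 0 0 c := closure_induction (fun _ r => r) ⟨0, h.one.symm⟩
  (by rintro _ _ - - ⟨c, rfl⟩ ⟨c', rfl⟩; exact ⟨_, by rw [h.mul, add_zero]⟩)
  (by rintro _ - ⟨c, rfl⟩; exact ⟨_, by rw [h.inv, neg_zero]⟩) hx

theorem exX (hx : x ∈ X3 m) : ∃ a, x = m a 0 0 := closure_induction (fun _ r => r) ⟨0, h.one.symm⟩
  (by rintro _ _ - - ⟨c, rfl⟩ ⟨c', rfl⟩; exact ⟨c + c', by simp [h.mul]⟩)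
  (by rintro _ - ⟨c, rfl⟩; exact ⟨-c, by simp [h.inv]⟩) hx

theorem mem_A : m a b c ∈ A3 m ↔ b = 0 :=
  ⟨fun r => let ⟨_, _, e⟩ := h.exA r; (h.inj e).2.1, by rintro rfl; exact subset_closure ⟨_, _, rfl⟩⟩

theorem mem_A' : m a b c ∈ A3' m ↔ a = 0 :=
  ⟨fun r => let ⟨_, _, e⟩ := h.exA' r; (h.inj e).1, by rintro rfl; exact subset_closure ⟨_, _, rfl⟩⟩

theorem mem_Z : m a b c ∈ Z3 m ↔ a = 0 ∧ b = 0 :=
  ⟨fun r => let ⟨_, e⟩ := h.exZ r; ⟨(h.inj e).1, (h.inj e).2.1⟩,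
    by rintro ⟨rfl, rfl⟩; exact subset_closure ⟨_, rfl⟩⟩

theorem mem_X : m a b c ∈ X3 m ↔ b = 0 ∧ c = 0 :=
  ⟨fun r => let ⟨_, e⟩ := h.exX r; (h.inj e).2, by rintro ⟨rfl, rfl⟩; exact subset_closure ⟨_, rfl⟩⟩

theorem A_le : A3 m ≤ B := fun _ r => let ⟨_, _, e⟩ := h.exA r; e ▸ h.mem ..
theorem A'_le : A3' m ≤ B := fun _ r => let ⟨_, _, e⟩ := h.exA' r; e ▸ h.mem ..

theorem inf_eq : A3 m ⊓ A3' m = Z3 m := le_antisymm (fun _ r => by
    obtain ⟨a, c, rfl⟩ := h.exA r.1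
    exact h.mem_Z.2 ⟨h.mem_A'.1 r.2, rfl⟩) fun _ r => by
  obtain ⟨c, rfl⟩ := h.exZ r
  exact ⟨h.mem_A.2 rfl, h.mem_A'.2 rfl⟩

theorem dec (a b c : K) : m a b c = m 0 b c * m a 0 0 := by simp [h.mul]

theorem sup_eq : A3 m ⊔ A3' m = B := le_antisymm (sup_le h.A_le h.A'_le) fun x hx => by
  obtain ⟨a, b, c, rfl⟩ := h.surj x hx
  exact h.dec a b c ▸ mul_mem (mem_sup_right (h.mem_A'.2 rfl)) (mem_sup_left (h.mem_A.2 rfl))

theorem card_Z : Nat.card (Z3 m) = Nat.card K := card_of_param (m 0 0) (fun _ _ e => (h.inj e).2.2)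
  fun _ => ⟨h.exZ, by rintro ⟨c, rfl⟩; exact h.mem_Z.2 ⟨rfl, rfl⟩⟩

theorem card_A : Nat.card (A3 m) = Nat.card K * Nat.card K := (card_of_param (fun v : K × K => m v.1 0 v.2)
  (fun _ _ e => Prod.ext (h.inj e).1 (h.inj e).2.2) fun _ => ⟨fun r => let ⟨a, c, e⟩ := h.exA r; ⟨(a, c), e⟩,
    by rintro ⟨c, rfl⟩; exact h.mem_A.2 rfl⟩).trans (Nat.card_prod K K)

theorem relIndex [Finite K] : (A3 m ⊓ A3' m).relIndex (A3 m) = Nat.card K := by
  have h9 := card_mul_index ((A3 m ⊓ A3' m).subgroupOf (A3 m))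
  rw [Nat.card_congr (subgroupOfEquivOfLe inf_le_left).toEquiv, h.card_A, h.inf_eq, h.card_Z] at h9
  rw [h.inf_eq]
  exact Nat.eq_of_mul_eq_mul_left Nat.card_pos h9

theorem exists_hom {G : Type*} [Group G] {B' : Subgroup G} {m' : K → K → K → G} (h' : He B' m') :
    ∃ f : Ω → G, MulOn B f ∧ ∀ a b c, f (m a b c) = m' a b c := by
  classical
  let f : Ω → G := fun g => if e : ∃ v : K × K × K, g = m v.1 v.2.1 v.2.2 then
    m' e.choose.1 e.choose.2.1 e.choose.2.2 else 1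
  have hf : ∀ a b c, f (m a b c) = m' a b c := fun a b c => by
    have e : ∃ v : K × K × K, m a b c = m v.1 v.2.1 v.2.2 := ⟨(a, b, c), rfl⟩
    obtain ⟨e1, e2, e3⟩ := h.inj e.choose_spec
    simp only [f, dif_pos e, ← e1, ← e2, ← e3]
  refine ⟨f, fun x hx y hy => ?_, hf⟩
  obtain ⟨a, b, c, rfl⟩ := h.surj x hx
  obtain ⟨a', b', c', rfl⟩ := h.surj y hy
  rw [h.mul, hf, hf, hf, h'.mul]

end He

theorem exists_trace [CharP K 2] (h1 : ∀ x, σ (σ x) = x) (h2 : σ ≠ 1) : ∃ l, l + σ l = 1 := by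
  obtain ⟨w, hw⟩ : ∃ w, σ w ≠ w := not_forall.1 fun e => h2 (RingEquiv.ext e)
  have : w + σ w ≠ 0 := fun e => hw (by rw [← CharTwo.sub_eq_add, sub_eq_zero] at e; exact e.symm)
  exact ⟨w / (w + σ w), by rw [map_div₀, map_add, h1, add_comm (σ w), ← add_div, div_self this]⟩

namespace T3
variable {m : K → K → K → Ω} (h : T3 S B m t σ)
include h

theorem sq (x : K) : σ (σ x) = x := by
  have e := h.act (σ 0) (σ x) (σ (0 + x * 0))
  rw [← h.act, inv_of_sq h.t2, ← mul_assoc, ← mul_assoc, h.t2, mul_assoc, mul_assoc, h.t2] at e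
  simpa using (h.he.inj (by simpa using e)).1.symm

theorem actZ (c : K) : t * m 0 0 c * t⁻¹ = m 0 0 (σ c) := by simp [h.act]
theorem actX (a : K) : t * m a 0 0 * t⁻¹ = m 0 (σ a) 0 := by simp [h.act]
theorem actY (b : K) : t * m 0 b 0 * t⁻¹ = m (σ b) 0 0 := by simp [h.act]

variable [Finite Ω] [CharP K 2]

theorem tw [Finite K] (hK : 2 < Nat.card K) : Tw S B (A3 m) (A3' m) t := by
  have k := h.he
  have l1 : cj t (A3 m) ≤ A3' m := cj_le_iff.2 fun x hx => by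
    obtain ⟨a, c, rfl⟩ := k.exA hx
    simp [h.act, k.mem_A']
  have l2 : cj t (A3' m) ≤ A3 m := cj_le_iff.2 fun x hx => by
    obtain ⟨a, c, rfl⟩ := k.exA' hx
    simp [h.act, k.mem_A]
  have c1 := card_le_of_cj_le l1
  have c2 := card_le_of_cj_le l2
  refine ⟨h.two, h.BS, h.tS, h.idx, fun x hx => ?_, k.sup_eq, fun x hx y hy => ?_, fun x hx y hy e => ?_,
    fun e => one_ne_zero (k.mem_A'.1 (e (k.mem_A (a := 1) (c := 0).2 rfl))), cj_eq_of_le_of_card l1 c2,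
    cj_eq_of_le_of_card l2 c1, Or.inl (k.relIndex ▸ hK)⟩
  · obtain ⟨a, c, rfl⟩ := k.exA hx
    simp [k.mul, k.eq_one, CharTwo.add_self_eq_zero]
  · obtain ⟨a, c, rfl⟩ := k.exA hx
    obtain ⟨a', c', rfl⟩ := k.exA' hy
    simp [k.comm, k.inf_eq, k.mem_Z]
  · obtain ⟨a, c, rfl⟩ := k.exA hx
    obtain ⟨a', c', rfl⟩ := k.exA' hy
    simpa [k.mem_A, k.mem_A'] using k.comm_iff.1 e

omit [Finite Ω] in
theorem ng (h1 : σ ≠ 1) : Ng (A3 m ⊓ A3' m) t := by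
  have k := h.he
  rw [k.inf_eq]
  intro z hz e
  obtain ⟨c, rfl⟩ := k.exZ hz
  have e1 := h.actZ c
  rw [e.eq, mul_inv_cancel_right] at e1
  obtain ⟨l, hl⟩ := exists_trace h.sq h1
  refine ⟨m 0 0 (l * c), k.mem_Z.2 ⟨rfl, rfl⟩, ?_⟩
  rw [h.actZ, k.mul, map_mul, ← (k.inj e1).2.2, ← add_mul, hl]; simp

end T3

namespace T4
variable {m : K → K → K → K → Ω} (h : T4 S B m t σ) [CharP K 2]
include h

theorem actY (y w : K) : t * m 0 y w 0 * t⁻¹ = m 0 (σ w) (σ y ^ 2) 0 := by simp [h.act]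
theorem actX (a : K) : t * m 0 0 0 a * t⁻¹ = m (σ a ^ 2) 0 0 0 := by simp [h.act]
theorem actV (c : K) : t * m c 0 0 0 * t⁻¹ = m 0 0 0 (σ c) := by simp [h.act]

theorem inf_eq : h.co.Q 0 ⊓ h.co.V = h.co.Y := (inf_comm _ _).trans (h.co.V_inf_Q 0)

theorem ng : Ng (h.co.Q 0 ⊓ h.co.V) t := by
  have k := h.co
  rw [h.inf_eq]
  intro z hz e
  obtain ⟨y, w, rfl⟩ := k.exY hz
  have e1 := h.actY y w
  rw [e.eq, mul_inv_cancel_right] at e1
  refine ⟨m 0 y 0 0, k.mem_Y.2 ⟨rfl, rfl⟩, ?_⟩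
  rw [h.actY, k.mul, ← (k.inj e1).2.2.1]; simp

theorem tw [Finite Ω] : Tw S B (h.co.Q 0) h.co.V t := by
  have k := h.co
  have two : (2 : K) = 0 := CharTwo.two_eq_zero
  have l1 : cj t (k.Q 0) ≤ k.V := cj_le_iff.2 fun x hx => by
    obtain ⟨y, w, a, rfl⟩ := k.exQ hx
    simp [h.act, k.mem_V]
  have l2 : cj t k.V ≤ k.Q 0 := cj_le_iff.2 fun x hx => by
    obtain ⟨c, y, w, rfl⟩ := k.exV hx
    simp [h.act, k.mem_Q]
  have c1 := card_le_of_cj_le l1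
  have c2 := card_le_of_cj_le l2
  refine ⟨h.two, h.BS, h.tS, h.idx, fun x hx => ?_, le_antisymm (sup_le (k.Q_le 0) k.V_le) fun x hx => ?_,
    fun x hx y hy => ?_, fun x hx y hy e => ?_,
    fun e => one_ne_zero (k.mem_V.1 (e (k.mem_Q (c := 0) (y := 0) (w := 0) (a := 1).2 (by simp)))),
    cj_eq_of_le_of_card l1 c2, cj_eq_of_le_of_card l2 c1, Or.inr fun e => ?_⟩
  · obtain ⟨y, w, a, rfl⟩ := k.exQ hx
    simp [k.mul, k.eq_one, CharTwo.add_self_eq_zero, two]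
  · obtain ⟨c, y, w, a, rfl⟩ := k.surj x hx
    rw [show m c y w a = m c 0 0 0 * m 0 y w a by simp [k.mul]]
    exact mul_mem (mem_sup_right (k.mem_V.2 rfl)) (mem_sup_left (k.mem_Q.2 (by simp)))
  · have := k.tvY (k.V_le hy) (inv_mem (k.Q_le 0 hx))
    rw [h.inf_eq]
    simpa [commutatorElement_def, mul_assoc] using this
  · obtain ⟨y, w, a, rfl⟩ := k.exQ hx
    obtain ⟨c, y', w', rfl⟩ := k.exV hy
    simpa [k.mem_V, k.mem_Q] using (k.comm_iff.1 e.eq).1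
  · rw [h.inf_eq] at e
    have := (conj_eq_of_Ct e (k.mem_Y (y := 1) (w := 0).2 ⟨rfl, rfl⟩)).symm.trans (h.actY 1 0)
    simpa using (k.inj this).2.1

end T4

/-- The last alternative from a normal simple subgroup. -/
theorem alt6_of {G : Type v} [Group G] [Finite G] (L H : Subgroup G) [L.Normal] [IsSimpleGroup L]
    (h1 : ¬ IsMulCommutative L) (h2 : centralizer (L : Set G) = ⊥) (h4 : H.index = 2)
    (h5 : ∀ g ∈ H, ∃ k, Odd k ∧ g ^ k ∈ L) (K : Type) [Field K] [Fintype K]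
    (h6 : Nonempty (L ≃* Matrix.ProjectiveSpecialLinearGroup (Fin 3) K) ∨
      (Nonempty (L ≃* PSp 2 K) ∧ ∃ e : ℕ, Odd e ∧ Fintype.card K = 2 ^ e)) : Alt6 G := by
  have := Fact.mk Nat.prime_two
  have e1 := H89.fstar_eq_of_simple L h1 h2
  have n1 : (pResidual 2 G).Normal := H7.pResidual_normal
  have l1 : L ≤ pResidual 2 G := by
    rcases IsSimpleGroup.eq_bot_or_eq_top_of_normal ((pResidual 2 G).subgroupOf L) inferInstance with e | e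
    · have p : IsPGroup 2 L := fun x => by
        obtain ⟨n, hn⟩ := exists_pow_mem_coprime (p := 2) (x : G)
        exact ⟨n, mem_bot.1 (e ▸ mem_subgroupOf.2 (subset_closure hn))⟩
      have := p.isNilpotent
      exact (h1 ⟨⟨IsSimpleGroup.comm_iff_isSolvable.2 inferInstance⟩⟩).elim
    · exact subgroupOf_eq_top.1 e
  have e2 : pResidual 2 G = H := le_antisymm ((closure_le _).2 fun g hg =>
      mem_of_coprime_of_pow_mem (p := 2) hg (n := 1) (by simpa using sq_mem_of_index_two h4 g)) fun g hg => by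
    obtain ⟨u, v, hu, -, ⟨n, hn⟩, hv, rfl⟩ := exists_parts 2 g
    obtain ⟨k, hk, r⟩ := h5 u (zpowers_le.2 hg hu)
    exact mul_mem (l1 (mem_of_pElt_of_pow_mem hn hk.coprime_two_right r)) (subset_closure hv)
  refine ⟨K, inferInstance, inferInstance, e1 ▸ h6, e1 ▸ l1, ?_, e2 ▸ h4⟩
  rw [e1, e2, ← Nat.not_even_iff_odd, even_iff_two_dvd, index_eq_card]
  intro r
  obtain ⟨x, hx⟩ := exists_prime_orderOf_dvd_card' 2 r
  obtain ⟨x, rfl⟩ := QuotientGroup.mk_surjective x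
  obtain ⟨k, hk, r⟩ := h5 x x.2
  have : (x : H ⧸ L.subgroupOf H) ^ k = 1 := (QuotientGroup.eq_one_iff (x ^ k)).2 r
  exact Nat.not_even_iff_odd.2 hk (even_iff_two_dvd.2 (hx ▸ orderOf_dvd_of_pow_eq_one this))

section real
variable {G : Type v} [Group G] {T B' : Subgroup G} {t' : G}

/-- An isomorphism of `B` compatible with the involutions `t`, `t'` extends. -/
theorem hom2 [Finite Ω] (h : Tw S B A A' t) (t2 : t * t = 1) {f : Ω → G} (mul : MulOn B f)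
    (inj : ∀ c ∈ B, f c = 1 → c = 1) (rg : ∀ y, y ∈ B' ↔ ∃ c ∈ B, f c = y) (h1 : B' ≤ T) (h2 : t' ∈ T)
    (h3 : ∀ s ∈ T, s ∈ B' ∨ s * t' ∈ B') (h4 : t' * t' = 1) (h5 : t' ∉ B')
    (h6 : ∀ c ∈ B, f (t * c * t⁻¹) = t' * f c * t'⁻¹) :
    ∃ ι : S →* G, Function.Injective ι ∧ T = ι.range ∧ (∀ c ∈ B, ext1 ι c = f c) ∧ ext1 ι t = t' := by
  obtain ⟨ι, i1, i2, i3⟩ := H9.exists_hom_of_index_two h.BS h.tS h.t_not
    (fun x hx y hy r r' => h.mul_out hx r hy r') mul h6 (by rw [sq, sq, t2, h4, mul.map_one]) inj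
    fun c hc e => h5 ((rg _).2 ⟨c, hc, e⟩)
  have k : ∀ c ∈ B, f c ∈ ι.range := fun c hc => ⟨⟨c, h.BS hc⟩, (ext1_of_mem ι _).symm.trans (i2 c hc)⟩
  have k' : t' ∈ ι.range := ⟨⟨t, h.tS⟩, (ext1_of_mem ι _).symm.trans i3⟩
  refine ⟨ι, i1, le_antisymm (fun s hs => ?_) ?_, i2, i3⟩
  · rcases h3 s hs with r | r <;> obtain ⟨c, hc, e⟩ := (rg _).1 r
    · exact e ▸ k c hc
    · exact (mul_mem_cancel_right k').1 (e ▸ k c hc)
  · rintro _ ⟨⟨s, hs⟩, rfl⟩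
    rw [← ext1_of_mem ι hs]
    by_cases r : s ∈ B
    · exact i2 s r ▸ h1 ((rg _).2 ⟨s, r, rfl⟩)
    obtain ⟨c, hc, rfl⟩ := h.out hs r
    rw [mulOn_ext1 ι c (h.BS hc) t h.tS, i2 c hc, i3]
    exact mul_mem (h1 ((rg _).2 ⟨c, hc, rfl⟩)) h2

/-- `E` is the fusion system of `G` read along `ι`. -/
structure Rl (E : FusionSystem S) (ι : S →* G) (T : Sylow 2 G) : Prop where
  sat : SatA 2 E
  re : E.IsRealizedBy ι
  rg : (T : Subgroup G) = ι.range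

theorem exists_rl [Finite G] {F : FusionSystem S} (hF : SatA 2 F) {ι : S →* G} (h : Function.Injective ι)
    (T : Sylow 2 G) (rg : (T : Subgroup G) = ι.range) : ∃ E, Rl E ι T := by
  have := Fact.mk Nat.prime_two
  obtain ⟨E, e1, e2⟩ := H9.exists_pull h T rg
  exact ⟨E, ⟨hF.amb, hF.pg, e1⟩, e2, rg⟩

theorem exists_good [Finite G] (T : Sylow 2 G) : ∃ (Ω : Type v) (_ : Group Ω) (_ : Finite Ω)
    (S : Subgroup Ω) (E : FusionSystem S) (ι : S →* G), Rl E ι T := by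
  have := Fact.mk Nat.prime_two
  obtain ⟨E, e1, e2⟩ := H9.exists_pull (T : Subgroup G).subtype_injective T (range_subtype _).symm
  obtain ⟨a, b, S', E', h, hA⟩ := exists_satA T.isPGroup' e1
  obtain ⟨ι, i1, i2, -⟩ := h.isRealizedBy' e2
  exact ⟨_, inferInstance, inferInstance, S', E', ι, hA, i1, (i2.trans (range_subtype _)).symm⟩

namespace Rl
variable {E : FusionSystem S} {ι : S →* G} {T : Sylow 2 G} (h : Rl E ι T)
include h

theorem inj (hx : x ∈ S) (hy : y ∈ S) (r : ext1 ι x = ext1 ι y) : x = y := by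
  rw [ext1_of_mem ι hx, ext1_of_mem ι hy] at r
  exact congrArg Subtype.val (h.re.1 r)

theorem mem (hx : x ∈ S) : ext1 ι x ∈ (T : Subgroup G) := h.rg ▸ ⟨⟨x, hx⟩, (ext1_of_mem ι hx).symm⟩

theorem surj {y : G} (hy : y ∈ (T : Subgroup G)) : ∃ x ∈ S, ext1 ι x = y := by
  obtain ⟨x, rfl⟩ := h.rg ▸ hy
  exact ⟨x, x.2, ext1_of_mem ι x.2⟩

theorem down (hg : M E P g) : ∃ γ, ∀ x ∈ P, ext1 ι (g * x * g⁻¹) = γ * ext1 ι x * γ⁻¹ :=
  ((H94.realized_mor_iff h.re).1 hg).2.2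

theorem lift (hP : P ≤ S) (γ : G) (r : ∀ x ∈ P, γ * ext1 ι x * γ⁻¹ ∈ (T : Subgroup G)) :
    ∃ g, M E P g ∧ ∀ x ∈ P, ext1 ι (g * x * g⁻¹) = γ * ext1 ι x * γ⁻¹ := by
  obtain ⟨f, hf, r1⟩ := H9.exists_mor_of_realized h.re hP (g := γ) (h.rg ▸ r)
  obtain ⟨g, hg, r2⟩ := h.sat.amb.mor hf
  exact ⟨g, hg, fun x hx => r2 x hx ▸ r1 x hx⟩

/-- `Sc` read in the fusion system. -/
theorem sc_iff (hB : B ≤ S) (e : ∀ x ∈ S, ext1 ι x ∈ B' ↔ x ∈ B) (hB' : B' ≤ T) :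
    Sc (T : Subgroup G) B' ↔ ∀ P g, M E P g → ∀ x ∈ P, x ∈ B → g * x * g⁻¹ ∈ B := by
  refine ⟨fun s P g hg x hx hx' => ?_, fun s γ y hy r => ?_⟩
  · obtain ⟨γ, r⟩ := h.down hg
    rw [← e _ (hg.mem hx), r x hx]
    exact s γ _ ((e x (hB hx')).2 hx') (r x hx ▸ h.mem (hg.mem hx))
  · obtain ⟨x, hx, rfl⟩ := h.surj (hB' hy)
    obtain ⟨g, hg, r'⟩ := h.lift (zpowers_le.2 hx) γ (by
      rintro _ ⟨k, rfl⟩
      rw [(mulOn_ext1 ι).map_zpow hx, ← conj_zpow]; exact zpow_mem r k)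
    rw [← r' x (mem_zpowers x), e _ (hg.mem (mem_zpowers x))]
    exact s _ g hg x (mem_zpowers x) ((e x hx).1 hy)

end Rl

end real

variable [Finite Ω] {F E' : FusionSystem S}

/-- If all essential subgroups lie in `B`, then `B` is strongly closed. -/
theorem sc_of_in (hF : SatA 2 F) (h : Tw S B A A' t) (i : In F B) :
    ∀ P g, M F P g → ∀ x ∈ P, x ∈ B → g * x * g⁻¹ ∈ B := by
  have := Fact.mk Nat.prime_two
  refine hF.alperin' (fun P g => ∀ x ∈ P, x ∈ B → g * x * g⁻¹ ∈ B)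
    (fun P Q g k _ c l e x hx hx' => conj_eq_of_Ct_div e hx ▸ c x (l hx) hx')
    (fun P Q g k _ c _ c' l x hx hx' => ?_) ?_
  · simpa [mul_assoc] using c' _ (l (conj_mem_cj g hx)) (c x hx hx')
  rintro P (rfl | hP) - a ha x hx hx'
  · exact conj_mem_of_Nm (h.autS ha).1 hx'
  · exact i P hP (conj_mem_of_Nm ha.1 hx)

theorem top_of_ng (hF : SatA 2 F) (h : Tw S B A A' t) (t2 : t * t = 1) (n : Ng (A ⊓ A') t) :
    Top F B A₀ t := fun g hg _ c => by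
  obtain ⟨k, hk, e⟩ := h.extS hF hg (mem_sup_right c)
  have h1 : ⁅k, t⁆ ∈ A ⊓ A' := h.cenB.le <| mem_inf.2 ⟨mul_mem (conj_mem_of_Nm hk.1 h.tS) (S.inv_mem h.tS), by
    have := mul_mem (mul_mem (conj_mem_Ct_of_Nm hg.1 e) c) (conj_mem_Ct_of_Nm (mul_mem h.t_Nm hg.1) (inv_mem e))
    convert this using 1
    simp only [commutatorElement_def]; group⟩
  have h2 : ⁅k, t⁆ * t * (⁅k, t⁆ * t) = 1 := by
    rw [commutatorElement_def, show k * t * k⁻¹ * t⁻¹ * t * (k * t * k⁻¹ * t⁻¹ * t) = k * (t * t) * k⁻¹ by group, t2]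
    group
  obtain ⟨w, hw, r⟩ := n _ h1 (by
    have := inv_of_sq h2
    rwa [mul_inv_rev, inv_of_sq t2, inv_of_sq (h.eA _ h1.1)] at this)
  refine ⟨w⁻¹ * k, mul_mem (le_Aut F le_rfl (inv_mem (h.BS (h.ZB hw)))) hk, ?_, ?_⟩
  · have := mul_mem (conj_mem_Ct_of_Nm (inv_mem hg.1) (inv_mem (h.Z_Ct hw))) e
    convert this using 1; group
  · have : w⁻¹ * k * t * (w⁻¹ * k)⁻¹ = t := by
      rw [show w⁻¹ * k * t * (w⁻¹ * k)⁻¹ = w⁻¹ * ⁅k, t⁆ * t * w by rw [commutatorElement_def]; group, r,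
        show w⁻¹ * (w * (t * w * t⁻¹)) * t * w = t * (w * w) by group, h.eA w hw.1, mul_one]
    exact mul_inv_eq_iff_eq_mul.1 this

/-- The comparison lemma. -/
theorem Fr.sub (f : Fr F B A A' A₀ t n) (tF : Top F B A₀ t) (hE : SatA 2 E') (tE : Top E' B A₀ t)
    (hn : M E' A n) (hP : ∀ g ∈ Aut F B, g ∈ Nm A₀ ⊓ Nm (cj t A₀) → M E' B g)
    (hQ : ∀ P, F.IsEssential 2 P → ¬ P ≤ B → Aut F P ≤ Aut E' P) : ∀ P g, M F P g → M E' P g := by
  have := Fact.mk Nat.prime_two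
  have h := f.tw
  have d : ∀ g ∈ Aut F B, ∃ s ∈ S, s * g ∈ Nm A₀ ⊓ Nm (cj t A₀) := fun g hg => by
    rcases h.perm (M.of_Aut hg h.BS).cj_le with e | e
    · obtain ⟨b, hb, r⟩ := f.dg g hg e.1
      exact ⟨b, h.BS hb, r⟩
    · obtain ⟨b, hb, r⟩ := f.dg (t * g) (mul_mem (Nm_le_Aut F B ⟨h.tS, h.t_Nm⟩) hg)
        (mem_Nm.2 (by rw [cj_mul, e.1, h.sw']))
      exact ⟨b * t, mul_mem (h.BS hb) h.tS, by rwa [mul_assoc]⟩
  have b : ∀ g ∈ Aut F B, M E' B g := fun g hg => by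
    obtain ⟨s, hs, r⟩ := d g hg
    simpa using (hP _ (mul_mem (Nm_le_Aut F B ⟨hs, h.S_Nm hs⟩) hg) r).mem_mul (inv_mem hs)
  have z : ∀ g ∈ Aut F A, g ∈ Nm (A ⊓ A') → g ∈ Aut E' A := fun g hg r => by
    obtain ⟨k, hk, e⟩ := h.ext f.sat hg r
    exact (((b k hk).mono h.AB).congr' e).mem_Aut hg.1
  have a : Aut F A ≤ Aut E' A := fun g hg => by
    rcases f.br g hg with r | ⟨s, hs, r⟩
    · exact z g hg r
    · have l : ∀ X : FusionSystem S, s ∈ Aut X A := fun X => Nm_le_Aut X A (h.nm_A.ge hs)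
      exact (mul_mem_cancel_left (mul_mem (hn.mem_Aut f.nA.1) (l _))).1
        (z _ (mul_mem (mul_mem f.nA (l _)) hg) r)
  refine f.sat.alperin' (M E') (fun P Q g k _ c l e => (c.mono l).congr e)
    (fun P Q g k _ c _ c' l => c.mul c' l) ?_
  rintro P (rfl | hP) - g hg
  · obtain ⟨s, hs, r⟩ := d g (h.autS hg)
    have k1 : s * g ∈ Aut F P := mul_mem (le_Aut F le_rfl hs) hg
    have k2 : ⁅s * g, t⁆ ∈ B := h.mul_out (conj_mem_of_Nm k1.1 h.tS)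
      (fun e => h.t_not (by simpa [mul_assoc] using conj_mem_of_Nm' (h.autS k1).1 e)) (inv_mem h.tS)
      (fun e => h.t_not (inv_mem_iff.1 e))
    have k3 : ∀ {A A' A₀}, Tw P B A A' t → A₀ ≤ A → A₀ ⊓ A' = ⊥ → A₀ ≠ ⊥ → s * g ∈ Nm A₀ →
        s * g ∈ Nm (cj t⁻¹ A₀) → ⁅s * g, t⁆ ∈ A := fun {A A' A₀} h l1 l2 l3 n1 n2 => by
      have n3 : ⁅s * g, t⁆ ∈ Nm A₀ := mem_Nm.2 (by
        rw [commutatorElement_def, cj_mul, cj_mul, cj_mul, cj_eq_of_Nm (inv_mem n2), cj_cj_inv,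
          cj_eq_of_Nm n1])
      obtain ⟨⟨x, hx⟩, x1⟩ := ne_bot_iff_exists_ne_one.1 l3
      have x2 : x ∉ A' := fun e => x1 (Subtype.ext (mem_bot.1 (l2.le ⟨hx, e⟩)))
      refine h.cent (l1 hx) x2 k2 (commutatorElement_eq_one_iff_commute.1 (mem_bot.1 (l2.le
        ⟨?_, (h.commA (l1 hx) k2).2⟩)))
      simpa [commutatorElement_def, mul_assoc] using mul_mem hx (conj_mem_of_Nm n3 (inv_mem hx))
    have k4 : ⁅s * g, t⁆ ∈ Ct B := h.Z_Ct ⟨k3 h f.le f.dj f.ne r.1 (by rw [inv_of_sq f.t2]; exact r.2),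
      k3 h.symm (h.sw ▸ cj_mono t f.le) (by rw [← h.sw', ← cj_inf, f.dj, cj_bot]) (mt cj_eq_bot.1 f.ne)
        r.2 (by rw [cj_inv_cj]; exact r.1)⟩
    obtain ⟨k, hk, e, c⟩ := tF _ (h.autS k1) r k4
    obtain ⟨k', hk', e', c'⟩ := tE _ ((b _ (h.autS k1)).mem_Aut (h.autS k1).1) r k4
    obtain ⟨w, hw, e2⟩ := f.sat.eq_of_centric (h.centricB f.sat) h.BS (M.of_Aut hk le_rfl)
      (M.of_Aut k1 le_rfl) (div_symm e)
    have e3 : k'⁻¹ * k ∈ Ct P := mem_Ct.2 fun x hx => by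
      have e4 := div_trans (div_symm e') e
      by_cases r : x ∈ B
      · exact conj_eq_of_Ct e4 r
      obtain ⟨y, hy, rfl⟩ := h.out hx r
      rw [← conj_mul, conj_eq_of_Ct e4 hy, (c'.inv_left.mul_left c).eq, mul_inv_cancel_right]
    have m1 := (((M.of_Aut hk' le_rfl).congr e3).mem_Aut hk.1)
    simpa using ((M.of_Aut (mul_mem m1 (le_Aut E' le_rfl (h.BS hw.1))) le_rfl).congr e2).mem_mul (inv_mem hs)
  by_cases l : P ≤ B
  swap
  · exact M.of_Aut (hQ P hP l hg) (ess_lt f.sat hP).le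
  rcases h.ess_le f.sat hP l with rfl | rfl | rfl
  · exact M.of_Aut (a hg) h.AS
  · have k1 := (M.of_mem F h.AS' h.tS).conj_mem_Aut hg
    rw [h.sw'] at k1
    have k2 := (M.of_mem E' h.AS (inv_mem h.tS)).conj_mem_Aut (a k1)
    rw [← h.sw', cj_inv_cj] at k2
    exact M.of_Aut (by simpa [mul_assoc] using k2) h.AS'
  · exact b g hg

end H87.HM
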