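/- Tower HM, slots En and Eg: the essential subgroups of `S = B⟨t⟩`. -/
import Cfsg.Agent.H87.HMK2

set_option autoImplicit false
set_option linter.unusedSectionVars false

namespace H87.HM
open Cfsg H92 H93 Subgroup H92.Es
open scoped commutatorElement

universe u

variable {Ω : Type u} [Group Ω] [Finite Ω] {S B A A' E : Subgroup Ω} {F : FusionSystem S}
  {b e g t u w x y z : Ω}

theorem mem_zp2 (h : t * t = 1) (hx : x ∈ zpowers t) : x = 1 ∨ x = t := by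
  obtain ⟨k, rfl⟩ := hx
  have : t ^ (2 : ℤ) = 1 := (zpow_two t).trans h
  rcases Int.even_or_odd' k with ⟨j, rfl | rfl⟩
  · simp [zpow_mul, this]
  · simp [zpow_add, zpow_mul, this]

theorem conj_of_comm (h : Commute x y) : x * y * x⁻¹ = y := by rw [h.eq, mul_inv_cancel_right]

theorem conj_mul_u (a b x : Ω) : a * b * x * (a * b)⁻¹ = a * (b * x * b⁻¹) * a⁻¹ := by group

namespace Tw
variable (h : Tw S B A A' t)
include h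

theorem ctS (hy : y ∈ S) (h1 : y ∉ B) (hz : z ∈ A ⊓ A') (c : Commute y z) : z ∈ A ⊓ A' ⊓ Ct S :=
  ⟨hz, mem_Ct'.2 fun s hs => by
    by_cases r : s ∈ B
    · exact (h.zcomm hz r).eq
    · exact mul_inv_eq_iff_eq_mul.1 ((h.conj_out hs r hz).trans ((h.conj_out hy h1 hz).symm.trans (conj_of_comm c)))⟩

theorem tvB (hx : x ∈ S) (he : e ∈ S) : e⁻¹ * (x * e * x⁻¹) ∈ B := by
  by_cases r : e ∈ B
  · exact mul_mem (inv_mem r) (conj_mem_of_Nm (h.S_Nm hx) r)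
  · exact h.mul_out (inv_mem he) (mt inv_mem_iff.1 r) (conj_mem_of_Nm (le_Nm S hx) he) fun c =>
      r (by simpa [mul_assoc] using conj_mem_of_Nm' (h.S_Nm hx) c)

/-- Splitting an element along an element outside `B`. -/
theorem split (hE : E ≤ S) (hy : y ∈ E) (h1 : y ∉ B) (he : e ∈ E) (h2 : e ∉ B) : ∃ c ∈ E ⊓ B, e = c * y :=
  ⟨e * y⁻¹, mem_inf.2 ⟨mul_mem he (inv_mem hy), h.mul_out (hE he) h2 (inv_mem (hE hy)) (mt inv_mem_iff.1 h1)⟩, by simp⟩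

/-- An element fixed modulo `Z` by an involution `w` outside `B` is fixed up to a factor in `Z`. -/
theorem fix (n : Ng (A ⊓ A') t) (hw : w ∈ S) (w1 : w ∉ B) (w2 : w * w = 1)
    (r : b⁻¹ * (w * b * w⁻¹) ∈ A ⊓ A') : ∃ v ∈ A ⊓ A', Commute w (b * v) := by
  obtain ⟨v, hv, e⟩ := h.ng_out hw w1 n _ r (mul_inv_eq_iff_eq_mul.1 (by
    rw [show w * (b⁻¹ * (w * b * w⁻¹)) * w⁻¹ = (b⁻¹ * (w * b * w⁻¹))⁻¹ * (b⁻¹ * (w * w) * b * (w * w)⁻¹) by group,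
      w2, inv_of_sq (h.eA _ r.1)]
    simp))
  refine ⟨v, hv, mul_inv_eq_iff_eq_mul.1 ?_⟩
  rw [show w * (b * v) * w⁻¹ = b * (b⁻¹ * (w * b * w⁻¹) * (w * v * w⁻¹)) by group, e, mul_assoc v,
    h.eA _ (conj_mem_of_Nm (h.S_NmZ hw) hv).1, mul_one]

variable (hF : SatA 2 F) (hE : F.IsEssential 2 E)
include hF hE

theorem step1 (hy : y ∈ E) (y1 : y ∉ B) (T : ∀ w ∈ E, w ∉ B → w * w = 1 → w ∈ Ct E →
      ∀ u ∈ A ⊓ A' ⊓ Ct S, u ≠ 1 → ∃ x ∈ S, x ∉ E ∧ x ∈ Tv E (zpowers u)) :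
    Aut F E ≤ Nm (A ⊓ A' ⊓ Ct S) ∨ ∃ w ∈ E, w ∉ B ∧ w * w = 1 ∧ w ∈ Ct E ∧
      (∀ u ∈ A ⊓ A' ⊓ Ct S, ∀ u' ∈ A ⊓ A' ⊓ Ct S, u ≠ 1 → u' ≠ 1 → u = u') ∧
      ∃ g ∈ Aut F E, ∀ u ∈ A ⊓ A' ⊓ Ct S, g * u * g⁻¹ ∈ A ⊓ A' ⊓ Ct S → u = 1 := by
  have := Fact.mk Nat.prime_two
  have ES := (ess_lt hF hE).le
  have YE : A ⊓ A' ⊓ Ct S ≤ E := fun u hu => cen_le hF hE ⟨h.BS (h.ZB hu.1), hu.2⟩
  have k : ∀ g ∈ Aut F E, ∀ u ∈ A ⊓ A' ⊓ Ct S, g * u * g⁻¹ ∈ E ∧ g * u * g⁻¹ * (g * u * g⁻¹) = 1 ∧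
      g * u * g⁻¹ ∈ Ct E := fun g hg u hu => ⟨conj_mem_of_Nm hg.1 (YE hu), by
    rw [conj_mul, h.eA u hu.1.1]; simp, conj_mem_Ct_of_Nm hg.1 (Ct_anti ES hu.2)⟩
  have k' : ∀ g ∈ Aut F E, ∀ u ∈ A ⊓ A' ⊓ Ct S, g * u * g⁻¹ ∈ B → g * u * g⁻¹ ∈ A ⊓ A' ⊓ Ct S :=
    fun g hg u hu r => have c := commute_of_Ct (k g hg u hu).2.2 hy
      h.ctS (ES hy) y1 (h.inv_Z (ES hy) y1 r (k g hg u hu).2.1 c) c
  refine or_iff_not_imp_left.2 fun n => ?_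
  obtain ⟨g, hg, n⟩ := SetLike.not_le_iff_exists.1 n
  obtain ⟨v, hv, n⟩ : ∃ u ∈ A ⊓ A' ⊓ Ct S, g * u * g⁻¹ ∉ B := by
    by_contra! c
    exact n (mem_Nm_of_conj fun u hu => k' g hg u hu (c u hu))
  obtain ⟨a, ha, na⟩ := exists_notXE hF hE
  have T' := T _ (k g hg v hv).1 n (k g hg v hv).2.1 (k g hg v hv).2.2
  have d : ∀ u ∈ A ⊓ A' ⊓ Ct S, a * u * a⁻¹ ∈ A ⊓ A' ⊓ Ct S → u = 1 := fun u hu r => by
    by_contra u1
    obtain ⟨x, xS, xE, xT⟩ := T' _ r (by simpa using u1)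
    obtain ⟨x', xS', xE', xT'⟩ := T' u hu u1
    have l := zpowers_le.2 (YE r)
    have c : ∀ {u x}, u ∈ A ⊓ A' ⊓ Ct S → x ∈ S → x ∈ Ct (zpowers u) := fun hu hx => mem_Ct_comm hu.2 hx
    refine na (mem_XE_of_St hF hE (l := [zpowers (a * u * a⁻¹)]) (by simpa using YE r) ha
      ⟨xS, Nm_of_Tv xT l le_rfl⟩ xE ⟨xT, c r xS⟩ ⟨xS', Nm_of_Tv xT' (zpowers_le.2 (YE hu)) le_rfl⟩ xE'
      (mem_St_cons.2 ⟨?_, mem_St_nil.2 ?_⟩))
    · simpa only [cj_eq_of_Nm ha.1, cj_zpowers] using conj_mem_Tv a xT'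
    · simpa only [cj_zpowers] using conj_mem_Ct_cj a (c hu xS')
  refine ⟨_, (k g hg v hv).1, n, (k g hg v hv).2.1, (k g hg v hv).2.2, fun u hu u' hu' u1 u1' => ?_, a, ha, d⟩
  have := d _ (mul_mem hu hu') (k' a ha _ (mul_mem hu hu') ((conj_mul (a := u) (b := a) (c := u')) ▸ h.mul_out (ES (k a ha u hu).1)
    (fun r => u1 (d u hu (k' a ha u hu r))) (ES (k a ha u' hu').1) fun r => u1' (d u' hu' (k' a ha u' hu' r))))
  rw [eq_inv_of_mul_eq_one_left this, inv_of_sq (h.eA u' hu'.1.1)]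

theorem nmY (n : Ng (A ⊓ A') t) (hy : y ∈ E) (y1 : y ∉ B) : Aut F E ≤ Nm (A ⊓ A' ⊓ Ct S) := by
  have := Fact.mk Nat.prime_two
  have ES := (ess_lt hF hE).le
  refine (h.step1 hF hE hy y1 fun w hw w1 w2 wc u hu u1 => ?_).resolve_right ?_
  · obtain ⟨z, hz, e⟩ := h.ng_out (ES hw) w1 n u hu.1 (commute_of_Ct hu.2 (ES hw))
    have zS := h.BS (h.ZB hz)
    refine ⟨z, zS, fun r => u1 (by rw [e, conj_eq_of_Ct wc r, h.eA z hz.1]),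
      mem_Tv.2 ⟨Ct_le_Nm _ (mem_Ct_comm hu.2 zS), fun x hx => ?_⟩⟩
    by_cases r : x ∈ B
    · simp [conj_eq_of_Ct (h.Z_Ct hz) r]
    · have := h.conj_out (inv_mem (ES hx)) (mt inv_mem_iff.1 r) hz
      rw [← h.conj_out (ES hw) w1 hz] at this
      rw [show x⁻¹ * (z * x * z⁻¹) = x⁻¹ * z * x⁻¹⁻¹ * z⁻¹ by group, this, inv_of_sq (h.eA z hz.1),
        (h.zcomm hz (h.ZB (conj_mem_of_Nm (h.S_NmZ (ES hw)) hz))).eq, ← e]
      exact mem_zpowers u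
  rintro ⟨w, hw, w1, w2, wc, uq, g, hg, d⟩
  have wS := ES hw
  have sq : ∀ e ∈ E, e * e ∈ A ⊓ A' ⊓ Ct S := fun e he => by
    have k : ∀ e ∈ E ⊓ B, e * e ∈ A ⊓ A' ⊓ Ct S := fun e he =>
      h.ctS wS w1 (h.sq_mem he.2) (commute_of_Ct wc (mul_mem he.1 he.1)).symm
    by_cases r : e ∈ B
    · exact k e ⟨he, r⟩
    obtain ⟨c, hc, rfl⟩ := h.split ES hw w1 he r
    rw [mul_assoc, ← mul_assoc w, ← (commute_of_Ct wc hc.1).eq, mul_assoc, w2, mul_one]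
    exact k c hc
  have z : ∀ b ∈ E ⊓ B, b ∈ A ⊓ A' := fun b hb => h.inv_Z wS w1 hb.2
    (d _ (sq b hb.1) (by rw [← conj_mul]; exact sq _ (conj_mem_of_Nm hg.1 hb.1))) (commute_of_Ct wc hb.1).symm
  obtain ⟨a, ha, a1⟩ := h.exA
  have k := h.change wS w1
  have a' := k.conj_mem ha
  have hb : a * (w * a * w⁻¹) ∈ B := mul_mem (h.AB ha) (h.AB' a')
  obtain ⟨v, hv, e⟩ := h.fix n wS w1 w2 (b := a * (w * a * w⁻¹)) (by
    rw [show (a * (w * a * w⁻¹))⁻¹ * (w * (a * (w * a * w⁻¹)) * w⁻¹) =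
      ⁅(w * a * w⁻¹)⁻¹, a⁻¹⁆ * (a⁻¹ * (w * w) * a * (w * w)⁻¹) by simp only [commutatorElement_def]; group, w2]
    simpa using h.commB (inv_mem (h.AB' a')) (inv_mem (h.AB ha)))
  have hbv := mul_mem hb (h.ZB hv)
  have m : a * (w * a * w⁻¹) * v ∈ E := centric_Ct_le hE.1 ⟨h.BS hbv, mem_Ct'.2 fun x hx => by
    have q : ∀ x ∈ E ⊓ B, Commute x (a * (w * a * w⁻¹) * v) := fun x hx => (h.zcomm (z x hx) hbv).symm
    by_cases r : x ∈ B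
    · exact q x ⟨hx, r⟩
    obtain ⟨c, hc, rfl⟩ := h.split ES hw w1 hx r
    exact (q c hc).mul_left e⟩
  exact a1 ((mul_mem_cancel_right a').1 ((mul_mem_cancel_right (mem_inf.1 hv).2).1 (z _ ⟨m, hbv⟩).2))

omit hF hE in
theorem mem_Qx (t2 : t * t = 1) : x ∈ Qx S (A ⊓ A') t ↔ x ∈ S ∧ t⁻¹ * (x * t * x⁻¹) ∈ A ⊓ A' :=
  ⟨fun r => ⟨r.1, tv_apply r.2 (mem_zpowers t)⟩, fun r => ⟨r.1, mem_Tv.2 ⟨h.S_NmZ r.1, fun y hy => by
    rcases mem_zp2 t2 hy with rfl | rfl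
    · simp
    · exact r.2⟩⟩⟩

theorem en (t2 : t * t = 1) (n : Ng (A ⊓ A') t) (l : ¬ E ≤ B) : Nat.card ↥(A ⊓ A') = 4 ∧ E = Qx S (A ⊓ A') t ∧
    ∃ y ∈ E, y ∉ B ∧ ∃ g ∈ Aut F E, g * y * g⁻¹ ∈ A ⊓ A' := by
  have := Fact.mk Nat.prime_two
  have ES := (ess_lt hF hE).le
  obtain ⟨y, hy, y1⟩ := SetLike.not_le_iff_exists.1 l
  have nY := h.nmY hF hE n hy y1
  have YE : A ⊓ A' ⊓ Ct S ≤ E := fun u hu => cen_le hF hE ⟨h.BS (h.ZB hu.1), hu.2⟩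
  have st : ∀ x ∈ S, (∀ e ∈ E, e⁻¹ * (x * e * x⁻¹) ∈ A ⊓ A' ⊓ Ct S) → x ∈ E := fun x hx r => by
    have : x ∈ Tv E (A ⊓ A' ⊓ Ct S) := mem_Tv.2 ⟨Ct_le_Nm _ (le_Ct_comm.1 inf_le_right hx), r⟩
    exact mem_of_St hF hE (l := [A ⊓ A' ⊓ Ct S]) (by simpa using ⟨YE, nY⟩) ⟨hx, Nm_of_Tv this YE le_rfl⟩
      ⟨this, le_Ct_comm.1 inf_le_right hx⟩
  have tr : ∀ z ∈ A ⊓ A', z * (t * z * t⁻¹) ∈ A ⊓ A' ⊓ Ct S := fun z hz => by
    have z' := conj_mem_of_Nm (h.S_NmZ h.tS) hz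
    refine h.ctS h.tS h.t_not (mul_mem hz z') (mul_inv_eq_iff_eq_mul.1 ?_)
    rw [← conj_mul, show t * (t * z * t⁻¹) * t⁻¹ = t * t * z * (t * t)⁻¹ by group, t2, one_mul, inv_one, mul_one,
      (h.zcomm hz (h.ZB z')).eq]
  have ZE : A ⊓ A' ≤ E := fun z hz => st z (h.BS (h.ZB hz)) fun e he => by
    by_cases r : e ∈ B
    · simp [conj_eq_of_Ct (h.Z_Ct hz) r]
    · rw [show e⁻¹ * (z * e * z⁻¹) = e⁻¹ * z * e⁻¹⁻¹ * z⁻¹ by group, inv_of_sq (h.eA z hz.1),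
        h.conj_out (inv_mem (ES he)) (mt inv_mem_iff.1 r) hz,
        (h.zcomm hz (h.ZB (conj_mem_of_Nm (h.S_NmZ h.tS) hz))).eq]
      exact tr z hz
  obtain ⟨g, hg, nZ⟩ : ∃ g ∈ Aut F E, g ∉ Nm (A ⊓ A') := by
    refine SetLike.not_le_iff_exists.1 fun nZ => ?_
    have e0 : E ⊓ B = E ⊓ Ct (A ⊓ A') := le_antisymm (inf_le_inf_left _ h.B_Ct) fun e he =>
      ⟨he.1, by_contra fun r => h.not_ct n ((h.ct_out (ES he.1) r).1 he.2)⟩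
    have k : ∀ x ∈ S ⊓ Nm E, x ∈ B → x ∈ E := fun x hx r => mem_of_St hF hE (l := [E ⊓ B, A ⊓ A'])
      (by simpa using ⟨fun g hg => e0 ▸ mem_Nm_inf hg.1 (mem_Nm_Ct (nZ hg)), ZE, nZ⟩) hx
      ⟨mem_Tv.2 ⟨mem_Nm_inf hx.2 (le_Nm B r), fun e he =>
        mem_inf.2 ⟨mul_mem (inv_mem he) (conj_mem_of_Nm hx.2 he), h.tvB hx.1 (ES he)⟩⟩, h.B_St inf_le_right r⟩
    obtain ⟨x, hx, x1⟩ := exists_Nm hF hE
    by_cases r : x ∈ B
    · exact x1 (k x hx r)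
    · exact x1 ((mul_mem_cancel_right hy).1 (k _ (mul_mem hx ⟨ES hy, le_Nm E hy⟩) (h.mul_out hx.1 r (ES hy) y1)))
  have z1E : cj g (A ⊓ A') ≤ E := (cj_mono g ZE).trans (cj_eq_of_Nm hg.1).le
  have n1 : E ≤ Nm (cj g (A ⊓ A')) := by
    rw [← cj_Nm, ← cj_eq_of_Nm hg.1]; exact cj_mono g (ES.trans h.S_NmZ)
  have sq1 := sq_cj (fun a (ha : a ∈ A ⊓ A') => h.eA a ha.1) g
  have zb : ∀ x ∈ cj g (A ⊓ A'), x ∈ B → x ∈ A ⊓ A' := fun x hx r => by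
    have k : ∀ {A A'}, Tw S B A A' t → x ∈ A → x ∈ A' := fun {A A'} h xa => by
      have k := h.change (ES hy) y1
      rcases h.reg x xa _ (k.conj_mem xa) (comm_of_sq sq1 hx (conj_mem_of_Nm (n1 hy) hx)) with e | e
      · exact e
      · exact by_contra fun c => k.conj_not_mem c e
    exact (h.invol r (sq1 x hx)).elim (fun e => ⟨e, k h e⟩) fun e => ⟨k h.symm e, e⟩
  obtain ⟨w, hw, w1⟩ : ∃ w ∈ cj g (A ⊓ A'), w ∉ B := SetLike.not_le_iff_exists.1 fun c =>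
    nZ (mem_Nm_of_le fun x hx => zb x hx (c hx))
  have wE := z1E hw
  have wS := ES wE
  have w2 := sq1 w hw
  have zy : ∀ x ∈ cj g (A ⊓ A'), x ∈ B → x ∈ A ⊓ A' ⊓ Ct S := fun x hx r =>
    h.ctS wS w1 (zb x hx r) (comm_of_sq sq1 hw hx)
  have q : ∀ x ∈ B, x ∈ Qx S (A ⊓ A') t ↔ w⁻¹ * (x * w * x⁻¹) ∈ A ⊓ A' := fun x hx => by
    obtain ⟨c, hc, rfl⟩ := h.out wS w1
    rw [h.mem_Qx t2, and_iff_right (h.BS hx), show (c * t)⁻¹ * (x * (c * t) * x⁻¹) =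
      t⁻¹ * (c⁻¹ * (x * c * x⁻¹)) * t * (t⁻¹ * (x * t * x⁻¹)) by group,
      mul_mem_cancel_left (conj_mem_of_Nm' (h.S_NmZ h.tS) (h.tv hx hc))]
  have wQ : w ∈ Qx S (A ⊓ A') t := by
    obtain ⟨c, hc, rfl⟩ := h.out wS w1
    refine (h.mem_Qx t2).2 ⟨wS, ?_⟩
    rw [show t⁻¹ * (c * t * t * (c * t)⁻¹) = t⁻¹ * (c * c) * t * (t⁻¹ * c⁻¹ * t⁻¹ * (t * t) * c⁻¹) by group, t2,
      show t⁻¹ * c⁻¹ * t⁻¹ * 1 * c⁻¹ = (c * t * (c * t))⁻¹ by group, w2]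
    simpa using conj_mem_of_Nm' (h.S_NmZ h.tS) (h.sq_mem hc)
  have EQ : ∀ e ∈ E ⊓ B, w⁻¹ * (e * w * e⁻¹) ∈ A ⊓ A' := fun e he =>
    zb _ (mul_mem (inv_mem hw) (conj_mem_of_Nm (n1 he.1) hw)) (h.tvB (ES he.1) wS)
  have QE : ∀ x ∈ B, w⁻¹ * (x * w * x⁻¹) ∈ A ⊓ A' → x ∈ E := fun x hx r => st x (h.BS hx) fun e he => by
    have wi := inv_of_sq w2
    have k : ∀ e ∈ E ⊓ B, e⁻¹ * (x * e * x⁻¹) ∈ A ⊓ A' ⊓ Ct S := fun e he => by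
      refine h.ctS (inv_mem wS) (mt inv_mem_iff.1 w1) (h.tv hx he.2) (mul_inv_eq_iff_eq_mul.1 ?_)
      have c1 := h.Z_Ct r
      have c2 := h.Z_Ct (EQ e he)
      have hb := h.tv hx he.2
      rw [show w⁻¹ * (e⁻¹ * (x * e * x⁻¹)) * w⁻¹⁻¹ = (w⁻¹ * (e * w * e⁻¹) * e)⁻¹ * (w⁻¹ * (x * w * x⁻¹) * x *
        (w⁻¹ * (e * w * e⁻¹) * e) * (w⁻¹ * (x * w * x⁻¹) * x)⁻¹) by group]
      generalize w⁻¹ * (x * w * x⁻¹) = u at c1 r
      have r' := EQ e he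
      generalize w⁻¹ * (e * w * e⁻¹) = v at c2 r'
      rw [conj_mul_u, conj_eq_of_Ct c1 (conj_mem_of_Nm (le_Nm B hx) (mul_mem (h.ZB r') he.2)),
        ← conj_mul, conj_eq_of_Ct (h.B_Ct hx) r']
      group
    have k' : w⁻¹ * (x * w * x⁻¹) ∈ A ⊓ A' ⊓ Ct S := h.ctS wS w1 r (mul_inv_eq_iff_eq_mul.1 (by
      rw [show w * (w⁻¹ * (x * w * x⁻¹)) * w⁻¹ = x * (w * w) * x⁻¹ * (w⁻¹ * (x * w * x⁻¹))⁻¹ * (w * w)⁻¹ by group,
        w2, inv_of_sq (h.eA _ r.1)]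
      simp))
    by_cases r' : e ∈ B
    · exact k e ⟨he, r'⟩
    obtain ⟨c, hc, rfl⟩ := h.split ES wE w1 he r'
    rw [show (c * w)⁻¹ * (x * (c * w) * x⁻¹) = w⁻¹ * (c⁻¹ * (x * c * x⁻¹)) * w * (w⁻¹ * (x * w * x⁻¹)) by group,
      conj_eq_of_Ct' (le_Ct_comm.1 inf_le_right wS) (k c hc)]
    exact mul_mem (k c hc) k'
  refine ⟨?_, le_antisymm (fun e he => ?_) fun x hx => ?_, w, wE, w1, g⁻¹, inv_mem hg, by simpa using mem_cj.1 hw⟩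
  · have z0 := mem_cj.1 hw
    have n0 : g⁻¹ * w * g ∉ A ⊓ A' ⊓ Ct S := fun r => w1 (h.ZB (by
      simpa [mul_assoc] using (conj_mem_of_Nm (nY hg) r).1))
    have dz : ∀ z ∈ A ⊓ A', z ∉ A ⊓ A' ⊓ Ct S → z * (g⁻¹ * w * g) ∈ A ⊓ A' ⊓ Ct S := fun z hz r => by
      have := conj_mem_of_Nm' (nY hg) (zy _ (mul_mem (conj_mem_cj g hz) hw) (h.mul_out (ES (z1E (conj_mem_cj g hz)))
        (fun c => r (by simpa [mul_assoc] using conj_mem_of_Nm' (nY hg) (zy _ (conj_mem_cj g hz) c))) wS w1))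
      simpa [mul_assoc] using this
    generalize g⁻¹ * w * g = v at z0 n0 dz
    have fx : ∀ z ∈ A ⊓ A' ⊓ Ct S, z * (t * z * t⁻¹) = 1 := fun z hz => by
      rw [conj_of_comm (commute_of_Ct hz.2 h.tS), h.eA z hz.1.1]
    have i2 : (A ⊓ A' ⊓ Ct S).relIndex (A ⊓ A') = 2 := index_eq_two_iff.2 ⟨⟨v, z0⟩, fun z => by
      simp only [mem_subgroupOf, coe_mul]
      by_cases r : (z : Ω) ∈ A ⊓ A' ⊓ Ct S
      · exact Or.inr ⟨r, fun c => n0 ((mul_mem_cancel_left r).1 c)⟩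
      · exact Or.inl ⟨dz z z.2 r, r⟩⟩
    have c2 : Nat.card ↥(A ⊓ A' ⊓ Ct S) = 2 := (Nat.card_eq_two_iff' 1).2 ⟨⟨_, tr v z0⟩, fun c => n0
      (h.ctS h.tS h.t_not z0 (mul_inv_eq_iff_eq_mul.1 (by
        rw [eq_inv_of_mul_eq_one_right (congrArg Subtype.val c), inv_of_sq (h.eA v z0.1)]))), fun u u1 => by
      obtain ⟨z, hz, e⟩ := n u u.2.1 (commute_of_Ct u.2.2 h.tS)
      have := fx _ (dz z hz fun c => u1 (Subtype.ext (e.trans (fx z c))))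
      have v' := conj_mem_of_Nm (h.S_NmZ h.tS) z0
      rw [← conj_mul, mul_assoc, ← mul_assoc v, (h.zcomm (conj_mem_of_Nm (h.S_NmZ h.tS) hz) (h.ZB z0)).eq,
        mul_assoc _ v, ← mul_assoc, ← e] at this
      exact Subtype.ext ((eq_inv_of_mul_eq_one_left this).trans (inv_of_sq (h.eA _ (mul_mem z0 v').1)))⟩
    have h9 := card_mul_index ((A ⊓ A' ⊓ Ct S).subgroupOf (A ⊓ A'))
    rw [Nat.card_congr (subgroupOfEquivOfLe inf_le_left).toEquiv, c2] at h9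
    exact h9.symm.trans (congrArg (2 * ·) i2)
  · by_cases r : e ∈ B
    · exact (q e r).2 (EQ e ⟨he, r⟩)
    obtain ⟨c, hc, rfl⟩ := h.split ES wE w1 he r
    exact mul_mem ((q c hc.2).2 (EQ c hc)) wQ
  · by_cases r : x ∈ B
    · exact QE x r ((q x r).1 hx)
    obtain ⟨c, hc, rfl⟩ := h.split inf_le_left wQ w1 hx r
    exact mul_mem (QE c hc.2 ((q c hc.2).1 hc.1)) wE

end Tw

theorem jobEn : JobEn.{u} := fun _ _ _ _ _ _ _ _ _ hF h t2 n _ hE =>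
  or_iff_not_imp_left.2 (h.en hF hE t2 n)

section eg
variable {K : Type} [Field K] [Finite K] [CharP K 2] {m : K → K → K → Ω}

theorem T3.actO (s : T3 S B m t 1) (hK : 2 < Nat.card K) (hy : y ∈ S) (y1 : y ∉ B) : ∃ d d',
    (∀ a b c, y * m a b c * y⁻¹ = m b a (c + a * b + d * a - b * d')) ∧ (y * y ∈ Z3 m → d = d') := by
  obtain ⟨x, hx, rfl⟩ := (s.tw hK).out hy y1
  obtain ⟨d, d', e, rfl⟩ := s.he.surj x hx
  refine ⟨d, d', fun a b c => by rw [conj_mul_u, s.act, s.he.conj]; rfl, fun r => ?_⟩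
  rw [show m d d' e * t * (m d d' e * t) = m d d' e * (t * m d d' e * t⁻¹) * (t * t) by group, s.t2, mul_one,
    s.act, s.he.mul] at r
  exact CharTwo.add_eq_zero.1 (s.he.mem_Z.1 r).1

theorem exists_ne01 (hK : 2 < Nat.card K) : ∃ v : K, v ≠ 0 ∧ v ≠ 1 := by
  by_contra! hc
  have := Fintype.ofFinite K
  classical
  have : (Finset.univ : Finset K) ⊆ {0, 1} := fun x _ => by by_cases e : x = 0 <;> simp [e, hc x]
  have := (Finset.card_le_card this).trans Finset.card_le_two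
  rw [Nat.card_eq_fintype_card] at hK
  exact hK.not_ge this

theorem jobEg : JobEg.{u} := fun K _ _ _ Ω _ _ S B F m t hK hF s E hE => by
  have := Fact.mk Nat.prime_two
  have h := s.tw hK
  have k := s.he
  have ES := (ess_lt hF hE).le
  by_contra l
  obtain ⟨y, hy, y1⟩ := SetLike.not_le_iff_exists.1 l
  obtain ⟨v, v0, v1⟩ := exists_ne01 hK
  have mZ : ∀ c, m 0 0 c ∈ Z3 m := fun c => k.mem_Z.2 ⟨rfl, rfl⟩
  have mS : ∀ a b c, m a b c ∈ S := fun a b c => h.BS (k.mem ..)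
  have eY : A3 m ⊓ A3' m ⊓ Ct S = Z3 m := le_antisymm (inf_le_left.trans k.inf_eq.le) fun z hz =>
    h.ctS h.tS h.t_not (k.inf_eq.ge hz) (by
      obtain ⟨c, rfl⟩ := k.exZ hz
      exact mul_inv_eq_iff_eq_mul.1 (s.actZ c))
  have ZS : S ≤ Ct (Z3 m) := le_Ct_comm.1 (eY.ge.trans inf_le_right)
  have ZE : Z3 m ≤ E := fun u hu => cen_le hF hE ⟨h.BS (h.ZB (k.inf_eq.ge hu)), (eY.ge hu).2⟩
  have fx : ∀ {w a b c}, w ∈ S → w ∉ B → w * w ∈ Z3 m → Commute w (m a b c) → a = 0 ∧ b = 0 :=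
    fun {w a b c} wS w1 w2 cm => by
      obtain ⟨d, d', r, r'⟩ := s.actO hK wS w1
      obtain rfl := r' w2
      obtain ⟨rfl, -, e⟩ := k.inj ((r a b c).symm.trans (conj_of_comm cm))
      have : b * b = 0 := by linear_combination e
      simpa using this
  have nZ : Aut F E ≤ Nm (Z3 m) := by
    refine eY ▸ (h.step1 hF hE hy y1 fun w hw w1 w2 wc u hu u1 => ?_).resolve_right ?_
    · obtain ⟨c, rfl⟩ := k.exZ (eY.le hu)
      obtain ⟨a, rfl⟩ : ∃ a : K, a * a = c := by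
        obtain ⟨a, r⟩ := surjective_frobenius K 2 c
        exact ⟨a, by rw [← sq]; exact r⟩
      have w3 : w * w ∈ Z3 m := w2 ▸ one_mem _
      refine ⟨m a a 0, mS .., fun r => u1 (by simp [(fx (ES hw) w1 w3 (commute_of_Ct wc r).symm).1, k.one]),
        mem_Tv.2 ⟨Ct_le_Nm _ (mem_Ct_comm hu.2 (mS ..)), fun x hx => ?_⟩⟩
      have q : ∀ x ∈ E ⊓ B, m a a 0 * x * (m a a 0)⁻¹ = x := fun x hx => by
        obtain ⟨a, b, c, rfl⟩ := k.surj x hx.2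
        exact conj_eq_of_Ct (ZS (mS ..)) (k.mem_Z.2 (fx (ES hw) w1 w3 (commute_of_Ct wc hx.1).symm))
      by_cases r : x ∈ B
      · simp [q x ⟨hx, r⟩]
      obtain ⟨c, hc, rfl⟩ := h.split ES hw w1 hx r
      obtain ⟨d, d', r, r'⟩ := s.actO hK (ES hw) w1
      obtain rfl := r' w3
      rw [← conj_mul, q c hc, show (c * w)⁻¹ * (c * (m a a 0 * w * (m a a 0)⁻¹)) =
        w⁻¹ * m a a 0 * w⁻¹⁻¹ * (m a a 0)⁻¹ by group, inv_of_sq w2, r, k.inv, k.mul]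
      convert mem_zpowers _ using 2 <;> simp [CharTwo.add_self_eq_zero, CharTwo.neg_eq]
      linear_combination (a * a) * (CharTwo.two_eq_zero (R := K))
    · rintro ⟨w, -, -, -, -, uq, -⟩
      exact v1 (k.inj (uq _ (eY.ge (mZ v)) _ (eY.ge (mZ 1)) (by simpa [k.eq_one] using v0) (by simp [k.eq_one]))).2.2
  have tv : ∀ {w a b c}, w ∈ S → w ∉ B → ∃ z, w⁻¹ * (m a b c * w * (m a b c)⁻¹) = m (a + b) (a + b) z :=
    fun {w a b c} wS w1 => by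
      obtain ⟨d, d', r, -⟩ := s.actO hK (inv_mem wS) (mt inv_mem_iff.1 w1)
      rw [show w⁻¹ * (m a b c * w * (m a b c)⁻¹) = w⁻¹ * m a b c * w⁻¹⁻¹ * (m a b c)⁻¹ by group, r, k.inv, k.mul,
        CharTwo.neg_eq, CharTwo.neg_eq, add_comm b a]
      exact ⟨_, rfl⟩
  let D := B ⊓ Tv S (Z3 m)
  have mD : ∀ {a b c}, m a b c ∈ D ↔ a = b := fun {a b c} => ⟨fun r => by
      obtain ⟨z, e⟩ := tv (a := a) (b := b) (c := c) h.tS h.t_not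
      exact CharTwo.add_eq_zero.1 (k.mem_Z.1 (e ▸ tv_apply r.2 h.tS)).1, by
    rintro rfl
    refine ⟨k.mem .., mem_Tv.2 ⟨Ct_le_Nm _ (ZS (mS ..)), fun x hx => ?_⟩⟩
    by_cases r : x ∈ B
    · exact k.inf_eq ▸ h.tv (k.mem ..) r
    · obtain ⟨z, e⟩ := tv (a := a) (b := a) (c := c) hx r
      rw [e, CharTwo.add_self_eq_zero]; exact mZ z⟩
  have DE : D ≤ E := fun x hx => mem_of_St hF hE (l := [Z3 m]) (by simpa using ⟨ZE, nZ⟩)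
    ⟨h.BS hx.1, Nm_of_Tv hx.2 ZE ES⟩ ⟨Tv_anti ES _ hx.2, ZS (h.BS hx.1)⟩
  have nD : Aut F E ≤ Nm D := by
    by_cases e0 : E ⊓ B ≤ D
    · intro g hg
      refine mem_Nm_of_conj fun x hx => e0 ⟨conj_mem_of_Nm hg.1 (DE hx), by_contra fun r => ?_⟩
      have xB := hx.1
      have c : ∀ a, a ≠ 0 → g⁻¹ * m a a 0 * g ∉ B := fun a a0 r' => by
        have m1 := e0 ⟨conj_mem_of_Nm' hg.1 (DE (mD.2 rfl)), r'⟩
        have : Commute x (g⁻¹ * m a a 0 * g) := by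
          obtain ⟨p, p', z, e⟩ := k.surj _ r'
          obtain ⟨u, u', z', rfl⟩ := k.surj _ xB
          rw [e] at m1 ⊢
          rw [k.comm_iff, mD.1 m1, mD.1 hx, mul_comm]
        refine a0 (fx (ES (conj_mem_of_Nm hg.1 (DE hx))) r
          (by rw [conj_mul]; exact conj_mem_of_Nm (nZ hg) (k.inf_eq ▸ h.sq_mem xB)) (c := 0) (b := a) ?_).1
        simpa [mul_assoc] using this.map (MulAut.conj g)
      have hS : ∀ a, g⁻¹ * m a a 0 * g ∈ S := fun a => ES (conj_mem_of_Nm' hg.1 (DE (mD.2 rfl)))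
      have := h.mul_out (hS 1) (c 1 one_ne_zero) (hS v) (c v v0)
      refine c (1 + v) (fun e => v1 (CharTwo.add_eq_zero.1 e).symm) ?_
      have z := h.ZB (k.inf_eq.ge (conj_mem_of_Nm' (nZ hg) (mZ v)))
      convert mul_mem this z using 1
      rw [show g⁻¹ * m 1 1 0 * g * (g⁻¹ * m v v 0 * g) * (g⁻¹ * m 0 0 v * g) = g⁻¹ * (m 1 1 0 * m v v 0 * m 0 0 v) * g by
        group, k.mul, k.mul]
      simp [CharTwo.add_self_eq_zero]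
    · obtain ⟨x, hx, x1⟩ := SetLike.not_le_iff_exists.1 e0
      obtain ⟨a, b, c, rfl⟩ := k.surj x hx.2
      have e : D = E ⊓ Tv E (Z3 m) := le_antisymm (le_inf DE fun x hx => Tv_anti ES _ hx.2) fun w hw => by
        by_cases r : w ∈ B
        · obtain ⟨p, p', z, rfl⟩ := k.surj w r
          obtain ⟨z', e⟩ := tv (a := p) (b := p') (c := z) (ES hy) y1
          exact mD.2 (CharTwo.add_eq_zero.1 (k.mem_Z.1 (e ▸ tv_apply hw.2 hy)).1)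
        · obtain ⟨z', e⟩ := tv (a := a) (b := b) (c := c) (ES hw.1) r
          have := tv_apply' (inv_mem (mem_inf.1 hw).2) hx.1
          rw [inv_inv, mul_assoc, mul_assoc, ← mul_assoc (m a b c), e] at this
          exact (x1 (mD.2 (CharTwo.add_eq_zero.1 (k.mem_Z.1 this).1))).elim
      exact fun g hg => e ▸ mem_Nm_inf hg.1 (mem_Nm_Tv hg.1 (nZ hg))
  have ZD : Z3 m ≤ D := fun z hz => by
    obtain ⟨c, rfl⟩ := k.exZ hz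
    exact mD.2 rfl
  have BE : B ≤ E := fun x hx => by
    have : x ∈ Tv E D := mem_Tv.2 ⟨h.le_Nm' (k.inf_eq.le.trans ZD) inf_le_left hx, fun e he => by
      by_cases r : e ∈ B
      · exact ZD (k.inf_eq.le (h.tv hx r))
      obtain ⟨a, b, c, rfl⟩ := k.surj x hx
      obtain ⟨z, e'⟩ := tv (a := a) (b := b) (c := c) (ES he) r
      exact e' ▸ mD.2 rfl⟩
    exact mem_of_St hF hE (l := [D, Z3 m]) (by simpa using ⟨⟨DE, nD⟩, ZE, nZ⟩) ⟨h.BS hx, Nm_of_Tv this DE le_rfl⟩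
      ⟨this, k.inf_eq ▸ h.B_St inf_le_left hx⟩
  refine (ess_lt hF hE).not_ge fun x hx => ?_
  by_cases r : x ∈ B
  · exact BE r
  · exact (mul_mem_cancel_right hy).1 (BE (h.mul_out hx r (ES hy) y1))

end eg

end H87.HM
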