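/- Tower HM: a block with `B = A A'`; slot L4f (free action) and slot L4b. -/
import Cfsg.Agent.H87.HMEss
import Cfsg.Agent.H98.CoLem
import Cfsg.Agent.H98.JobCo

set_option autoImplicit false
set_option linter.unusedSectionVars false

namespace H87.HM
open Cfsg H93 Subgroup
open H92 hiding zc
open H96.CG (Bk Tri ea_sq ea_com)
open H52 (zc)
open H98 (SL Sec T2)
open scoped commutatorElement

universe u

variable {Ω : Type u} [Group Ω] [Finite Ω] {S B R A A' E P X : Subgroup Ω} {F : FusionSystem S} {q : ℕ}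
  {a b c f g s t x y z : Ω}

/-- A block whose two sides generate `B`. -/
structure Bg (q : ℕ) (B R A A' : Subgroup Ω) : Prop where
  bk : Bk q B R A A'
  gen : A ⊔ A' = B

namespace Bg
variable (u : Bg q B R A A')
include u

theorem DZ : B ⊓ Ct R = zc B ⊓ Ct R :=
  le_antisymm (le_inf (le_inf inf_le_left (by
    conv_rhs => rw [← u.gen]
    exact (le_inf u.bk.tri.cA u.bk.tri.cA').trans (Ct_sup A A').ge)) inf_le_right) (inf_le_inf_right _ inf_le_left)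

theorem tri : Tri q B A A' (zc B ⊓ Ct R) := u.DZ ▸ u.bk.tri

theorem cenA : B ⊓ Ct A = A := u.tri.cenA.trans (sup_of_le_left (inf_le_left.trans u.tri.zA))
theorem cenA' : B ⊓ Ct A' = A' := u.tri.symm.cenA.trans (sup_of_le_left (inf_le_left.trans u.tri.zA'))

theorem invol (hb : b ∈ B) (h : b * b = 1) : b ∈ A ∨ b ∈ A' :=
  (u.tri.invol hb h).imp (fun e => u.cenA.le ⟨hb, e⟩) fun e => u.cenA'.le ⟨hb, e⟩

theorem cent (ha : a ∈ A) (h : a ∉ zc B) (hb : b ∈ B) (e : Commute a b) : b ∈ A :=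
  u.cenA.le ⟨hb, u.tri.cent_le (u.tri.AB ha) (H12.ea_le_centralizer u.tri.eA ha)
    (mt (u.tri.mem_Z_of_cen ha) h) hb e⟩

theorem dec (hb : b ∈ B) : ∃ a ∈ A, ∃ a' ∈ A', a * a' = b :=
  (mem_sup_of_le_Nm' (u.tri.AB'.trans u.tri.nA)).1 (u.gen.ge hb)

theorem ea_or (hE : IsElementaryAbelian 2 E) (h : E ≤ B) : E ≤ A ∨ E ≤ A' :=
  le_or_le fun _ hx => u.invol (h hx) (ea_sq hE hx)

theorem maxA : A ∈ H12.maxEA 2 B :=
  ⟨u.tri.AB, u.tri.eA, fun _ h h' => (u.ea_or h' h).elim card_le_of_le fun e => u.tri.card_eq ▸ card_le_of_le e⟩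

theorem maxA' : A' ∈ H12.maxEA 2 B := H12.mem_maxEA_of_card_le u.maxA u.tri.AB' u.tri.eA' u.tri.card_eq.ge

theorem max_or (hE : IsElementaryAbelian 2 E) (h : E ≤ B) (c : Nat.card A ≤ Nat.card E) : E = A ∨ E = A' :=
  (u.ea_or hE h).imp (fun h => eq_of_le_of_card_ge h c) fun h => eq_of_le_of_card_ge h (u.tri.card_eq ▸ c)

theorem perm (h : g ∈ Nm B) : g ∈ Nm A ∧ g ∈ Nm A' ∨ cj g A = A' ∧ cj g A' = A := by
  have h1 := u.max_or (H96.ea_cj u.tri.eA g) ((cj_mono g u.tri.AB).trans (cj_eq_of_Nm h).le) (card_cj g A).ge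
  have h2 := u.max_or (H96.ea_cj u.tri.eA' g) ((cj_mono g u.tri.AB').trans (cj_eq_of_Nm h).le)
    (u.tri.card_eq.ge.trans (card_cj g A').ge)
  have n : cj g A ≠ cj g A' := mt cj_inj.1 u.tri.ne
  rcases h1 with h1 | h1 <;> rcases h2 with h2 | h2
  · exact (n (h1.trans h2.symm)).elim
  · exact Or.inl ⟨mem_Nm.2 h1, mem_Nm.2 h2⟩
  · exact Or.inr ⟨h1, h2⟩
  · exact (n (h1.trans h2.symm)).elim

theorem jt_B : H98.jt 2 B = B := le_antisymm (H98.jt_le B) (u.gen.ge.trans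
  (sup_le (H12.le_thompsonSubgroupOf u.maxA) (H12.le_thompsonSubgroupOf u.maxA')))

theorem cZ (h : H98.bm 2 P = B) : P ⊓ Ct (zc B) = B := by
  conv_rhs => rw [← h, H98.bm_eq, ← H98.jt_bm, h, u.jt_B]
  rw [le_antisymm (le_inf (H98.oz_le B) (H98.oz_le_centralizer B)) (H98.le_oz u.tri.eZ inf_le_left inf_le_right)]

theorem sqZ (hz : z ∈ zc B) : z * z = 1 := ea_sq u.tri.eZ hz

theorem commB (hb : b ∈ B) (hc : c ∈ B) : ⁅b, c⁆ ∈ zc B := by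
  obtain ⟨a, ha, a', ha', rfl⟩ := u.dec hb
  rw [show ⁅a * a', c⁆ = a * ⁅a', c⁆ * a⁻¹ * ⁅a, c⁆ by simp only [commutatorElement_def]; group,
    conj_eq_of_Ct (P := zc B) (le_Ct_comm.1 inf_le_right (u.tri.AB ha)) (u.tri.symm.commB ha' hc)]
  exact mul_mem (u.tri.symm.commB ha' hc) (u.tri.commB ha hc)

theorem sqB (hb : b ∈ B) : b * b ∈ zc B := by
  obtain ⟨a, ha, a', ha', rfl⟩ := u.dec hb
  rw [show a * a' * (a * a') = ⁅a, a'⁆ * (a' * (a * a) * a') by simp only [commutatorElement_def]; group,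
    ea_sq u.tri.eA ha, mul_one, ea_sq u.tri.eA' ha', mul_one]
  exact u.tri.comm a ha a' ha'

theorem t_Nm (h : cj t A = A') (h' : cj t A' = A) : t ∈ Nm B := mem_Nm.2 (by rw [← u.gen, cj_sup, h, h', sup_comm])

end Bg

theorem nZ (h : g ∈ Nm B) : g ∈ Nm (zc B) := mem_Nm_inf h (mem_Nm_Ct h)

theorem cj_D (h : t ∈ Nm B) : cj t (zc B ⊓ Ct R) = zc B ⊓ Ct (cj t R) := by
  rw [cj_inf, cj_eq_of_Nm (nZ h), cj_Ct]

theorem comm_mem_of (hg : g ∈ Nm P) (hx : x ∈ P) : ⁅x, g⁆ ∈ P := by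
  simpa [commutatorElement_def, mul_assoc] using mul_mem hx (conj_mem_of_Nm hg (inv_mem hx))

theorem comm_conj (g x y : Ω) : g * ⁅x, y⁆ * g⁻¹ = ⁅g * x * g⁻¹, g * y * g⁻¹⁆ := by
  simp only [commutatorElement_def]; group

theorem comm_swap (h : ⁅x, y⁆ ∈ P) : ⁅y, x⁆ ∈ P := commutatorElement_inv x y ▸ inv_mem h

/-- The two subgroups `D`, `D'` span the centre. -/
theorem sup_DD {K : Type} [Field K] (c : H96.CG.Co B R A A' K) (u : Bg q B R A A') (hS : B ≤ S) (tS : t ∈ S)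
    (sw : cj t A = A') (sw' : cj t A' = A) (RB : ∀ g ∈ R, g ∈ Nm B → M F B g) (nD : Aut F A ≤ Nm (zc B ⊓ Ct R))
    (DD : zc B ⊓ Ct R ⊓ Ct (cj t R) = ⊥) : (R ⊓ Nm B ≤ Nm (zc B ⊓ Ct (cj t R))) ∧ (zc B ⊓ Ct R ≠ ⊥ →
      ∀ z ∈ zc B, ∃ d ∈ zc B ⊓ Ct (cj t R), d⁻¹ * z ∈ zc B ⊓ Ct R) := by
  have tB := u.t_Nm sw sw'
  have n : R ⊓ Nm B ≤ Nm (zc B ⊓ Ct (cj t R)) := fun g hg => by
    have m := (RB g hg.1 hg.2).conj (M.of_mem F hS (inv_mem tS)) le_rfl (cj_eq_of_Nm hg.2).le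
    rw [cj_eq_of_Nm (inv_mem tB)] at m
    have := conj_mem_Nm_cj t⁻¹ (u.bk.nA' (le_Nm R hg.1) hg.2)
    rw [← sw, cj_inv_cj] at this
    rw [← cj_D tB]
    simpa [mul_assoc] using conj_mem_Nm_cj t (nD ((m.mono u.tri.AB).mem_Aut this))
  refine ⟨n, fun d z hz => H98.H96.CG.Co.irr_z c n inf_le_left (fun l => d ?_) hz⟩
  rw [← cj_eq_bot (g := t), cj_D tB, eq_bot_iff, ← DD]
  exact le_inf l inf_le_right

theorem sl_free {K : Type} [Field K] {U W : Subgroup Ω} {e : Sec K U W} {σ : K ≃+* K} {k : K} (h : SL e g σ k)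
    (two : (2 : K) = 0) (hg : g ∈ Nm U) (h1 : σ ≠ 1) (h2 : ∀ x ∈ U, ⁅g * g, x⁆ ∈ W) (hx : x ∈ U)
    (r : ⁅x, g⁆ ∈ W) : ∃ y ∈ U, x * ⁅y, g⁆ ∈ W := by
  have : CharP K 2 := CharTwo.of_one_ne_zero_of_two_eq_zero one_ne_zero two
  obtain ⟨l, hl⟩ := exists_trace (σ := σ) (fun x => by
    simpa using congrArg (· x) ((h.mul h hg).uniq (SL.of_triv e (mul_mem hg hg) h2)).1) h1
  obtain ⟨y, hy, r'⟩ := e.surj (l * e.ψ x)
  have m := comm_mem_of hg hy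
  refine ⟨y, hy, (e.ker _ (mul_mem hx m)).1 ?_⟩
  have e1 := (h.cm_iff hg hx).1 (comm_swap r)
  have e2 := e.ψ_comm hg hy
  have e3 := e.mul _ m _ (inv_mem m)
  rw [mul_inv_cancel, (e.ker _ (one_mem _)).2 (one_mem _), commutatorElement_inv, e2, h.eq y hy, r', map_mul] at e3
  rw [e.mul _ hx _ m]
  linear_combination -e3 - σ l * e1 - e.ψ x * hl + l * e.ψ x * two

namespace Bl
variable (h : Bl F q B R A A' X t)
include h

theorem bg : Bg q B R A A' := ⟨h.bk, h.gen⟩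
theorem BT : B ≤ S ⊓ Nm A := h.bm ▸ H98.bm_le _
theorem TB : S ⊓ Nm A ≤ Nm B := h.bm ▸ H98.le_normalizer_bm (le_Nm _)
theorem TR : S ⊓ Nm A ≤ Nm R := h.md.syl.le.trans h.XR
theorem TA' : S ⊓ Nm A ≤ Nm A' := fun _ r => h.bk.nA' (h.TR r) (h.TB r)
theorem tB : t ∈ Nm B := h.bg.t_Nm h.sw h.sw'

theorem cjT (hs : s ∈ S ⊓ Nm A) : t⁻¹ * s * t ∈ S ⊓ Nm A := ⟨conj_mem_of_Nm' (le_Nm S h.tS) hs.1, by
  have := conj_mem_Nm_cj t⁻¹ (h.TA' hs)
  rwa [← h.sw, cj_inv_cj, inv_inv] at this⟩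

theorem nD : Aut F A ≤ Nm (zc B ⊓ Ct R) := fun g hg => by
  have AS := h.bk.tri.AB.trans (h.BT.trans inf_le_left)
  obtain ⟨x, hx, e⟩ := h.md.real A g le_rfl (le_Nm A) (M.of_Aut hg AS) hg.1
  rw [← h.bk.A_cen]
  exact Nm_of_div_Ct (mem_Nm_inf (h.md.le hx) (mem_Nm_Ct (h.XR hx))) (Ct_anti inf_le_left (div_symm e))

theorem RB : ∀ g ∈ R, g ∈ Nm B → M F B g := fun g hg r =>
  h.md.mor B g (h.RX hg) h.BT ((cj_eq_of_Nm r).le.trans h.BT)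

theorem memD' : z ∈ zc B ⊓ Ct (cj t R) ↔ t⁻¹ * z * t ∈ zc B ⊓ Ct R := by rw [← cj_D h.tB, mem_cj]

theorem mem_B (hs : s ∈ S ⊓ Nm A) (h1 : ∀ z ∈ zc B, ⁅s, z⁆ ∈ zc B ⊓ Ct R)
    (h2 : ∀ z ∈ zc B, ⁅t⁻¹ * s * t, z⁆ ∈ zc B ⊓ Ct R) : s ∈ B := (h.bg.cZ h.bm).le ⟨hs, mem_Ct'.2 fun z hz =>
  (commutatorElement_eq_one_iff_commute.1 (mem_bot.1 (h.DD.le ⟨h1 z hz, (h.memD'.2 (by
    convert h2 _ (conj_mem_of_Nm' (nZ h.tB) hz) using 1
    simp only [commutatorElement_def]; group)).2⟩))).symm.eq⟩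

theorem two (e : q = 2) : S ⊓ Nm A = B := le_antisymm (fun s hs => by
  have k : ∀ s ∈ S ⊓ Nm A, ∀ z ∈ zc B, ⁅s, z⁆ ∈ zc B ⊓ Ct R := fun s hs z hz => by
    have n := mem_Nm_inf (nZ (h.TB hs)) (mem_Nm_Ct (h.TR hs))
    have := mul_mem_iff_of_index_two (e ▸ h.bg.tri.idxD) (a := ⟨_, conj_mem_of_Nm (nZ (h.TB hs)) hz⟩)
      (b := ⟨_, inv_mem hz⟩)
    simp only [mem_subgroupOf, coe_mul, inv_mem_iff] at this
    exact this.2 ⟨fun r => by simpa [mul_assoc] using conj_mem_of_Nm' n r, conj_mem_of_Nm n⟩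
  exact h.mem_B hs (k s hs) (k _ (h.cjT hs))) h.BT

end Bl

open H98.H96.CG.Co in
theorem jobL4f : JobL4f.{u} := fun Ω _ _ S F q B R A A' X t h s hs s1 s2 => by
  have u := h.bg
  rcases (Nat.succ_le_of_lt u.tri.one_lt).eq_or_lt with e | e
  · exact (s1 ((h.two e.symm).le hs)).elim
  obtain ⟨K, _, _, -, ⟨c⟩⟩ := H98.jobCo Ω q B R A A' h.bk e
  have t2 : ∀ s ∈ S ⊓ Nm A, T2 s := fun s hs => T2.of_mem h.sat.pg hs.1
  have s' := h.cjT hs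
  have e1 : sg c s = 1 → sg c (t⁻¹ * s * t) = 1 := fun r => sg_of_a c h.bk (h.TR s') (h.TB s') fun x hx => by
    have := conj_mem_of_Nm (nZ (inv_mem h.tB)) (triv_b c h.bk (h.TR hs) (h.TB hs) (t2 s hs) r _ (h.sw ▸ conj_mem_cj t hx))
    convert this using 1; simp only [commutatorElement_def]; group
  have e2 : sg c (t⁻¹ * s * t) = 1 → sg c s = 1 := fun r => sg_of_a c h.bk (h.TR hs) (h.TB hs) fun x hx => by
    have := conj_mem_of_Nm (nZ h.tB) (triv_b c h.bk (h.TR s') (h.TB s') (t2 _ s') r _ (mem_cj.1 (h.sw'.ge hx)))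
    convert this using 1; simp only [commutatorElement_def]; group
  have n1 : sg c s ≠ 1 := fun r => s1 (h.mem_B hs (triv_z c (h.TR hs) (h.TB hs) (t2 s hs) r)
    (triv_z c (h.TR s') (h.TB s') (t2 _ s') (e1 r)))
  have zz : ∀ b ∈ B, ∀ z ∈ zc B, ⁅b, z⁆ ∈ zc B ⊓ Ct R := fun b hb z hz => by
    rw [commutatorElement_eq_one_iff_commute.2 (commute_of_Ct hz.2 hb)]; exact one_mem _
  refine ⟨fun a ha r => sl_free (sl_a c (h.TR hs) (h.TB hs)) c.two hs.2 n1 (fun x hx => u.commB s2 (u.tri.AB hx)) ha r,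
    fun a ha r => sl_free (sl_b c (h.TR hs) (h.TB hs)) c.two (h.TA' hs) n1 (fun x hx => u.commB s2 (u.tri.AB' hx)) ha r,
    fun z hz cm => ?_⟩
  have sZ := nZ (h.TB hs)
  suffices ∃ w ∈ zc B, z * ⁅w, s⁆ = 1 by
    obtain ⟨w, hw, r⟩ := this
    refine ⟨w, hw, ?_⟩
    rw [eq_inv_of_mul_eq_one_left r, inv_of_sq (u.sqZ (comm_mem_of sZ hw)), commutatorElement_def,
      inv_of_sq (u.sqZ hw)]
    group
  have c1 := commutatorElement_eq_one_iff_commute.2 cm.symm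
  obtain ⟨y, hy, r⟩ := sl_free (sl_z c (h.TR hs) (h.TB hs)) c.two sZ n1 (zz _ s2) hz (c1 ▸ one_mem _)
  by_cases d : zc B ⊓ Ct R = ⊥
  · exact ⟨y, hy, mem_bot.1 (d ▸ r)⟩
  obtain ⟨y', hy', r'⟩ := sl_free (sl_z c (h.TR s') (h.TB s')) c.two (nZ (h.TB s')) (mt e2 n1)
    (zz _ (by simpa [mul_assoc] using conj_mem_of_Nm' h.tB s2)) (conj_mem_of_Nm' (nZ h.tB) hz) (by
      have := comm_conj t⁻¹ z s
      rw [c1, inv_inv] at this
      rw [← this]; simp)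
  have y1 := conj_mem_of_Nm (nZ h.tB) hy'
  have r1 : z * ⁅t * y' * t⁻¹, s⁆ ∈ zc B ⊓ Ct (cj t R) := h.memD'.2 (by
    convert r' using 1; simp only [commutatorElement_def]; group)
  generalize t * y' * t⁻¹ = v at y1 r1
  have sp := (sup_DD c u (h.BT.trans inf_le_left) h.tS h.sw h.sw' h.RB h.nD h.DD).2 d
  obtain ⟨e, he, r2⟩ := sp y hy
  obtain ⟨e', he', r2'⟩ := sp v y1
  have nD := mem_Nm_inf sZ (mem_Nm_Ct (h.TR hs))
  have nD' : s ∈ Nm (zc B ⊓ Ct (cj t R)) := by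
    rw [← cj_D h.tB]
    simpa [mul_assoc] using conj_mem_Nm_cj t (mem_Nm_inf (nZ (h.TB s')) (mem_Nm_Ct (h.TR s')))
  have ad : ∀ x ∈ zc B, ∀ y ∈ zc B, ⁅x * y, s⁆ = ⁅x, s⁆ * ⁅y, s⁆ := fun x hx y hy => by
    rw [show ⁅x * y, s⁆ = x * ⁅y, s⁆ * x⁻¹ * ⁅x, s⁆ by simp only [commutatorElement_def]; group,
      conj_eq_of_Ct hx.2 (comm_mem_of sZ hy).1, (commute_of_Ct (comm_mem_of sZ hy).2 (comm_mem_of sZ hx).1).eq]
  refine ⟨_, mul_mem he.1 r2'.1, mem_bot.1 (h.DD.le ⟨?_, (mem_inf.1 (?_ : _ ∈ zc B ⊓ Ct (cj t R))).2⟩)⟩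
  · rw [← mul_inv_cancel_left e y, ad _ he.1 _ r2.1, ← mul_assoc, mul_mem_cancel_right (comm_mem_of nD r2)] at r
    rw [ad _ he.1 _ r2'.1, ← mul_assoc]
    exact mul_mem r (comm_mem_of nD r2')
  · rw [← mul_inv_cancel_left e' v, (commute_of_Ct r2'.1.2 he'.1.1).eq, ad _ r2'.1 _ he'.1, ← mul_assoc,
      mul_mem_cancel_right (comm_mem_of nD' he')] at r1
    rw [(commute_of_Ct r2'.1.2 he.1.1).eq, ad _ r2'.1 _ he.1, ← mul_assoc]
    exact mul_mem r1 (comm_mem_of nD' he)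

theorem jobL4b : JobL4b.{u} := fun Ω _ _ S F q B R A A' X t h hT => by
  have := Fact.mk Nat.prime_two
  have u := h.bg
  have BS : B ≤ S := h.BT.trans inf_le_left
  by_cases big : 2 < q ∨ t ∉ Ct (zc B)
  · have w : Tw (S ⊓ Nm B) B A A' t := ⟨h.sat.pgl inf_le_left, le_inf BS (le_Nm B), ⟨h.tS, h.tB⟩,
      fun s hs => (u.perm hs.2).imp (fun r => hT.le ⟨hs.1, r.1⟩) fun r => hT.le ⟨mul_mem hs.1 h.tS,
        mem_Nm.2 (by rw [cj_mul, h.sw, r.2])⟩, fun _ => ea_sq u.tri.eA, h.gen, u.tri.inf_eq ▸ u.tri.comm,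
      fun a ha a' ha' e => (u.tri.reg a ha a' ha' (commutatorElement_eq_one_iff_commute.2 e ▸ one_mem _)).imp
        (fun r => u.tri.zA' r) fun r => u.tri.zA r, fun l => u.tri.not_le (u.tri.inf_eq ▸ le_inf le_rfl l),
      h.sw, h.sw', by rwa [u.tri.inf_eq, u.tri.idx]⟩
    have e : S ⊓ Nm B = S := by_contra fun n => (lt_Nm h.sat.pg (lt_of_le_of_ne inf_le_left n)).not_ge fun g hg =>
      ⟨hg.1, w.nmB ((cj_mono g w.BS).trans (cj_eq_of_Nm hg.2).le)⟩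
    have AT := u.tri.AB.trans h.BT
    exact Or.inl ⟨h.sat, e ▸ w, h.bk, fun r hr => (h.md.mor A r (h.RX hr) AT
      ((cj_eq_of_Nm (h.bk.RA hr)).le.trans AT)).mem_Aut (h.bk.RA hr), h.RB, h.nD, h.DD⟩
  obtain ⟨e, tz⟩ := not_or.1 big
  obtain rfl : q = 2 := le_antisymm (not_lt.1 e) u.tri.one_lt
  have d : zc B ⊓ Ct R = ⊥ := by
    rw [eq_bot_iff, ← h.DD]
    exact le_inf le_rfl (((cj_eq_of_Ct (Ct_anti inf_le_left (not_not.1 tz))).symm.trans (cj_D h.tB)).le.trans inf_le_right)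
  have cz : Nat.card (zc B) = 2 := by have := u.tri.idxD; rwa [d, relIndex_bot_left] at this
  have ca : Nat.card A = 4 := by rw [u.tri.card_A, cz]
  obtain ⟨x, hx, x1⟩ := u.tri.exists_not_mem
  have c : S ⊓ Ct (zpowers x) = A := by
    have l : A ≤ S ⊓ Ct (zpowers x) := le_inf (u.tri.AB.trans BS)
      (le_Ct_comm.1 (zpowers_le.2 (H12.ea_le_centralizer u.tri.eA hx)))
    exact (by_contra fun n => (lt_Nm (h.sat.pgl inf_le_left) (lt_of_le_of_ne l n)).not_ge fun g hg =>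
      u.cent hx x1 (hT.le ⟨hg.1.1, hg.2⟩) (commute_of_Ct hg.1.2 (mem_zpowers x)) : A = _).symm
  obtain ⟨r, hr, e⟩ := h.bk.fuse hx
  refine Or.inr ⟨x, h.sat, h.ns, BS (u.tri.AB hx), ea_sq u.tri.eA hx, c ▸ ca, ?_, r, h.md.mor _ r (h.RX hr)
    (zpowers_le.2 (h.BT (u.tri.AB hx))) (by rw [cj_zpowers]; exact zpowers_le.2 (h.BT e.1)), ?_⟩
  · have b : Nat.card B = 8 := by
      have h9 := card_mul_index ((B ⊓ Ct A).subgroupOf B)
      rw [Nat.card_congr (subgroupOfEquivOfLe inf_le_left).toEquiv, inf_subgroupOf_left] at h9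
      rw [← h9, u.cenA, ca]
      exact congrArg (4 * ·) u.tri.relIndex_B
    have l := card_lt_of_lt (lt_of_le_of_ne BS fun e => u.tri.ne
      ((cj_eq_of_Nm (hT.ge (e ▸ h.tS)).2).symm.trans h.sw))
    obtain ⟨k, hk⟩ := card_dvd_of_le BS
    rw [b] at l hk
    omega
  · have l : S ⊓ Ct S ≤ zc B := fun z hz =>
      ⟨u.tri.AB (c.le ⟨hz.1, Ct_anti (zpowers_le.2 (BS (u.tri.AB hx))) hz.2⟩), Ct_anti BS hz.2⟩
    have n : S ⊓ Ct S ≠ ⊥ := H98.inf_centralizer_ne_bot h.sat.pg h.sat.pg (le_Nm S) fun e => x1 (by simp [mem_bot.1 (e.le (BS (u.tri.AB hx)))])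
    exact ((eq_of_le_of_card_ge l (cz ▸ (one_lt_card_iff_ne_bot _).2 n)).ge e).2

end H87.HM
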