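/- Tower NSFT: the rows S2965, S2966, S2967 from the K-facts. -/
import Cfsg.Agent.H87.NRow1
import Cfsg.Agent.H4.SolRad
import Cfsg.Agent.H42.OddOrder

set_option autoImplicit false

open Cfsg hiding pRank
open Subgroup H46 H24.NS H14
open H98 (SubN)

namespace H87.NS

universe u

section Rad

variable {X : Type u} [Group X] [Finite X]

/-- the solvable radical of a subgroup -/
abbrev radOf (G : Subgroup X) : Subgroup X := (solvableRadical G).map G.subtype

omit [Finite X] in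
theorem radOf_normalIn (G : Subgroup X) : radOf G ⊴ G := normalIn_map_subtype (H4.solRad_normal G)

theorem sol_radOf (G : Subgroup X) : Group.IsSolvable (radOf G) :=
  have := H4.solRad_isSolvable G
  Group.isSolvable_of_surjective (f := G.subtype.subgroupMap _) (G.subtype.subgroupMap_surjective _)

omit [Finite X] in
theorem le_radOf {N G : Subgroup X} (hN : N ⊴ G) (hs : Group.IsSolvable N) : N ≤ radOf G := by
  have := hN.normal_subgroupOf
  have := Group.isSolvable_of_surjective (f := (subgroupOfEquivOfLe hN.le).symm.toMonoidHom)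
    (subgroupOfEquivOfLe hN.le).symm.surjective
  exact (subgroupOf_le_iff_le_map hN.le).1 (H4.le_solRad _)

omit [Finite X] in
theorem nrm_radOf {A G : Subgroup X} (h : A ≤ Nrm G) : A ≤ Nrm (radOf G) :=
  h.trans (charIn_map_subtype _ (hC := H4.solRad_characteristic G)).nrm_le

theorem fit_quo_radOf (G : Subgroup X) : fitOf (G ⧸ₙ radOf G) = ⊥ := by
  have h1 : qpre (radOf G) (fitOf (G ⧸ₙ radOf G)) ⊴ G :=
    qpre_normalIn (radOf_normalIn G) ⟨fitOf_le_self _, self_le_normalizer_fitOf _⟩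
  have h2 := le_radOf h1 (sol_of_quo (qpre_le_nrm _) (sol_radOf G)
    (by rw [qpre_quo_self]; exact isSolvable_fitOf _))
  rw [← qpre_quo_self (fitOf (G ⧸ₙ radOf G))]
  exact quo_eq_bot_of_le h2

theorem exists_factor {G : Subgroup X} (h : ¬ Group.IsSolvable G) :
    ∃ (K : Subgroup X) (Q : Type u) (_ : Group Q) (f : K →* Q), SubN K G ∧ Function.Surjective f ∧
      IsSimpleGroup Q ∧ ¬ IsMulCommutative Q := by
  have hF := fit_quo_radOf G
  have hR := radOf_normalIn G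
  obtain ⟨L, hL⟩ : ∃ L, CP L (G ⧸ₙ radOf G) := by
    by_contra hc
    push Not at hc
    have h1 := inf_centralizer_fstarOf_le (G ⧸ₙ radOf G)
    rw [fstarOf_eq, hF, eq_bot_iff.2 (layerOf_le fun K hK => (hc K hK).elim), sup_bot_eq] at h1
    exact h (sol_of_le (sol_radOf G) ((quo_eq_bot_iff hR.nrm).1
      (eq_bot_iff.2 ((le_inf le_rfl (le_top.trans cent_bot.ge)).trans h1))))
  refine ⟨qpre (radOf G) L, (qpre (radOf G) L ⧸ₙ radOf G : Subgroup _), _,
    mres (qmap _) (qpre_le_nrm L), ?_, mres_surjective _ _, ?_, ?_⟩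
  · have h1 : SubN (qpre (radOf G) L) (qpre (radOf G) (G ⧸ₙ radOf G)) :=
      (hL.subN.comap (qmap (radOf G))).map (Nrm (radOf G)).subtype
    rwa [qpre_quo_of_normalIn hR] at h1
  · rw [qpre_quo_self]
    exact cp_simple hL hF
  · rw [qpre_quo_self]
    exact quasi_not_comm hL.quasi

end Rad

theorem not_dvd_of_ne_bot {X : Type*} [Group X] [Finite X] {A G : Subgroup X} {r : ℕ} (hr : r.Prime)
    (hA : ∀ a ∈ A, a ^ r = 1) (h1 : A ≠ ⊥) (hc : (Nat.card A).Coprime (Nat.card G)) :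
    ¬ r ∣ Nat.card G := by
  obtain ⟨a, ha, h2⟩ := (bot_or_exists_ne_one A).resolve_left h1
  have := Fact.mk hr
  have h3 : r ∣ Nat.card A := orderOf_eq_prime (hA a ha) h2 ▸ A.orderOf_dvd_natCard ha
  exact (Nat.Prime.coprime_iff_not_dvd hr).1 (hc.coprime_dvd_left h3)

/-- the fixed points of a coprime automorphism have trivial centre and even order -/
theorem fix_facts {Q : Type*} [Group Q] [Finite Q] [IsSimpleGroup Q] (hQ : ¬ IsMulCommutative Q)
    {r : ℕ} (hr : r.Prime) (h : KF r Q) {φ : MulAut Q} (hφ : φ ^ r = 1) :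
    Even (Nat.card (Fix φ)) ∧ ∀ ψ : MulAut Q, (∀ c ∈ Fix φ, ψ c = c) → ψ ^ r = 1 := by
  have := Fact.mk hr
  by_cases h1 : φ = 1
  · subst h1
    have h2 : Fix (1 : MulAut Q) = ⊤ := eq_top_iff.2 fun _ _ => rfl
    refine ⟨?_, fun ψ hψ => ?_⟩
    · rw [h2, card_top, ← Nat.not_odd_iff_even]
      exact fun h3 => hQ ⟨⟨IsSimpleGroup.comm_iff_isSolvable.2 (H42.odd_order h3)⟩⟩
    · rw [show ψ = 1 from MulEquiv.ext fun c => hψ c rfl, one_pow]
  · exact ⟨h.even φ (orderOf_eq_prime hφ h1), fun ψ => h.cent φ ψ (orderOf_eq_prime hφ h1)⟩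

theorem mem_of_pow_mem {X : Type*} [Group X] [Finite X] {G H : Subgroup X} {r : ℕ} (hr : r.Prime)
    (hd : ¬ r ∣ Nat.card G) {z : X} (hz : z ∈ G) (h : z ^ r ∈ H) : z ∈ H := by
  have h1 : r.Coprime (orderOf z) :=
    ((Nat.Prime.coprime_iff_not_dvd hr).2 hd).coprime_dvd_right (G.orderOf_dvd_natCard hz)
  obtain ⟨k, hk⟩ := exists_pow_eq_self_of_coprime h1
  exact hk ▸ H.pow_mem h k

theorem not_nil_fix {Q : Type*} [Group Q] [Finite Q] [IsSimpleGroup Q] (hQ : ¬ IsMulCommutative Q)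
    {r : ℕ} (hr : r.Prime) (hd : ¬ r ∣ Nat.card Q) (h : KF r Q) {φ : MulAut Q} (hφ : φ ^ r = 1) :
    ¬ Group.IsNilpotent (Fix φ) := by
  intro hn
  obtain ⟨h1, h2⟩ := fix_facts hQ hr h hφ
  have : Nontrivial (Fix φ) := Finite.one_lt_card_iff_nontrivial.1 (by
    have := Nat.card_pos (α := Fix φ)
    obtain ⟨k, hk⟩ := h1
    omega)
  obtain ⟨z, hz, hz1⟩ := (bot_or_exists_ne_one _).resolve_left
    (Group.IsNilpotent.center_ne_bot (Fix φ))
  have h3 := h2 (MulAut.conj (z : Q)) fun c hc => by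
    rw [MulAut.conj_apply, mul_inv_eq_iff_eq_mul]
    exact (congrArg Subtype.val (mem_center_iff.1 hz ⟨c, hc⟩)).symm
  have h4 : center Q = ⊥ := (IsSimpleGroup.eq_bot_or_eq_top_of_normal _ inferInstance).resolve_right
    fun e => hQ ⟨⟨fun a b => mem_center_iff.1 (e ▸ mem_top b) a⟩⟩
  refine hz1 (Subtype.ext (mem_bot.1 (h4 ▸ mem_of_pow_mem (G := ⊤) hr (card_top (G := Q) ▸ hd)
    (mem_top _) (mem_center_iff.2 fun g => ?_))))
  have h5 := DFunLike.congr_fun h3 g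
  rw [← map_pow, MulAut.conj_apply, MulAut.one_apply, mul_inv_eq_iff_eq_mul] at h5
  exact h5.symm

theorem s2965_of (hKF : AllKF.{u}) {X : Type u} [Group X] [Finite X] {r : ℕ} [hr : Fact r.Prime]
    (A G : Subgroup X) (hA : IsElementaryAbelian r A) (hAG : A ≤ normalizer (G : Set X))
    (hcop : (Nat.card ↥A).Coprime (Nat.card ↥G)) (hK : IsKGroup ↥G)
    (hC : Group.IsNilpotent ↥(G ⊓ centralizer (A : Set X)) ∨
      Odd (Nat.card ↥(G ⊓ centralizer (A : Set X)))) : Group.IsSolvable ↥G := by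
  by_cases h1 : A = ⊥
  · subst h1
    rw [show centralizer ((⊥ : Subgroup X) : Set X) = ⊤ from cent_bot, inf_top_eq] at hC
    rcases hC with h | h
    · infer_instance
    · exact H42.odd_order h
  have hd := not_dvd_of_ne_bot hr.1 hA.2 h1 hcop
  by_contra hs
  obtain ⟨K, Q, _, f, hKG, hf, hQ, hQc⟩ := exists_factor hs
  have := Finite.of_surjective f hf
  have hdQ : ¬ r ∣ Nat.card Q := fun h =>
    hd ((h.trans (card_dvd_of_surjective f hf)).trans (card_dvd_of_le hKG.le))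
  have hkf := hKF Q hQc ((H15.KF.ck_of_kgroup_of_le hK le_rfl).known hKG f hf hQ hQc) r hr.1 hdQ
  rcases hC with h | h
  · obtain ⟨φ, hφ, h2⟩ := sec (P := fun Y _ => Group.IsNilpotent Y)
      (fun _ _ _ _ g hg _ => Group.nilpotent_of_mulEquiv (MonoidHom.ofInjective hg).symm)
      (fun _ _ _ _ g hg _ => Group.nilpotent_of_surjective g hg) hr.1 hQc hkf.cyc _ X A G K f rfl
      hA.2 hAG hd h hKG hf
    exact not_nil_fix hQc hr.1 hdQ hkf hφ h2
  · obtain ⟨φ, hφ, h2⟩ := sec (P := fun Y _ => Odd (Nat.card Y))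
      (fun _ _ _ _ g hg h => h.of_dvd_nat (card_dvd_of_injective g hg))
      (fun _ _ _ _ g hg h => h.of_dvd_nat (card_dvd_of_surjective g hg)) hr.1 hQc hkf.cyc _ X A G K f
      rfl hA.2 hAG hd h hKG hf
    exact Nat.not_odd_iff_even.2 (fix_facts hQc hr.1 hkf hφ).1 h2

theorem s2966_of (hKF : AllKF.{u}) (hKS : AllKS.{u}) {X : Type u} [Group X] [Finite X] {r : ℕ}
    [hr : Fact r.Prime] (A G : Subgroup X) (hA : IsElementaryAbelian r A)
    (hAG : A ≤ normalizer (G : Set X)) (hcop : (Nat.card ↥A).Coprime (Nat.card ↥G))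
    (hK : IsKGroup ↥G) (hC : Group.IsSolvable ↥(G ⊓ centralizer (A : Set X))) :
    IsCompositionKGroupWith (IsRankOneOverDegreeRField r) ↥G := by
  intro H hH N _ hQ hQc
  have hns : ¬ Group.IsSolvable (H ⧸ N) := fun h => hQc ⟨⟨IsSimpleGroup.comm_iff_isSolvable.2 h⟩⟩
  by_cases h1 : A = ⊥
  · subst h1
    rw [show centralizer ((⊥ : Subgroup X) : Set X) = ⊤ from cent_bot, inf_top_eq] at hC
    exact (hns inferInstance).elim
  have hd := not_dvd_of_ne_bot hr.1 hA.2 h1 hcop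
  have hdQ : ¬ r ∣ Nat.card (H ⧸ N) := fun h =>
    hd ((h.trans (card_quotient_dvd_card N)).trans (card_subgroup_dvd_card H))
  let e := (H.equivMapOfInjective _ G.subtype_injective).symm
  obtain ⟨φ, hφ, h2⟩ := sec (P := fun Y _ => Group.IsSolvable Y)
    (fun _ _ _ _ g hg _ => Group.isSolvable_of_isSolvable_injective hg)
    (fun _ _ _ _ g hg _ => Group.isSolvable_of_surjective hg) hr.1 hQc
    (hKF _ hQc (hK H N hQ hQc) r hr.1 hdQ).cyc _ X A G (H.map G.subtype)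
    ((QuotientGroup.mk' N).comp e.toMonoidHom) rfl hA.2 hAG hd hC (H98.subN_map_subtype hH)
    ((QuotientGroup.mk'_surjective N).comp e.surjective)
  refine hKS _ hQc (hK H N hQ hQc) r hr.1 hdQ φ (orderOf_eq_prime hφ ?_) h2
  rintro rfl
  exact hns (Group.isSolvable_of_surjective (f := (Fix (1 : MulAut (H ⧸ N))).subtype)
    fun y => ⟨⟨y, rfl⟩, rfl⟩)

theorem mem_cent_cp {X : Type u} [Group X] [Finite X] {r : ℕ} (hr : r.Prime) {A G L : Subgroup X}
    (hA : ∀ a ∈ A, a ^ r = 1) (hAG : A ≤ Nrm G) (hd : ¬ r ∣ Nat.card G) (hF : fitOf G = ⊥)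
    (hL : CP L G) (hkf : KF r L) {z : X} (hz : z ∈ G ⊓ Cent A) (hz' : z ∈ Cent (G ⊓ Cent A)) :
    z ∈ Cent L := by
  have := cp_simple hL hF
  have hZ := cp_inf_cent hL hF
  obtain ⟨φ, hφ, hfix⟩ := exists_phi (MulEquiv.refl L) hkf.cyc hA
  obtain ⟨d, hd1, hd2⟩ := exists_norm A L (sep_of_cp hAG hL)
  obtain ⟨h1, h2⟩ := fix_facts (quasi_not_comm hL.quasi) hr hkf hφ
  have hdz : ∀ l, z * d l = d l * z := fun l => by
    have h3 := G.mul_mem (hL.le l.2.1)
      (hd2 l G fun a ha _ => (hL.cj_of_mem_normalizer (hAG ha)).le)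
    rw [mul_inv_cancel_left] at h3
    exact (mem_cent.1 hz' _ ⟨h3, hd1 l⟩).symm
  have hdc : ∀ l : ↥(L ⊓ Cent (A ⊓ Nrm L)), (l : X)⁻¹ * d l ∈ Cent L := fun l =>
    hd2 l (Cent L) fun a ha h => commutator_eq_bot_iff'.1 (sep_of_cp hAG hL a ha h)
  obtain ⟨a, ha, e⟩ : ∃ a ∈ A, cj a L = cj z L := by
    by_contra hc
    push Not at hc
    have h3 : ∀ a ∈ A, cj a L ≤ Cent (cj z L) := fun a ha => commutator_eq_bot_iff.1
      (((hL.cj_of_mem_normalizer (hAG ha)).eq_or_commute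
        (hL.cj_of_mem_normalizer (le_normalizer hz.1))).resolve_left (hc a ha))
    have : Nontrivial (Fix φ) := Finite.one_lt_card_iff_nontrivial.1 (by
      have := Nat.card_pos (α := Fix φ)
      obtain ⟨k, hk⟩ := h1
      omega)
    obtain ⟨x, hx⟩ := exists_ne (1 : Fix φ)
    let l : ↥(L ⊓ Cent (A ⊓ Nrm L)) := ⟨x.1, x.1.2, (hfix x.1).2 x.2⟩
    have h4 : d l ∈ Cent (cj z L) := by
      have h5 := (Cent (cj z L)).mul_mem (h3 1 A.one_mem (by rw [cj_one]; exact l.2.1))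
        (hd2 l _ fun a ha _ => h3 a ha)
      rwa [mul_inv_cancel_left] at h5
    have h5 : z * ((l : X)⁻¹ * d l) * z⁻¹ ∈ Cent (cj z L) := cj_cent z L ▸ conj_mem_cj.2 (hdc l)
    have h6 := (Cent (cj z L)).mul_mem h4 (inv_mem h5)
    have h7 : d l * (z * ((l : X)⁻¹ * d l) * z⁻¹)⁻¹ = z * l * z⁻¹ := by
      calc _ = d l * z * (d l)⁻¹ * l * z⁻¹ := by group
        _ = _ := by rw [← hdz]; group
    rw [h7, ← cj_cent, conj_mem_cj] at h6
    exact hx (Subtype.ext (Subtype.ext (mem_bot.1 (hZ ▸ mem_inf.2 ⟨l.2.1, h6⟩))))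
  have hw : a⁻¹ * z ∈ Nrm L := mem_nrm_iff_cj.2 (by rw [cj_mul, ← e, cj_inv_cj])
  have haz : a * z = z * a := mem_cent.1 hz.2 a ha
  have h3 := h2 (act (MulEquiv.refl L) ⟨_, hw⟩) fun x hx => by
    refine (act_eq_iff (MulEquiv.refl L) ⟨_, hw⟩ x).2 ?_
    let l : ↥(L ⊓ Cent (A ⊓ Nrm L)) := ⟨x.1, x.2, (hfix x).2 hx⟩
    have h4 : a⁻¹ * z * d l = d l * (a⁻¹ * z) := by
      rw [mul_assoc, hdz, ← mul_assoc, mem_cent.1 (hd1 l) _ (A.inv_mem ha), mul_assoc]
    have h5 := (Cent L).mul_mem (hdc l)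
      (inv_mem (conj_mem_of_mem_nrm (nrm_le_nrm_cent L hw) (hdc l)))
    have h6 : (l : X)⁻¹ * d l * (a⁻¹ * z * ((l : X)⁻¹ * d l) * (a⁻¹ * z)⁻¹)⁻¹ =
        (l : X)⁻¹ * (a⁻¹ * z * l * (a⁻¹ * z)⁻¹) := by
      calc _ = (l : X)⁻¹ * (d l * (a⁻¹ * z)) * (d l)⁻¹ * l * (a⁻¹ * z)⁻¹ := by group
        _ = _ := by rw [← h4]; group
    rw [h6] at h5
    have h7 := mem_bot.1 (hZ ▸ mem_inf.2 ⟨L.mul_mem (L.inv_mem l.2.1)
      (conj_mem_of_mem_nrm hw l.2.1), h5⟩)
    exact mul_inv_eq_iff_eq_mul.1 (inv_mul_eq_one.1 h7).symm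
  refine mem_of_pow_mem hr hd hz.1 (mem_cent.2 fun x hx => ?_)
  rw [← map_pow] at h3
  have h4 := (act_eq_iff (MulEquiv.refl L) _ ⟨x, hx⟩).1 (DFunLike.congr_fun h3 _)
  have h5 : (a⁻¹ * z) ^ r = z ^ r := by
    rw [(Commute.inv_left haz).mul_pow, inv_pow, hA a ha, inv_one, one_mul]
  rw [← h5]
  exact h4.symm

theorem s2967_of (hKF : AllKF.{u}) {X : Type u} [Group X] [Finite X] {r : ℕ} [hr : Fact r.Prime]
    (A G : Subgroup X) (hA : IsElementaryAbelian r A) (hAG : A ≤ normalizer (G : Set X))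
    (hcop : (Nat.card ↥A).Coprime (Nat.card ↥G)) (hK : IsKGroup ↥G) :
    Group.IsSolvable ↥(normalClosure (((G ⊓ centralizer (A : Set X)) ⊓
      centralizer ((G ⊓ centralizer (A : Set X) : Subgroup X) : Set X)).subgroupOf G : Set ↥G)) := by
  have hR := radOf_normalIn G
  rw [H4.isSolvable_normalClosure_iff]
  suffices h : Zc (G ⊓ Cent A) ≤ radOf G from
    (subgroupOf_le_iff_le_map (inf_le_left.trans inf_le_left)).2 h
  by_cases h1 : A = ⊥
  · subst h1
    rw [cent_bot, inf_top_eq]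
    exact le_radOf (normalIn_zc G) (sol_of_comm (comm_zc G))
  have hd := not_dvd_of_ne_bot hr.1 hA.2 h1 hcop
  have hF := fit_quo_radOf G
  have hd' : ¬ r ∣ Nat.card (G ⧸ₙ radOf G) := fun h => hd (h.trans (card_quo_dvd G _))
  have hck : H15.KF.CK (G ⧸ₙ radOf G) :=
    ((H15.KF.ck_of_kgroup_of_le hK le_rfl).subgroupOf hR.nrm).map _
  have e := coprime_quotient_cent hR.le (nrm_radOf hAG) (coprime_of_le hcop le_rfl hR.le)
    (.inr (sol_radOf G))
  rw [← quo_eq_bot_iff ((inf_le_left.trans inf_le_left).trans hR.nrm), eq_bot_iff, ← hF]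
  have h2 : Zc (G ⊓ Cent A) ⧸ₙ radOf G ≤ G ⧸ₙ radOf G ⊓ Cent (A ⧸ₙ radOf G) :=
    e ▸ quo_mono _ inf_le_left
  refine le_fitOf_of_commutator (h2.trans inf_le_left) (commutator_eq_bot_iff'.2
    (layerOf_le fun L hL => le_cent_symm fun z hz => ?_)) (by rw [hF, commutator_bot_right])
  have := cp_simple hL hF
  have hc := quasi_not_comm hL.quasi
  refine mem_cent_cp hr.1 (pow_quo hA.2 _) (quo_nrm _ hAG) hd' hF hL
    (hKF L hc (hck.known hL.subN (MonoidHom.id L) Function.surjective_id this hc) r hr.1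
      fun h => hd' (h.trans (card_dvd_of_le hL.le))) (h2 hz) ?_
  rw [← e]
  exact quo_cent _ inf_le_right hz

end H87.NS
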