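/- S3275, chapter C+KM, slot R: a subgroup of the largest order normalises the components. -/
import Cfsg.Agent.H57.DPCSpec
import Cfsg.Agent.H46.Prod
import Cfsg.Agent.H14.Comp

set_option autoImplicit false

namespace H87.DpcR
open Subgroup Cfsg H98 H48.DP H57.DPC
open scoped commutatorElement

universe u

variable {G : Type u} [Group G]

theorem step [Finite G] {K X P : Subgroup G} (hK : K ⊓ Ce K = ⊥) (hX : IsElementaryAbelian 3 X)
    (hP : IsElementaryAbelian 3 P) (hXK : X ≤ Ce K) (hPK : P ≤ K) :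
    IsElementaryAbelian 3 (X ⊔ P) ∧ Nat.card ↥(X ⊔ P) = Nat.card X * Nat.card P := by
  have h1 : P ≤ Ce X := hPK.trans (le_centralizer_iff.1 hXK)
  refine ⟨H46.elem_sup hX hP h1, H46.card_sup_of_disjoint (le_normalizer_of_le_centralizer h1) ?_⟩
  rw [eq_bot_iff, ← hK]
  exact le_inf (inf_le_right.trans hPK) (inf_le_left.trans hXK)

theorem key [Finite G] {ι : Type*} [DecidableEq ι] (K P : ι → Subgroup G) {q : ℕ} {Y : Subgroup G}
    (hK : ∀ i, K i ⊓ Ce (K i) = ⊥) (hc : ∀ i j, i ≠ j → K i ≤ Ce (K j))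
    (hP : ∀ i, IsElementaryAbelian 3 (P i)) (hPK : ∀ i, P i ≤ K i) (hq : ∀ i, Nat.card (P i) = q)
    (hY : IsElementaryAbelian 3 Y) (hYK : ∀ i, Y ≤ Ce (K i)) (s : Finset ι) :
    ∃ X : Subgroup G, IsElementaryAbelian 3 X ∧ (∀ i, i ∉ s → X ≤ Ce (K i)) ∧
      Nat.card X = Nat.card Y * q ^ s.card := by
  induction s using Finset.induction_on with
  | empty => exact ⟨Y, hY, fun i _ => hYK i, by simp⟩
  | insert j s hj ih =>
    obtain ⟨X, h1, h2, h3⟩ := ih
    obtain ⟨h4, h5⟩ := step (hK j) h1 (hP j) (h2 j hj) (hPK j)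
    refine ⟨_, h4, fun i hi => ?_, ?_⟩
    · rw [Finset.mem_insert, not_or] at hi
      exact sup_le (h2 i hi.2) ((hPK j).trans (hc j i (Ne.symm hi.1)))
    · rw [h5, h3, hq, Finset.card_insert_of_notMem hj, pow_succ, mul_assoc]

theorem elem_cj {P : Subgroup G} (h : IsElementaryAbelian 3 P) (g : G) :
    IsElementaryAbelian 3 (cj g P) := by
  refine ⟨⟨⟨fun a b => Subtype.ext ?_⟩⟩, fun a ha => ?_⟩
  · have h1 := congrArg Subtype.val (h.1.1.1 ⟨_, mem_cj.1 a.2⟩ ⟨_, mem_cj.1 b.2⟩)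
    simp only [coe_mul] at h1 ⊢
    calc (a : G) * b = g * (g⁻¹ * a * g * (g⁻¹ * b * g)) * g⁻¹ := by group
      _ = b * a := by rw [h1]; group
  · have h1 := h.2 _ (mem_cj.1 ha)
    calc a ^ 3 = g * (g⁻¹ * a * g) ^ 3 * g⁻¹ := by
          rw [← conj_pow]; group
      _ = 1 := by rw [h1]; group

theorem comp_cj {H J : Subgroup G} (h : IsComponentOf J H) {g : G} (hg : g ∈ H) :
    IsComponentOf (cj g J) H := by
  refine ⟨cj_le_of_le_of_mem h.1 hg, ?_⟩
  have h1 := H14.comp_map_conj h.2 (⟨g, hg⟩ : H)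
  have h2 : (J.subgroupOf H).map (MulAut.conj (⟨g, hg⟩ : H)).toMonoidHom = (cj g J).subgroupOf H := by
    ext a
    exact (mem_cj (g := (⟨g, hg⟩ : H)) (x := a) (H := J.subgroupOf H)).trans
      (mem_cj (g := g) (x := (a : G)) (H := J)).symm
  rwa [h2] at h1

theorem comp_comm {H J K : Subgroup G} (hJ : IsComponentOf J H) (hK : IsComponentOf K H)
    (h : J ≠ K) : J ≤ Ce K := by
  have h1 : J.subgroupOf H ≠ K.subgroupOf H := fun e => h (by
    rw [← map_subgroupOf_eq_of_le hJ.1, e, map_subgroupOf_eq_of_le hK.1])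
  have h2 := commutator_eq_bot_iff_le_centralizer.1 (H14.comp_commute_of_ne hJ.2 hK.2 h1)
  intro a ha b hb
  exact congrArg Subtype.val (h2 (x := ⟨a, hJ.1 ha⟩) ha ⟨b, hK.1 hb⟩ hb)

theorem arith {r q : ℕ} (hr : 2 ≤ r) (hq : 3 ≤ q) : r * q < q ^ (r - 1) * 3 := by
  obtain ⟨k, rfl⟩ : ∃ k, r = k + 2 := ⟨r - 2, by omega⟩
  have h1 : ∀ k : ℕ, k + 2 < 3 ^ k * 3 := fun k => by
    induction k with
    | zero => simp
    | succ k ih => rw [pow_succ]; omega
  have h2 : 3 ^ k ≤ q ^ k := Nat.pow_le_pow_left hq k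
  have h3 := h1 k
  rw [show k + 2 - 1 = k + 1 by omega, pow_succ]
  calc (k + 2) * q < (3 ^ k * 3) * q := Nat.mul_lt_mul_of_pos_right h3 (by omega)
    _ ≤ (q ^ k * 3) * q := by gcongr
    _ = q ^ k * q * 3 := by ring

theorem jobR : JobR.{u} := by
  intro hpr G _ _ N B H J hM hB hN hBH hJ
  classical
  have : Fact (Nat.Prime 3) := ⟨Nat.prime_three⟩
  by_contra hn
  obtain ⟨V, hVJ, y, hyJ, hV2, hV1, hy3, hyV⟩ := hJ.sm.loc
  obtain ⟨hcard, -, hel, -, -⟩ := (hpr G J hJ.sm.cen hJ.inn).2 (B ⊓ No J) inf_le_right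
  have hB1 : IsElementaryAbelian 3 (B ⊓ No J) := H15.elem_of_le hB inf_le_left
  have hY : IsElementaryAbelian 3 (B ⊓ No J ⊓ Ce J) := H15.elem_of_le hB1 inf_le_left
  have hy : IsElementaryAbelian 3 (zpowers y) := H87.KM.elem_zpowers (hy3 ▸ pow_orderOf_eq_one y)
  have hyc : Nat.card (zpowers y) = 3 := by rw [Nat.card_zpowers, hy3]
  obtain ⟨P, hP, hPJ, hq, hq'⟩ : ∃ P : Subgroup G, IsElementaryAbelian 3 P ∧ P ≤ J ∧
      3 ≤ Nat.card P ∧ Nat.card (pr J (B ⊓ No J)) ≤ Nat.card P := by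
    by_cases h : pr J (B ⊓ No J) = ⊥
    · exact ⟨zpowers y, hy, zpowers_le.2 hyJ, hyc.ge, by rw [h, hyc]; simp⟩
    · refine ⟨_, hel 3 hB1, inf_le_left, ?_, le_rfl⟩
      obtain ⟨n, hn⟩ := (H87.KM.pgrp Nat.prime_three (hel 3 hB1)).exists_card_eq
      rcases n with _ | n
      · exact absurd (card_eq_one.1 hn) h
      · rw [hn, pow_succ]
        have := Nat.one_le_pow n 3 (by omega)
        omega
  let D : Subgroup B := (No J).subgroupOf B
  let f : B ⧸ D → G := fun c => (c.out : B)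
  have hfB : ∀ c, f c ∈ B := fun c => (c.out : B).2
  have : Fintype (B ⧸ D) := Fintype.ofFinite _
  have hinj : ∀ c d : B ⧸ D, cj (f c) J = cj (f d) J → c = d := by
    intro c d h
    have h1 : (f c)⁻¹ * f d ∈ No J := by
      rw [← cj_eq_self_iff, ← cj_cj, ← h, cj_inv_cj]
    rw [← c.out_eq', ← d.out_eq', QuotientGroup.eq]
    exact h1
  have hcomp : ∀ c, IsComponentOf (cj (f c) J) H := fun c => comp_cj hJ.comp (hBH (hfB c))
  have hcen : ∀ c, cj (f c) J ⊓ Ce (cj (f c) J) = ⊥ := fun c => by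
    rw [Ce, ← cj_centralizer, ← cj_inf, hJ.sm.cen, cj_bot]
  have hYc : ∀ c, B ⊓ No J ⊓ Ce J ≤ Ce (cj (f c) J) := fun c => by
    intro a ha
    change a ∈ centralizer (cj (f c) J : Set G)
    rw [← cj_centralizer, mem_cj]
    have h1 := congrArg Subtype.val (hB.1.1.1 ⟨a, ha.1.1⟩ ⟨f c, hfB c⟩)
    simp only [coe_mul] at h1
    rw [mul_assoc, h1, inv_mul_cancel_left]
    exact ha.2
  let c0 : B ⧸ D := ((1 : B) : B ⧸ D)
  obtain ⟨X, hX, hXc, hXq⟩ := key (fun c => cj (f c) J) (fun c => cj (f c) P) (q := Nat.card P)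
    hcen (fun i j hij => comp_comm (hcomp i) (hcomp j) fun e => hij (hinj i j e))
    (fun c => elem_cj hP _) (fun c => cj_mono _ hPJ) (fun c => card_cj _ _) hY hYc
    (Finset.univ.erase c0)
  have hX0 : X ≤ Ce (cj (f c0) J) := hXc c0 (by simp)
  obtain ⟨h1, h2⟩ := step (hcen c0) hX (elem_cj hy (f c0)) hX0 (cj_mono _ (zpowers_le.2 hyJ))
  have h3 := hM _ (cj (f c0) V) h1 (isPGroup_cj _ hV2) (fun e => hV1 (cj_eq_bot_iff.1 e))
    (sup_le (le_normalizer_of_le_centralizer (hX0.trans (centralizer_anti (cj_mono _ hVJ))))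
      (by
        change cj (f c0) (zpowers y) ≤ normalizer (cj (f c0) V : Set G)
        rw [← cj_normalizer]
        exact cj_mono _ (zpowers_le.2 hyV)))
  rw [h2, hXq, card_cj, hyc, Finset.card_erase_of_mem (Finset.mem_univ _), Finset.card_univ,
    ← Nat.card_eq_fintype_card] at h3
  have hr : Nat.card (B ⧸ D) = D.index := rfl
  have hD : Nat.card D = Nat.card ↥(B ⊓ No J) := by
    rw [show D = (B ⊓ No J).subgroupOf B from (inf_subgroupOf_left (No J) B).symm]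
    exact Nat.card_congr (subgroupOfEquivOfLe (inf_le_left : B ⊓ No J ≤ B)).toEquiv
  have h4 : D.index * Nat.card D = Nat.card B := index_mul_card D
  have h5 : 2 ≤ D.index := by
    have h6 : D.index ≠ 1 := fun e => hn (subgroupOf_eq_top.1 (index_eq_one.1 e))
    have h7 : D.index ≠ 0 := index_ne_zero_of_finite
    omega
  have h8 := arith h5 hq
  have h9 : 0 < Nat.card ↥(B ⊓ No J ⊓ Ce J) := Nat.card_pos
  rw [hr] at h3
  have h10 : Nat.card B ≤ Nat.card ↥(B ⊓ No J ⊓ Ce J) * (D.index * Nat.card P) := by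
    rw [← h4, hD, hcard]
    calc D.index * (Nat.card ↥(B ⊓ No J ⊓ Ce J) * Nat.card (pr J (B ⊓ No J)))
        ≤ D.index * (Nat.card ↥(B ⊓ No J ⊓ Ce J) * Nat.card P) := by gcongr
      _ = _ := by ring
  have h11 := Nat.mul_lt_mul_of_pos_left h8 h9
  rw [mul_assoc] at h3
  omega

end H87.DpcR
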