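import Cfsg.Agent.H29.Cover2
import Cfsg.Agent.H36.PrinLoc
import Cfsg.Agent.H18.PSolv
import Cfsg.Agent.H29.GalChar
import Cfsg.Agent.H87.BrDefs
import Cfsg.Agent.H87.SelfCent

/-! Pairs of elements of order `p` generating a `p`-solvable group, and a count in the principal
block. -/

set_option autoImplicit false
set_option linter.unusedSectionVars false

namespace H87

open Cfsg H28 H35 H41
open scoped ComplexConjugate

variable {G : Type*} [Group G] [Finite G] {p : ℕ} [hp : Fact p.Prime]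

/-- The `p`-subgroups of `G` are abelian. -/
def AbP (p : ℕ) (G : Type*) [Group G] : Prop :=
  ∀ Q : Subgroup G, IsPGroup p Q → ∀ a ∈ Q, ∀ b ∈ Q, a * b = b * a

theorem AbP.subgroup (h : AbP p G) (H : Subgroup G) : AbP p H := fun Q hQ a ha b hb =>
  Subtype.ext (h _ (hQ.map H.subtype) _ ⟨a, ha, rfl⟩ _ ⟨b, hb, rfl⟩)

theorem abP_of_sylow (P : Sylow p G) (h : ∀ a ∈ (P : Subgroup G), ∀ b ∈ (P : Subgroup G),
    a * b = b * a) : AbP p G := fun Q hQ a ha b hb => by
  obtain ⟨S, hS⟩ := hQ.exists_le_sylow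
  obtain ⟨g, rfl⟩ := MulAction.exists_smul_eq G P S
  obtain ⟨c, hc, rfl⟩ := hS ha
  obtain ⟨d, hd, rfl⟩ := hS hb
  exact (Commute.map (h c hc d hd) (MulAut.conj g)).eq

theorem commute_mod_core (hs : IsPSolvable p G) (hA : AbP p G) {x y : G} (hx : x ^ p = 1)
    (hy : y ^ p = 1) : Commute (x : G ⧸ pPrimeCore p G) y := by
  have key : ∀ z : G, z ^ p = 1 → (z : G ⧸ pPrimeCore p G) ∈
      Subgroup.centralizer (pCore p (G ⧸ pPrimeCore p G) : Set (G ⧸ pPrimeCore p G)) := by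
    intro z hz a ha
    obtain ⟨S, hS⟩ := (isPGroup_zpowers_of_pow (p := p) (k := 1) (by rwa [pow_one])).exists_le_sylow
    obtain ⟨s, hs, rfl⟩ := (H18.isPGroup_pCore p).le_sylow_of_normal
      (S.mapSurjective (QuotientGroup.mk'_surjective (pPrimeCore p G))) ha
    exact congrArg (QuotientGroup.mk' _) (hA _ S.2 s hs z (hS (Subgroup.mem_zpowers z)))
  exact (key x hx _ (H18.centralizer_pCore_le (H18.isPSolvable_quotient hs _)
    (H18.pPrimeCore_quotient_pPrimeCore p) (key y hy))).symm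

theorem not_dvd_card_core : ¬ p ∣ Nat.card (pPrimeCore p G) :=
  hp.out.coprime_iff_not_dvd.1 (H18.coprime_card_pPrimeCore p).symm

theorem reg_iff_mk {g : G} (h : (g : G ⧸ pPrimeCore p G) ^ p = 1) :
    ¬ p ∣ orderOf g ↔ (g : G ⧸ pPrimeCore p G) = 1 :=
  ⟨fun h1 => by_contra fun h2 => h1 ((orderOf_eq_prime h h2).symm.dvd.trans
    (orderOf_map_dvd (QuotientGroup.mk' _) g)), fun h1 h2 => not_dvd_card_core
      (h2.trans (Subgroup.orderOf_dvd_natCard _ ((QuotientGroup.eq_one_iff g).1 h1)))⟩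

theorem pair_aux (hs : IsPSolvable p G) (hA : AbP p G) {x y : G} (hx : orderOf x = p)
    (hy : y ^ p = 1) : ¬ p ∣ orderOf ((x * y) ^ p) ∧ (¬ p ∣ orderOf (x * y) → IsConj x⁻¹ y) ∧
      (p ≠ 2 → p ∣ orderOf (x * y) ∨ p ∣ orderOf (x * y⁻¹)) := by
  have hx' : x ^ p = 1 := hx ▸ pow_orderOf_eq_one x
  have key : ∀ y : G, y ^ p = 1 → ((x * y : G) : G ⧸ pPrimeCore p G) ^ p = 1 := fun y hy => by
    rw [QuotientGroup.mk_mul, (commute_mod_core hs hA hx' hy).mul_pow, ← QuotientGroup.mk_pow,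
      ← QuotientGroup.mk_pow, hx', hy, QuotientGroup.mk_one, one_mul]
  refine ⟨?_, fun h => ?_, fun h2 => ?_⟩
  · exact (reg_iff_mk (by rw [QuotientGroup.mk_pow, key y hy, one_pow])).2 (key y hy)
  · refine H29.isConj_of_map_eq (p := p) (π := QuotientGroup.mk' (pPrimeCore p G))
      (by rw [QuotientGroup.ker_mk']; exact not_dvd_card_core) ⟨1, by simp [hx']⟩
      ⟨1, by simp [hy]⟩ ?_
    rw [map_inv, inv_eq_iff_mul_eq_one, ← map_mul]
    exact (reg_iff_mk (key y hy)).1 h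
  · by_contra h
    have h3 := (reg_iff_mk (key y hy)).1 fun h1 => h (Or.inl h1)
    have h4 := (reg_iff_mk (key y⁻¹ (by simp [hy]))).1 fun h1 => h (Or.inr h1)
    rw [QuotientGroup.mk_mul, QuotientGroup.mk_inv, mul_inv_eq_one] at h4
    rw [QuotientGroup.mk_mul, ← h4, ← QuotientGroup.mk_mul, ← sq] at h3
    refine (reg_iff_mk (by rw [h3, one_pow])).2 h3 ?_
    rw [Nat.Coprime.orderOf_pow, hx]
    rw [hx]
    exact (Nat.coprime_primes hp.out Nat.prime_two).2 h2

theorem pair_main (hA : AbP p G) {x y : G} (hs : IsPSolvable p (Subgroup.closure {x, y}))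
    (hx : orderOf x = p) (hy : y ^ p = 1) :
    (∀ z, IsPPart p (x * y) z → z ^ p = 1) ∧ (¬ p ∣ orderOf (x * y) → IsConj x⁻¹ y) ∧
      (p ≠ 2 → p ∣ orderOf (x * y) ∨ p ∣ orderOf (x * y⁻¹)) := by
  obtain ⟨h1, h2, h3⟩ := pair_aux hs (hA.subgroup _)
    (x := ⟨x, Subgroup.subset_closure (by simp)⟩) (y := ⟨y, Subgroup.subset_closure (by simp)⟩)
    (by rwa [Subgroup.orderOf_mk]) (Subtype.ext hy)
  simp only [← Subgroup.orderOf_coe, Subgroup.coe_mul, Subgroup.coe_inv,
    SubmonoidClass.coe_pow] at h1 h2 h3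
  refine ⟨fun z ⟨w, h4, h5, ⟨k, h6⟩, h7⟩ => ?_, fun h => (Subgroup.subtype _).map_isConj (h2 h), h3⟩
  refine isPPart_unique hp.out ⟨w ^ p, by rw [← h4, h5.mul_pow], h5.pow_pow p p, ?_,
    fun h8 => h7 (h8.trans (orderOf_pow_dvd p))⟩ (isPPart_one_of_not_dvd h1)
  obtain ⟨j, -, hj⟩ := (Nat.dvd_prime_pow hp.out).1 (h6 ▸ orderOf_pow_dvd (x := z) p)
  exact ⟨j, hj⟩

variable {M : Ideal AlgInt} [M.IsMaximal]

theorem bker_prin_eq_zero (hM : IsPModular p M) {g h x y : G} (hx : IsPPart p g x)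
    (hy : IsPPart p h y) (hc : ¬ IsConj x y) : bker (principalBlock M G) g h = 0 :=
  bker_eq_zero_of_coeff_mem hM (H34.blockCoeff_mem_S H34.isPBlock_principalBlock) hx hy hc

open Classical in
theorem bker_prin_sec (hM : IsPModular p M) {x : G} (hx : orderOf x = p)
    (hN : HasNormalPComplement p (Subgroup.centralizer ({x} : Set G))) (g : G) :
    bker (principalBlock M G) g x = if H29.InSec p x g then
      ((p ^ (Nat.card (Subgroup.centralizer ({x} : Set G))).factorization p : ℕ) : ℂ) else 0 := by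
  cases nonempty_fintype G
  have hx' : ∃ k, orderOf x = p ^ k := ⟨1, by rwa [pow_one]⟩
  split_ifs with h
  · rw [← H36.bker_prin_self_of_hasNPC hM hx' hN, H34.bker_eq_sum_bF, H34.bker_eq_sum_bF]
    exact Finset.sum_congr rfl fun χ hχ => by
      rw [H29.apply_eq_of_inSec χ.2.isClassFunction
        (fun g hg => H36.prin_apply_of_isPPart hM hN (mem_bF.1 hχ) hg) h]
  · obtain ⟨z, hz⟩ := exists_isPPart hp.out g
    exact bker_prin_eq_zero hM hz (isPPart_self hp.out hx') fun h1 => h ⟨z, hz, h1.symm⟩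

theorem sum_sum_lin [Fintype G] (s : Finset (IrrCharacter G)) (a : IrrCharacter G → ℂ) (x y : G) :
    ∑ g, ∑ h, ∑ χ ∈ s, (χ : G → ℂ) (g * x * g⁻¹ * (h * y * h⁻¹)) * a χ =
      (Nat.card G : ℂ) ^ 2 * ∑ χ ∈ s, (χ : G → ℂ) x * (χ : G → ℂ) y / dg χ * a χ := by
  simp only [Finset.sum_comm (s := Finset.univ) (t := s), ← Finset.sum_mul, Finset.mul_sum]
  exact Finset.sum_congr rfl fun χ _ => by rw [H31.sum_sum_conj_mul_conj χ.2, coe_dg, mul_assoc]

/-- The basic inequality. -/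
theorem pair_count (hM : IsPModular p M) {x : G} (hx : orderOf x = p)
    (hN : HasNormalPComplement p (Subgroup.centralizer ({x} : Set G))) {q : ℕ} (hq2 : 2 ≤ q)
    (hq : p ^ (Nat.card (Subgroup.centralizer ({x} : Set G))).factorization p = q)
    (hinv : IsConj x x⁻¹) (hpair : ∀ a b, IsConj x a → IsConj x b →
      H29.InSec p x (a * b) ∨ H29.InSec p x (a * b⁻¹)) {c : IrrCharacter G → ℤ}
    (hc : ∀ χ : IrrCharacter G, (χ : G → ℂ) x = c χ) (hb : ∀ χ ∈ principalBlock M G, χ ≠ one G →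
      c χ ^ 2 + 1 ≤ q → 2 * ((q : ℤ) - 1) * c χ ≤ ((q : ℤ) - 2) * dg χ) : False := by
  classical
  cases nonempty_fintype G
  have hx' : ∃ k, orderOf x = p ^ k := ⟨1, by rwa [pow_one]⟩
  have h0 : (0 : ℝ) < (Nat.card G : ℝ) ^ 2 := by have := Nat.card_pos (α := G); positivity
  have h1 : ∀ y, IsConj x y → ∑ g, ∑ h, (bker (principalBlock M G)
      (g * x * g⁻¹ * (h * y * h⁻¹)) x).re = (Nat.card G : ℝ) ^ 2 *
        ∑ χ ∈ bF (principalBlock M G), (c χ : ℝ) ^ 3 / dg χ := fun y hy => by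
    apply Complex.ofReal_injective
    simp only [← Complex.re_sum, H34.bker_eq_sum_bF]
    rw [sum_sum_lin, Finset.sum_congr rfl (g := fun χ => (((c χ : ℝ) ^ 3 / dg χ : ℝ) : ℂ))
      fun χ _ => by
        rw [← χ.2.isClassFunction.eq_of_isConj hy, hc, map_intCast]; push_cast; ring]
    norm_cast
  have h2 : (Nat.card G : ℝ) ^ 2 * q ≤ (Nat.card G : ℝ) ^ 2 *
      (2 * ∑ χ ∈ bF (principalBlock M G), (c χ : ℝ) ^ 3 / dg χ) := by
    rw [two_mul, mul_add]
    nth_rw 2 [← h1 x (IsConj.refl x)]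
    rw [← h1 x⁻¹ hinv, ← Finset.sum_add_distrib, sq, mul_assoc, Nat.card_eq_fintype_card,
      ← nsmul_eq_mul]
    refine Finset.card_nsmul_le_sum _ _ _ fun g _ => ?_
    rw [← Finset.sum_add_distrib, ← nsmul_eq_mul]
    refine Finset.card_nsmul_le_sum _ _ _ fun h _ => ?_
    have h3 := hpair _ _ (isConj_iff.2 ⟨g, rfl⟩) (isConj_iff.2 ⟨h, rfl⟩)
    rw [← MulAut.conj_apply h, ← map_inv, MulAut.conj_apply, MulAut.conj_apply] at h3
    rw [bker_prin_sec hM hx hN, bker_prin_sec hM hx hN, hq]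
    split_ifs <;> simp_all
  have h3 : ∑ χ ∈ bF (principalBlock M G), c χ ^ 2 = q := by
    have := H36.bker_prin_self_of_hasNPC hM hx' hN
    simp only [H34.bker_eq_sum_bF, hc, map_intCast, hq, ← sq] at this
    exact_mod_cast this
  have h4 : ∑ χ ∈ bF (principalBlock M G), (dg χ : ℤ) * c χ = 0 := by
    have := bker_prin_eq_zero hM (isPPart_one_of_not_dvd (g := 1) (by simp [hp.out.ne_one]))
      (isPPart_self hp.out hx') fun h => hp.out.ne_one (by rw [← hx, isConj_one_right.1 h]; simp)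
    simp only [H34.bker_eq_sum_bF, hc, map_intCast, ← coe_dg] at this
    exact_mod_cast this
  have h5 : one G ∈ bF (principalBlock M G) := mem_bF.2 H37.one_mem_principalBlock
  have h6 : c (one G) = 1 := by
    have h6 : (1 : ℂ) = c (one G) := hc (one G)
    exact_mod_cast h6.symm
  rw [← Finset.add_sum_erase _ _ h5, h6] at h2 h3 h4
  rw [dg_one] at h2 h4
  obtain ⟨ψ, hψ, h7⟩ := Finset.exists_lt_of_sum_lt (s := (bF (principalBlock M G)).erase (one G))
    (f := fun χ => (dg χ : ℤ) * c χ) (g := fun _ => 0) (by rw [Finset.sum_const_zero]; omega)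
  have hq' : (2 : ℝ) ≤ q := by exact_mod_cast hq2
  have h8 : ∑ χ ∈ (bF (principalBlock M G)).erase (one G), 2 * ((q : ℝ) - 1) *
      ((c χ : ℝ) ^ 3 / dg χ) < ∑ χ ∈ (bF (principalBlock M G)).erase (one G),
        ((q : ℝ) - 2) * (c χ : ℝ) ^ 2 := by
    refine Finset.sum_lt_sum (fun χ hχ => ?_) ⟨ψ, hψ, ?_⟩
    · have h9 : 2 * ((q : ℝ) - 1) * c χ ≤ ((q : ℝ) - 2) * dg χ := by
        exact_mod_cast hb χ (mem_bF.1 (Finset.mem_of_mem_erase hχ)) (Finset.ne_of_mem_erase hχ)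
          (by linarith [Finset.single_le_sum (fun ψ _ => sq_nonneg (c ψ)) hχ])
      rw [← mul_div_assoc, div_le_iff₀ (by exact_mod_cast dg_pos χ)]
      nlinarith [mul_le_mul_of_nonneg_left h9 (sq_nonneg (c χ : ℝ))]
    · have h9 : (c ψ : ℝ) < 0 := by
        exact_mod_cast neg_of_mul_neg_right h7 (Int.natCast_nonneg _)
      exact (mul_neg_of_pos_of_neg (by linarith) (div_neg_of_neg_of_pos
        (Odd.pow_neg (by decide) h9) (by exact_mod_cast dg_pos ψ))).trans_le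
          (mul_nonneg (by linarith) (sq_nonneg _))
  rw [← Finset.mul_sum, ← Finset.mul_sum] at h8
  have h9 : ∑ χ ∈ (bF (principalBlock M G)).erase (one G), (c χ : ℝ) ^ 2 = q - 1 := by
    exact_mod_cast (show ∑ χ ∈ (bF (principalBlock M G)).erase (one G), c χ ^ 2 = q - 1 by omega)
  have h10 := le_of_mul_le_mul_left h2 h0
  rw [h9] at h8
  push_cast at h10
  nlinarith

theorem dvd_deg_sub {Q : Subgroup G} {ξ : G → ℂ} (hξ : IsCharacter G ξ) {c : ℤ}
    (h : ∀ y ∈ Q, y ≠ 1 → ξ y = c) : (Nat.card Q : ℤ) ∣ charDegree ξ - c := by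
  classical
  cases nonempty_fintype Q
  obtain ⟨m, hm⟩ := (hξ.restrict Q).classInner_nat isCharacter_one
  rw [classInner_one_right, ← Finset.add_sum_erase _ _ (Finset.mem_univ 1), Finset.sum_congr rfl
    fun (x : Q) hx => h x x.2 fun h1 => Finset.ne_of_mem_erase hx (Subtype.ext h1),
    Finset.sum_const, Finset.card_erase_of_mem (Finset.mem_univ _), Finset.card_univ,
    ← Nat.card_eq_fintype_card, nsmul_eq_mul, Nat.cast_sub Nat.card_pos, OneMemClass.coe_one,
    ← hξ.cast_charDegree, inv_mul_eq_iff_eq_mul₀ (Nat.cast_ne_zero.2 Nat.card_pos.ne')] at hm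
  exact ⟨m - c, by exact_mod_cast (show (charDegree ξ : ℂ) - c = Nat.card Q * (m - c) by
    linear_combination hm)⟩

theorem add_card_le [IsSimpleGroup G] {Q : Subgroup G} {χ : IrrCharacter G} (h1 : χ ≠ one G)
    {c : ℤ} (h : ∀ y ∈ Q, y ≠ 1 → (χ : G → ℂ) y = c) {x : G} (hx : x ∈ Q) (hx1 : x ≠ 1) :
    c + Nat.card Q ≤ dg χ := by
  have h2 := χ.2.isCharacter.norm_le x
  rw [h x hx hx1, ← coe_dg, Complex.norm_intCast, Complex.natCast_re] at h2
  have h3 : c ≤ dg χ := by exact_mod_cast (le_abs_self _).trans h2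
  have h4 : c ≠ dg χ := fun h4 => hx1 ((χ.2.charKer_eq_bot_of_simple fun h5 =>
    h1 (Subtype.ext h5)).le (χ.2.mem_charKer.2 (by rw [h x hx hx1, h4, ← coe_dg]; simp)))
  have := Int.le_of_dvd (by rw [dg] at h3 h4; omega) (dvd_deg_sub χ.2.isCharacter h)
  rw [dg]; omega

theorem pair_count' (hM : IsPModular p M) (hp2 : p ≠ 2) (P : Sylow p G) (hA : AbP p G) {x : G}
    (hxP : x ∈ (P : Subgroup G)) (hx : orderOf x = p)
    (hN : HasNormalPComplement p (Subgroup.centralizer ({x} : Set G)))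
    (hall : ∀ y, orderOf y = p → IsConj x y)
    (hs : ∀ a b : G, orderOf a = p → orderOf b = p → IsPSolvable p (Subgroup.closure {a, b}))
    (hb : ∀ χ ∈ principalBlock M G, χ ≠ one G → ∀ c : ℤ,
      (∀ y, orderOf y = p → (χ : G → ℂ) y = c) → c ^ 2 + 1 ≤ Nat.card (P : Subgroup G) →
      2 * ((Nat.card (P : Subgroup G) : ℤ) - 1) * c ≤
        ((Nat.card (P : Subgroup G) : ℤ) - 2) * dg χ) : False := by
  choose c hc using fun χ : IrrCharacter G => H29.Cfsg.IsCharacter.exists_int_of_pow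
    χ.2.isCharacter x fun m hm => (χ.2.isClassFunction.eq_of_isConj
      (hall _ (hm.symm.orderOf_pow.trans hx))).symm
  have key : ∀ a b : G, orderOf a = p → orderOf b = p → p ∣ orderOf (a * b) →
      H29.InSec p x (a * b) := fun a b ha hb h => by
    obtain ⟨z, hz⟩ := exists_isPPart hp.out (a * b)
    exact ⟨z, hz, hall z (orderOf_eq_prime ((pair_main hA (hs a b ha hb) ha
      (hb ▸ pow_orderOf_eq_one b)).1 z hz) (H34.ne_one_of_isPPart hz h))⟩
  refine pair_count hM hx hN (hp.out.two_le.trans (Nat.le_of_dvd Nat.card_pos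
    (hx.symm.dvd.trans (Subgroup.orderOf_dvd_natCard _ hxP)))) ?_ (hall _ (by rwa [orderOf_inv]))
    (fun a b ha hb => ?_) hc fun χ hχ h1 => hb χ hχ h1 _ fun y hy => by
      rw [← χ.2.isClassFunction.eq_of_isConj (hall y hy), hc]
  · have h1 : (P : Subgroup G) ≤ Subgroup.centralizer {x} := fun y hy =>
      Subgroup.mem_centralizer_singleton_iff.2 (hA _ P.2 y hy x hxP)
    rw [← (P.subtype h1).card_eq_multiplicity, Sylow.coe_subtype]
    exact Nat.card_congr (Subgroup.subgroupOfEquivOfLe h1).toEquiv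
  · have h1 := (orderOf_eq_of_isConj ha).symm.trans hx
    have h2 := (orderOf_eq_of_isConj hb).symm.trans hx
    exact ((pair_main hA (hs a b h1 h2) h1 (h2 ▸ pow_orderOf_eq_one b)).2.2 hp2).imp
      (key a b h1 h2) (key a b⁻¹ h1 (by rwa [orderOf_inv]))

theorem ineq_of_add_le {q c d : ℤ} (hq : 3 ≤ q) (hd : 0 ≤ d) (h : 0 < c → c + q ≤ d) (hc : c ≤ q - 2) :
    2 * (q - 1) * c ≤ (q - 2) * d := by
  rcases le_or_gt c 0 with h1 | h1
  · nlinarith [mul_nonneg (show 0 ≤ q - 2 by omega) hd]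
  · nlinarith [h h1]

/-- A simple group in which the Sylow `p`-subgroup has one class of non-identity elements. -/
theorem one_class [IsSimpleGroup G] (hp2 : p ≠ 2) (P : Sylow p G) (hA : AbP p G) {x : G}
    (hxP : x ∈ (P : Subgroup G)) (hx : orderOf x = p)
    (hN : HasNormalPComplement p (Subgroup.centralizer ({x} : Set G)))
    (hP : ∀ y ∈ (P : Subgroup G), y ^ p = 1) (hall : ∀ y, orderOf y = p → IsConj x y)
    (hs : ∀ a b : G, orderOf a = p → orderOf b = p → IsPSolvable p (Subgroup.closure {a, b})) :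
    False := by
  obtain ⟨M, hM⟩ := exists_isPModular p hp.out
  have := hM.2.1
  have h1 : p ≤ Nat.card (P : Subgroup G) :=
    Nat.le_of_dvd Nat.card_pos (hx.symm.dvd.trans (Subgroup.orderOf_dvd_natCard _ hxP))
  have h2 := hp.out.two_le
  exact pair_count' hM hp2 P hA hxP hx hN hall hs fun χ _ h3 c hc h4 =>
    ineq_of_add_le (by omega) (Int.natCast_nonneg _) (fun _ => add_card_le h3
      (fun y hy h5 => hc y (orderOf_eq_prime (hP y hy) h5)) hxP (ne_one_of_orderOf_prime hx))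
      (by by_contra; nlinarith [show (3 : ℤ) ≤ Nat.card (P : Subgroup G) by omega])

end H87
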