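import Cfsg.Agent.H87.PairA
import Cfsg.Agent.H87.Simple
import Cfsg.Agent.H37.CycK
import Cfsg.Agent.H37.Cyc8
import Cfsg.Agent.H18.GY
import Cfsg.Agent.H26.SylowTI
import Cfsg.Agent.H8.AbFitting
import Cfsg.Agent.S4145

/-! Groups with cyclic Sylow `p`-subgroups in which two elements of order `p` generate a
`p`-solvable group. -/

set_option autoImplicit false

namespace H87

open Cfsg H28 H35 H37 H39

universe u

theorem cyc_arith {p q e f c ε k : ℤ} (hp : 3 ≤ p) (hq : p * p ≤ q) (he : 0 < e) (he' : e < p)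
    (hε : ε = 1 ∨ ε = -1) (hk : ε * f - e = q * k) (h1 : c + p ≤ f)
    (hc : c ^ 2 + 1 ≤ q) : 2 * (q - 1) * c ≤ (q - 2) * f := by
  have hq9 : 9 ≤ q := by nlinarith
  rcases le_or_gt c 0 with h0 | h0
  · nlinarith
  have h2 : q - p + 1 ≤ f := by
    rcases hε with rfl | rfl
    · have : 0 < k := by by_contra; nlinarith
      nlinarith
    · have : k < 0 := by by_contra; nlinarith
      nlinarith
  have h3 : 16 * c ≤ 7 * (q - p + 1) := by nlinarith [sq_nonneg (c - 3), sq_nonneg (p - 3)]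
  nlinarith

theorem cyc_simple {G : Type u} [Group G] [Finite G] [IsSimpleGroup G] (hG : ¬ IsMulCommutative G)
    {p : ℕ} [hp : Fact p.Prime] (hd : p ∣ Nat.card G) (P : Sylow p G) (hP : IsCyclic P)
    (hs : ∀ a b : G, orderOf a = p → orderOf b = p → IsPSolvable p (Subgroup.closure {a, b})) :
    False := by
  classical
  cases nonempty_fintype G
  obtain ⟨M, hM⟩ := exists_isPModular p hp.out
  have := hM.2.1
  obtain ⟨x₀, hx₀⟩ := exists_prime_orderOf_dvd_card' p hd
  obtain ⟨x, hxP, hx⟩ := exists_isConj_mem_sylow P hx₀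
  replace hx := (orderOf_eq_of_isConj hx).symm.trans hx₀
  have hx1 := ne_one_of_orderOf_prime hx
  have hZ : Subgroup.zpowers x ≤ P := Subgroup.zpowers_le_of_mem hxP
  have hc : Nat.card (Subgroup.zpowers x) = p := (Nat.card_zpowers x).trans hx
  have h := cycS_principal hM P hP hZ hc
  obtain ⟨X, Y, δ, ε, th, hR⟩ := h.cycR_of cycK (ζ₀ := oneI _) one_mem_principalBlock
    fun x hx => cI_oneI (nor_le_nor_cen _ hx.1)
  have h0 := hR.e_ne_zero
  have hX := hR.cardX
  have he := h.e_dvd
  rw [cycT_principal] at h0 hX he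
  have valX : ∀ χ ∈ X, ∀ g, p ∣ orderOf g → (χ : G → ℂ) g = δ χ := fun χ hχ g hg => by
    obtain ⟨a, h3⟩ := h.exists_conj_big (χ := oneI G) one_mem_principalBlock hg one_ne_zero
    have h4 := hR.val_X hχ (h3.dvd hc)
    rw [h.ind_big_const (fun _ => inB_irr hR.mem0) h3 (a := 1) fun t ht => by
      rw [← coe_cI (nor_le_nor_cen _ ht), cI_oneI (nor_le_nor_cen _ ht)], cycT_principal,
      χ.2.isClassFunction g a] at h4
    have h5 := mul_left_cancel₀ (Nat.cast_ne_zero.2 h0) h4
    rw [← one_mul ((χ : G → ℂ) g), ← sign_sq (hR.sδ χ), mul_assoc, h5, mul_one]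
  have he1 : X.card ≠ 1 := fun h1 => not_normalizer_le_centralizer hG hd P fun g hg => by
    have h2 := Subgroup.relIndex_eq_one.1 (hX.symm.trans h1)
      (nor_le_nor_of_isCyclic hP hZ hg) x (Subgroup.mem_zpowers x)
    exact H26.mem_centralizer_of_cyclic_sylow P hP hg hxP hx1 (by rw [← h2, mul_inv_cancel_right])
  rw [← hX] at h0 he
  have h2 := hp.out.two_le
  have hep : X.card < p := by have := Nat.le_of_dvd (by omega) he; omega
  have hp2 : p ≠ 2 := by omega
  have hA : AbP p G := abP_of_sylow P fun a ha b hb =>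
    congrArg Subtype.val (mul_comm' (⟨a, ha⟩ : (P : Subgroup G)) ⟨b, hb⟩)
  have hall : ∀ y, orderOf y = p → IsConj x y := fun y hy => by_contra fun hn => by
    have h3 : ∀ χ ∈ X, χ = one G := fun χ hχ => by
      have h4 := H31.sum_sum_conj_mul_conj χ.2 x⁻¹ y
      have h5 : ∀ g k : G, (χ : G → ℂ) (g * x⁻¹ * g⁻¹ * (k * y * k⁻¹)) = δ χ := fun g k => by
        have h6 : orderOf (g * x⁻¹ * g⁻¹) = p := by rw [orderOf_conj, orderOf_inv, hx]
        have h7 : orderOf (k * y * k⁻¹) = p := by rw [orderOf_conj, hy]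
        refine valX χ hχ _ (by_contra fun h8 => hn ?_)
        have h9 := (pair_main hA (hs _ _ h6 h7) h6 (h7 ▸ pow_orderOf_eq_one _)).2.1 h8
        exact ((isConj_iff.2 ⟨g, by group⟩).trans h9).trans (isConj_iff.2 ⟨k⁻¹, by group⟩)
      simp only [h5, Finset.sum_const, Finset.card_univ, nsmul_eq_mul,
        ← Nat.card_eq_fintype_card] at h4
      rw [valX χ hχ _ (by rw [orderOf_inv, hx]), valX χ hχ _ hy.symm.dvd, sign_sq (hR.sδ χ),
        ← coe_dg, ← mul_assoc, ← sq, mul_right_inj' (pow_ne_zero _ (H33.natCard_ne_zero _)),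
        eq_div_iff (Nat.cast_ne_zero.2 (dg_pos χ).ne')] at h4
      have h6 : δ χ * dg χ = 1 := by exact_mod_cast h4
      refine eq_one_of_dg (commutator_eq_top hG) ?_
      rcases hR.sδ χ with h7 | h7 <;> rw [h7] at h6 <;> omega
    have := Finset.card_le_one.2 fun a ha b hb => (h3 a ha).trans (h3 b hb).symm
    omega
  have hPC : (P : Subgroup G) ≤ Subgroup.centralizer {x} := fun a ha =>
    Subgroup.mem_centralizer_singleton_iff.2 (hA _ P.isPGroup' a ha x hxP)
  have hPN : ∀ g ∈ Subgroup.centralizer ({x} : Set G), g ∈ Nor (P : Subgroup G) →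
      g ∈ Cen (P : Subgroup G) := fun g hg hg' =>
    H26.mem_centralizer_of_cyclic_sylow P hP hg' hxP hx1 (by
      rw [Subgroup.mem_centralizer_singleton_iff.1 hg, mul_inv_cancel_right])
  have hN : HasNormalPComplement p (Subgroup.centralizer ({x} : Set G)) :=
    H8.hasNPC_of_normalizer_le_centralizer (P.subtype hPC) fun g hg a ha => Subtype.ext
      (hPN g g.2 (by
        rw [Subgroup.mem_normalizer_iff]
        intro b
        refine ⟨fun hb => (Subgroup.mem_set_normalizer_iff.1 hg ⟨b, hPC hb⟩).1 hb, fun hb => ?_⟩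
        have h3 : b ∈ Subgroup.centralizer ({x} : Set G) := by
          simpa [mul_assoc] using mul_mem (mul_mem (inv_mem g.2) (hPC hb)) g.2
        exact (Subgroup.mem_set_normalizer_iff.1 hg ⟨b, h3⟩).2 hb) a ha)
  have hsing : ∀ y ∈ (P : Subgroup G), y ≠ 1 → p ∣ orderOf y := fun y hy h3 => by
    obtain ⟨k, hk⟩ := (IsPGroup.iff_orderOf.1 P.isPGroup') ⟨y, hy⟩
    rw [← Subgroup.orderOf_coe] at hk
    rw [hk]
    refine dvd_pow_self p fun h4 => h3 (orderOf_eq_one_iff.1 (by rw [hk, h4, pow_zero]))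
  obtain ⟨n, hn⟩ := P.isPGroup'.exists_card_eq
  by_cases hn1 : n ≤ 1
  · refine one_class hp2 P hA hxP hx hN (fun y hy => ?_) hall hs
    refine orderOf_dvd_iff_pow_eq_one.1 ((Subgroup.orderOf_dvd_natCard _ hy).trans ?_)
    rw [hn]
    exact (pow_dvd_pow p hn1).trans (pow_one p).dvd
  have hq : p * p ≤ Nat.card (P : Subgroup G) := by
    rw [hn, ← sq]; exact Nat.pow_le_pow_right hp.out.pos (by omega)
  have hq' : (p : ℤ) * p ≤ Nat.card (P : Subgroup G) := by exact_mod_cast hq
  have hp3 : (3 : ℤ) ≤ p := by omega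
  refine pair_count' hM hp2 P hA hxP hx hN hall hs fun χ hχ h3 c hc' h4 => ?_
  rcases (hR.mem_iff χ).1 hχ with h5 | h5
  · obtain rfl : c = δ χ := by exact_mod_cast (hc' x hx).symm.trans (valX χ h5 x hx.symm.dvd)
    refine ineq_of_add_le (by nlinarith) (Int.natCast_nonneg _) (fun _ => add_card_le h3
      (fun y hy h6 => valX χ h5 y (hsing y hy h6)) hxP hx1) ?_
    rcases hR.sδ χ with h6 | h6 <;> nlinarith
  · have h6 := hR.reg_eq h5 (g := 1) (by simpa using hp.out.ne_one)
    simp only [← coe_dg] at h6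
    have h7 : ε * dg χ = ∑ ψ ∈ X, δ ψ * dg ψ := by exact_mod_cast h6
    obtain ⟨k, hk⟩ : (Nat.card (P : Subgroup G) : ℤ) ∣ ε * dg χ - X.card := by
      rw [h7, Finset.card_eq_sum_ones, Nat.cast_sum, ← Finset.sum_sub_distrib]
      refine Finset.dvd_sum fun ψ hψ => ?_
      have h8 := dvd_deg_sub ψ.2.isCharacter fun y hy h6 => valX ψ hψ y (hsing y hy h6)
      rcases hR.sδ ψ with h9 | h9 <;> rw [h9] at h8 ⊢
      · simpa using h8
      · exact dvd_neg.1 (by simpa [add_comm] using h8)
    have h8 := add_card_le h3 (Q := Subgroup.zpowers x) (fun y hy h6 => hc' y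
      (orderOf_eq_of_mem hp.out hc hy h6)) (Subgroup.mem_zpowers x) hx1
    rw [hc] at h8
    exact cyc_arith hp3 hq' (by omega) (by omega) hR.sε hk h8 h4

theorem isCyclic_sylow_subgroup {G : Type*} [Group G] [Finite G] {p : ℕ} [Fact p.Prime]
    (P : Sylow p G) (hP : IsCyclic P) (H : Subgroup G) (Q : Sylow p H) : IsCyclic Q := by
  obtain ⟨S, hS⟩ := (Q.isPGroup'.map H.subtype).exists_le_sylow
  have := (Sylow.equiv P S).isCyclic.1 hP
  have := Subgroup.isCyclic_of_le hS
  exact ((Q : Subgroup H).equivMapOfInjective _ H.subtype_injective).isCyclic.2 this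

theorem isPSolvable_of_pairs {p : ℕ} [hp : Fact p.Prime] (n : ℕ) : ∀ (G : Type u) [Group G]
    [Finite G], Nat.card G = n → ∀ P : Sylow p G, IsCyclic P →
    (∀ a b : G, orderOf a = p → orderOf b = p → IsPSolvable p (Subgroup.closure {a, b})) →
    IsPSolvable p G := by
  induction n using Nat.strong_induction_on with
  | _ n ih =>
  intro G _ _ hn P hP hs
  by_cases hd : p ∣ Nat.card G
  swap
  · exact H18.isPSolvable_of_coprime ((Nat.Prime.coprime_iff_not_dvd hp.out).2 hd).symm
  by_cases hG : IsSimpleGroup G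
  · by_cases hc : IsMulCommutative G
    · have : Group.IsSolvable G := Group.isSolvable_of_comm hc.is_comm.comm
      exact H18.isPSolvable_of_isSolvable p
    · exact (cyc_simple hc hd P hP hs).elim
  have : Nontrivial G := Finite.one_lt_card_iff_nontrivial.1
    (hp.out.one_lt.trans_le (Nat.le_of_dvd Nat.card_pos hd))
  obtain ⟨N, hN, h1, h2⟩ : ∃ N : Subgroup G, N.Normal ∧ N ≠ ⊥ ∧ N ≠ ⊤ := by
    by_contra! h
    exact hG ⟨fun N hN => or_iff_not_imp_left.2 (h N hN)⟩
  have h3 := N.card_mul_index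
  have h4 := N.one_lt_card_iff_ne_bot.2 h1
  have h5 := Subgroup.one_lt_index_of_ne_top h2
  by_cases h6 : p ∣ Nat.card N
  · by_cases h7 : p ∣ N.index
    · exact (Cfsg.Agent.S4145.result p P hP N h6 h7).2
    obtain ⟨Q⟩ : Nonempty (Sylow p N) := inferInstance
    refine H18.isPSolvable_of_normal_of_quotient N (ih _ (by nlinarith) N rfl Q
      (isCyclic_sylow_subgroup P hP N Q) fun a b ha hb => ?_)
      (H18.isPSolvable_of_coprime ((Nat.Prime.coprime_iff_not_dvd hp.out).2 h7).symm)
    have h8 := hs a b (by rwa [Subgroup.orderOf_coe]) (by rwa [Subgroup.orderOf_coe])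
    rw [show ({(a : G), (b : G)} : Set G) = N.subtype '' {a, b} by simp [Set.image_pair],
      ← MonoidHom.map_closure] at h8
    exact H18.isPSolvable_of_injective h8
      ((Subgroup.closure {a, b}).equivMapOfInjective _ N.subtype_injective).toMonoidHom
      (MulEquiv.injective _)
  · have h7 := ((Nat.Prime.coprime_iff_not_dvd hp.out).2 h6).symm
    refine H18.isPSolvable_of_normal_of_quotient N (H18.isPSolvable_of_coprime h7)
      (ih _ (by rw [← N.index_eq_card]; nlinarith) (G ⧸ N) rfl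
        (P.mapSurjective (QuotientGroup.mk'_surjective N))
        (isCyclic_of_surjective _ ((QuotientGroup.mk' N).subgroupMap_surjective P))
        fun a b ha hb => ?_)
    obtain ⟨a, ha', rfl⟩ := H18.GY.exists_lift_orderOf N h7 ha
    obtain ⟨b, hb', rfl⟩ := H18.GY.exists_lift_orderOf N h7 hb
    have h8 := H18.isPSolvable_map (hs a b ha' hb') (QuotientGroup.mk' N)
    rwa [MonoidHom.map_closure, Set.image_pair] at h8

end H87
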