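import Cfsg.Agent.H26.DP0ASpec

/-! Slot W5 of chapter U0, section A (S3275). -/

set_option autoImplicit false

namespace H87.Dp0W5

open Subgroup Cfsg H98 H48.DP H57.DPC H48.DP2 H26.DA

universe u

variable {G : Type u} [Group G]

theorem no_of_cj {K : Subgroup G} {g s : G} (hs : s ∈ No (cj g K)) : g⁻¹ * s * g ∈ No K := by
  rw [mem_normalizer_iff] at hs ⊢
  intro h
  have := hs (g * h * g⁻¹)
  rw [mem_cj, mem_cj] at this
  have e1 : g⁻¹ * (g * h * g⁻¹) * g = h := by group
  have e2 : g⁻¹ * (s * (g * h * g⁻¹) * s⁻¹) * g = g⁻¹ * s * g * h * (g⁻¹ * s * g)⁻¹ := by group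
  rw [e1, e2] at this
  exact this

theorem comm_cj {g s a : G} (h : Commute (g⁻¹ * s * g) a) : Commute s (g * a * g⁻¹) := by
  have e := h.eq
  change s * (g * a * g⁻¹) = g * a * g⁻¹ * s
  calc s * (g * a * g⁻¹) = g * (g⁻¹ * s * g * a) * g⁻¹ := by group
    _ = g * (a * (g⁻¹ * s * g)) * g⁻¹ := by rw [e]
    _ = g * a * g⁻¹ * s := by group

theorem comm_a {P K : Subgroup G} {y z a : G} (h : Wa P K y z a) {s : G} (hP : s ∈ P)
    (hN : s ∈ No K) : Commute s a := by
  have hz : z * s = s * z := by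
    have := h.cz hP
    rw [mem_centralizer_iff] at this
    exact this z rfl
  have hc := h.zc
  have hc' : s * (a⁻¹ * z) * s⁻¹ ∈ Ce K := by
    rw [mem_centralizer_iff] at hc ⊢
    intro k hk
    have hk' : s⁻¹ * k * s⁻¹⁻¹ ∈ K := (mem_normalizer_iff.1 (inv_mem hN) k).1 hk
    have := hc _ hk'
    calc k * (s * (a⁻¹ * z) * s⁻¹) = s * (s⁻¹ * k * s⁻¹⁻¹ * (a⁻¹ * z)) * s⁻¹ := by group
      _ = s * ((a⁻¹ * z) * (s⁻¹ * k * s⁻¹⁻¹)) * s⁻¹ := by rw [this]
      _ = s * (a⁻¹ * z) * s⁻¹ * k := by group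
  have h1 : a⁻¹ * (s * a * s⁻¹) ∈ K :=
    mul_mem (inv_mem h.aK) ((mem_normalizer_iff.1 hN a).1 h.aK)
  have h2 : a⁻¹ * (s * a * s⁻¹) ∈ Ce K := by
    have e : a⁻¹ * (s * a * s⁻¹) = (a⁻¹ * z) * (s * (a⁻¹ * z) * s⁻¹)⁻¹ := by
      calc a⁻¹ * (s * a * s⁻¹) = a⁻¹ * (s * z) * z⁻¹ * a * s⁻¹ := by group
        _ = a⁻¹ * (z * s) * z⁻¹ * a * s⁻¹ := by rw [hz]
        _ = (a⁻¹ * z) * (s * (a⁻¹ * z) * s⁻¹)⁻¹ := by group
    rw [e]; exact mul_mem hc (inv_mem hc')
  have h3 : a⁻¹ * (s * a * s⁻¹) = 1 := by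
    have := (h.str.cm K h.comp).2.sm.cen
    rw [← mem_bot, ← this]; exact ⟨h1, h2⟩
  change s * a = a * s
  calc s * a = a * (a⁻¹ * (s * a * s⁻¹)) * s := by group
    _ = a * s := by rw [h3]; group

theorem jobW5 : JobW5.{u} := by
  intro G _ _ P K y z a h
  have hyP := h.yP
  have hyyP : y * y ∈ P := mul_mem hyP hyP
  have hBP : H26.DA.Bs y a ≤ P := by
    refine sup_le (sup_le ?_ ?_) ?_ <;> rw [zpowers_le]
    · exact h.aP
    · exact mul_mem (mul_mem hyP h.aP) (inv_mem hyP)
    · exact mul_mem (mul_mem hyyP h.aP) (inv_mem hyyP)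
  have hcB : ∀ s ∈ P, s ∈ No K → ∀ w ∈ H26.DA.Bs y a, Commute s w := by
    intro s hP hN
    have hle : H26.DA.Bs y a ≤ C1 s := by
      have key : ∀ w : G, Commute s w → zpowers w ≤ C1 s := fun w hw => by
        rw [zpowers_le, mem_centralizer_iff]
        rintro _ rfl
        exact hw.eq
      refine sup_le (sup_le (key _ ?_) (key _ ?_)) (key _ ?_)
      · exact comm_a h.toWa hP hN
      · exact comm_cj (comm_a h.toWa (mul_mem (mul_mem (inv_mem hyP) hP) hyP)
          (no_of_cj (h.thr s hP hN).1))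
      · exact comm_cj (comm_a h.toWa (mul_mem (mul_mem (inv_mem hyyP) hP) hyyP)
          (no_of_cj (h.thr s hP hN).2))
    intro w hw
    have := hle hw
    rw [mem_centralizer_iff] at this
    exact this s rfl
  refine ⟨H26.DA.Bs y a, hBP, h.e27, fun B' hB'P hB' => ?_⟩
  by_cases hN : B' ≤ No K
  · exact eq_of_le_of_card_ge (fun w hw => h.om w (hB'P hw) (hN hw) (hB'.1.2 w hw))
      (h.c27.trans hB'.2)
  · exfalso
    obtain ⟨t, htB, htN⟩ := SetLike.not_le_iff_exists.1 hN
    have hy3 : y ^ 3 = 1 := by rw [← h.y3]; exact pow_orderOf_eq_one y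
    have hsmall : ∀ w ∈ B', w ∈ No K → w ∈ zpowers z := by
      intro w hw hwN
      have hwP := hB'P hw
      have hw3 := hB'.1.2 w hw
      have hwB := h.om w hwP hwN hw3
      have htw : Commute t w := by
        have := hB'.1.1
        exact congrArg Subtype.val (mul_comm' (⟨t, htB⟩ : B') ⟨w, hw⟩)
      have hstep : ∀ e ∈ P, e⁻¹ * t ∈ No K → Commute e w := by
        intro e he hs
        have h1 := hcB _ (mul_mem (inv_mem he) (hB'P htB)) hs w hwB
        have e1 : e = t * (e⁻¹ * t)⁻¹ := by group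
        rw [e1]; exact htw.mul_left h1.inv_left
      have hyw : Commute y w := by
        rcases h.cos t with h0 | h0 | h0
        · exact absurd h0 htN
        · exact hstep y hyP h0
        · have h1 := hstep _ hyyP h0
          have e1 : y = (y * y) * (y * y) := by
            calc y = y * y ^ 3 := by rw [hy3, mul_one]
              _ = (y * y) * (y * y) := by simp only [pow_succ, pow_zero, one_mul, mul_assoc]
          rw [e1]; exact h1.mul_left h1
      have hzw : Commute w z := by
        have := h.cz hwP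
        rw [mem_centralizer_iff] at this
        exact (this z rfl).symm
      exact h.eN w (h.st w hw3 hyw.symm hzw) hwN
    have hidx : (No K).index ≤ 3 := by
      have hs : Function.Surjective
          (fun i : Fin 3 => ((![1, y, y * y] i : G) : G ⧸ No K)) := by
        intro q
        obtain ⟨g, rfl⟩ := QuotientGroup.mk_surjective q
        rcases h.cos g with h0 | h0 | h0
        · exact ⟨0, QuotientGroup.eq.2 (by simpa using h0)⟩
        · exact ⟨1, QuotientGroup.eq.2 (by simpa using h0)⟩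
        · exact ⟨2, QuotientGroup.eq.2 (by simpa using h0)⟩
      have := Nat.card_le_card_of_surjective _ hs
      simpa [Subgroup.index] using this
    have hrel : ((No K).subgroupOf B').index ≤ 3 := by
      have h1 : (No K).relIndex B' ≤ (No K).relIndex ⊤ :=
        relIndex_le_of_le_right le_top (by rw [relIndex_top_right]; exact index_ne_zero_of_finite)
      rw [relIndex_top_right] at h1
      exact h1.trans hidx
    have hcard : Nat.card ((No K).subgroupOf B') ≤ 3 := by
      rw [← card_map_of_injective B'.subtype_injective, ← h.z3, ← Nat.card_zpowers]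
      apply card_le_of_le
      rintro _ ⟨w, hw, rfl⟩
      exact hsmall w w.2 hw
    have h9 := ((No K).subgroupOf B').card_mul_index
    have h27 := hB'.2
    have := Nat.mul_le_mul hcard hrel
    omega

end H87.Dp0W5
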