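import Cfsg.Agent.H28.TESpec

/-! Tower NF (S1308), chapter TE part 1, slot SC: the axis is strongly closed. -/

set_option autoImplicit false

open Cfsg Subgroup H14 H98 H1.Gold H31.S2 H14.GC H14.FE H14.NF H28.TE
open scoped commutatorElement

namespace H87.TeSC

universe u

theorem jobSC : H28.TE.JobSC.{u} := by
  intro hZ4 _ hKP hSQ hG1 hB2 hOn hZC G _ _ Q Q₁ E Q₂ T hL R hR e he g hg hi
  haveI : Fact (Nat.Prime 2) := ⟨Nat.prime_two⟩
  have kp := hKP G Q Q₁ E Q₂ T hL R hR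
  have sq := hSQ G Q Q₁ E Q₂ T hL
  have g1 := hG1 G Q Q₁ E Q₂ T hL R hR
  have b2 := hB2 G Q Q₁ E Q₂ T hL R hR
  have on := hOn G Q Q₁ E Q₂ T hL R hR
  obtain ⟨zE, zi⟩ := hZC G Q Q₁ E Q₂ T hL R hR
  -- involutions of `P` lie in `E`
  have inv : ∀ y ∈ PP E T R, y * y = 1 → y ∈ E := fun y hy h2 => by
    by_contra hn
    exact sq y (kp.tr y hy hn) h2
  have hc : ∀ a ∈ E, ∀ r ∈ R, r * a = a * r := fun a ha r hr => by
    rw [zE] at ha
    exact mem_centralizer_iff.1 (mem_OZ.1 ha).2.1 r hr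
  by_contra hiE
  set i := g * e * g⁻¹ with hidef
  have hS : IsSyl 2 (cj g R) (Q₁ ⊓ cen1 i) := by
    refine (hR.syl.cj_of_mem hg).of_le (le_inf (hR.syl.cj_of_mem hg).le fun x hx => ?_) inf_le_left
    rw [mem_cen1]
    have := hc e he _ (mem_cj.1 hx)
    calc x * i = g * (g⁻¹ * x * g * e) * g⁻¹ := by rw [hidef]; group
      _ = g * (e * (g⁻¹ * x * g)) * g⁻¹ := by rw [this]
      _ = i * x := by rw [hidef]; group
  have hY : IsPGroup 2 (R ⊓ cen1 i : Subgroup G) := hR.syl.isPGroup.to_le inf_le_left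
  obtain ⟨k, hk, hkY⟩ := hS.exists_cj_le hY (inf_le_inf_right _ hR.syl.le)
  have hki : k * i = i * k := mem_cen1.1 hk.2
  set h := g⁻¹ * k with hh
  have hhQ : h ∈ Q₁ := mul_mem (inv_mem hg) hk.1
  have hEY : E ≤ R ⊓ cen1 i := fun a ha => ⟨hR.le ha, mem_cen1.2 (hc a ha i hi).symm⟩
  have hE1 : cj h E ≤ R := by
    rw [hh, ← cj_cj, ← le_cj_iff]
    exact (cj_mono k hEY).trans hkY
  have heE1 : e ∉ cj h E := fun hm => by
    apply hiE
    have e1 : h⁻¹ * e * h = i := by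
      calc h⁻¹ * e * h = k⁻¹ * (i * k) := by rw [hh, hidef]; group
        _ = i := by rw [← hki, inv_mul_cancel_left]
    rw [← e1]; exact mem_cj.1 hm
  have hnle : ¬ cj h E ≤ E := fun hle => by
    have : cj h E = E := eq_of_le_of_card_ge hle (by rw [card_cj])
    exact heE1 (by rw [this]; exact he)
  obtain ⟨e1, he1, he1E⟩ := SetLike.not_le_iff_exists.1 hnle
  have el1 : ∀ a ∈ cj h E, a * a = 1 := fun a ha => by
    have := hL.elE _ (mem_cj.1 ha)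
    calc a * a = h * (h⁻¹ * a * h * (h⁻¹ * a * h)) * h⁻¹ := by group
      _ = 1 := by rw [this]; group
  have he1P : e1 ∉ PP E T R := fun hm => he1E (inv e1 hm (el1 e1 he1))
  -- an involution of `E₁` inside `P`
  have hz : ∃ z ∈ cj h E, z ≠ 1 ∧ z ∈ PP E T R := by
    obtain ⟨s, hs, t, ht, hs1, ht1, hst, -⟩ := hL.fE
    have ne1 : ∀ a : G, a ≠ 1 → h * a * h⁻¹ ≠ 1 := fun a ha h1 => ha (by
      calc a = h⁻¹ * (h * a * h⁻¹) * h := by group
        _ = 1 := by rw [h1]; group)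
    by_cases h1 : h * s * h⁻¹ ∈ PP E T R
    · exact ⟨_, conj_mem_cj hs, ne1 s hs1.1, h1⟩
    by_cases h2 : h * t * h⁻¹ ∈ PP E T R
    · exact ⟨_, conj_mem_cj ht, ne1 t ht1.1, h2⟩
    refine ⟨h * (s * t) * h⁻¹, conj_mem_cj (mul_mem hs ht), ne1 _ fun h0 => hst ?_, ?_⟩
    · calc s = s * (t * t) := by rw [ht1.2, mul_one]
        _ = t := by rw [← mul_assoc, h0, one_mul]
    · have := (b2 _ (hE1 (conj_mem_cj hs)) h1).2 _ (hE1 (conj_mem_cj ht)) h2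
      rwa [show h * s * h⁻¹ * (h * t * h⁻¹) = h * (s * t) * h⁻¹ by group] at this
  obtain ⟨z, hz1, hzne, hzP⟩ := hz
  have hzz := el1 z hz1
  have hzE : z ∈ E := inv z hzP hzz
  have hex : ∃ t ∈ T, ⁅t, e1⁆ ∉ E := by
    by_contra hn
    push Not at hn
    exact he1P ((kp.mem e1 (hE1 he1)).2 hn)
  obtain ⟨-, -, hFu, -⟩ := g1 e1 (b2 e1 (hE1 he1) he1P).1 hex
  obtain ⟨y, hy, hyy⟩ := on hFu z hzE hzne
  have hinv := zi e1 (hE1 he1) he1P (el1 e1 he1) y hy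
  have hc1 : ∀ a ∈ cj h E, cj h R ≤ cen1 a := fun a ha x hx => by
    rw [mem_cen1]
    have := hc _ (mem_cj.1 ha) _ (mem_cj.1 hx)
    calc x * a = h * (h⁻¹ * x * h * (h⁻¹ * a * h)) * h⁻¹ := by group
      _ = h * (h⁻¹ * a * h * (h⁻¹ * x * h)) * h⁻¹ := by rw [this]
      _ = a * x := by group
  refine hzne (hZ4 G Q₁ (cj h R) e1 z y (hR.syl.cj_of_mem hhQ) (hc1 e1 he1) (hc1 z hz1)
    (hR.syl.le hy.1) ?_ (by rw [← hyy, mul_assoc]) hzz)
  have e11 : e1⁻¹ = e1 := inv_eq_of_mul_eq_one_right (el1 e1 he1)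
  have a1 : y * e1 = e1 * y⁻¹ := by
    calc y * e1 = e1⁻¹ * (e1 * y * e1⁻¹) * (e1 * e1) := by group
      _ = e1 * y⁻¹ := by rw [hinv, el1 e1 he1, e11, mul_one]
  have a2 : z⁻¹ = z := inv_eq_of_mul_eq_one_right hzz
  calc y * e1 * y⁻¹ = e1 * (y * y)⁻¹ := by rw [a1]; group
    _ = e1 * z := by rw [hyy, a2]

end H87.TeSC
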