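/- Sectional rank three: general tools (weights, Frattini subgroup, small sections). -/
import Cfsg.Agent.H87.F3Spec
import Cfsg.Agent.H48.Maschke
import Cfsg.Agent.H1.Coprime2
import Cfsg.Agent.H46.Nil
import Cfsg.Agent.H98.Basic

set_option autoImplicit false
set_option linter.unusedSectionVars false

namespace H87.F3
open Cfsg H92 H93 Subgroup H92.Es H92.P5
open scoped commutatorElement

universe u

variable {Ω : Type u} [Group Ω] {A B C D E E₁ E₂ H J K L N P Q S U V X Y Z : Subgroup Ω}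
  {a b c e g h t u v w x y z : Ω} {p : ℕ} {k l : ℤ}

/-! ### Weights -/

theorem W.mul (h1 : W g y B k) (h2 : W h y B l) (hg : g ∈ Nm B) (hy : y ∈ Nm B) :
    W (g * h) y B (k * l) := by
  have : (B.subgroupOf (Nm B)).Normal := normal_subgroupOf_of_le_normalizer le_rfl
  let π := QuotientGroup.mk' (B.subgroupOf (Nm B))
  have e2 : π ⟨y, hy⟩ ^ k = π ⟨g, hg⟩ * π ⟨y, hy⟩ * (π ⟨g, hg⟩)⁻¹ := by
    rw [← map_zpow, ← map_inv, ← map_mul, ← map_mul]; exact QuotientGroup.eq.2 (mem_subgroupOf.2 h1)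
  have e3 : π ⟨y, hy⟩ ^ (k * l) = π ⟨g, hg⟩ * π ⟨y, hy⟩ ^ l * (π ⟨g, hg⟩)⁻¹ := by
    rw [← conj_zpow, ← e2, ← zpow_mul]
  rw [← map_zpow, ← map_zpow, ← map_inv, ← map_mul, ← map_mul] at e3
  have e4 : (y ^ (k * l))⁻¹ * (g * y ^ l * g⁻¹) ∈ B := mem_subgroupOf.1 (QuotientGroup.eq.1 e3)
  have := mul_mem e4 (conj_mem_of_Nm hg h2)
  rw [W]; convert this using 1; group

theorem W.pow (h1 : W g y B k) (hg : g ∈ Nm B) (hy : y ∈ Nm B) (n : ℕ) : W (g ^ n) y B (k ^ n) := by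
  induction n with
  | zero => simp [W]
  | succ n ih => rw [pow_succ', pow_succ']; exact W.mul h1 ih hg hy

theorem W.cj (h1 : W g y B k) (c : Ω) : W (c * g * c⁻¹) (c * y * c⁻¹) (cj c B) k := by
  have := conj_mem_cj c h1
  rw [W, conj_zpow]; convert this using 1; group

theorem W.tv (hg : g ∈ Nm B) (h1 : ∀ y ∈ A, W g y B 1) : g ∈ Tv A B :=
  ⟨hg, fun y hy => by simpa [W] using h1 y hy⟩

theorem W.com (h1 : W g y B 1) (hy : y ∈ Nm B) : ⁅g, y⁆ ∈ B := by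
  have := conj_mem_of_Nm hy h1
  convert this using 1; simp only [commutatorElement_def]; group

theorem W.of_com (h1 : ⁅g, y⁆ ∈ B) (hy : y ∈ Nm B) : W g y B 1 := by
  have := conj_mem_of_Nm' hy h1
  rw [W]; convert this using 1; simp only [commutatorElement_def]; group

theorem W.of_ct (hg : g ∈ Ct A) (hy : y ∈ A) (B : Subgroup Ω) : W g y B 1 := by
  rw [W, conj_eq_of_Ct hg hy]; simp

theorem W.inf (h1 : W g y B k) (hg : g ∈ Nm C) (hy : y ∈ C) : W g y (B ⊓ C) k :=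
  mem_inf.2 ⟨h1, mul_mem (inv_mem (zpow_mem hy k)) (conj_mem_of_Nm hg hy)⟩

/-- powers in a section that is abelian modulo `D` -/
theorem W.powp (h1 : W g y B k) (hV : V ≤ Tv V D) (hy : y ∈ V) (hB : B ≤ V) {n : ℕ}
    (hn : ∀ u ∈ B, u ^ n ∈ D) : W g (y ^ n) D k := by
  have : (D.subgroupOf (Nm D)).Normal := normal_subgroupOf_of_le_normalizer le_rfl
  let π := QuotientGroup.mk' (D.subgroupOf (Nm D))
  have n1 := (hV (zpow_mem hy k)).1
  have n2 := (hV (hB h1)).1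
  have c : Commute (π ⟨_, n1⟩) (π ⟨_, n2⟩) := by
    rw [← commutatorElement_eq_one_iff_commute, ← map_commutatorElement]
    exact (QuotientGroup.eq_one_iff _).2
      (mem_subgroupOf.2 (com_of_tv (hV (zpow_mem hy k)) (hB h1)))
  have e := c.mul_pow n
  rw [← map_mul, ← map_pow, ← map_pow, ← map_pow, ← map_mul] at e
  have e2 := mem_subgroupOf.1 (QuotientGroup.eq.1 e.symm)
  simp only [coe_mul, coe_inv, SubgroupClass.coe_pow, mul_inv_cancel_left] at e2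
  have := mul_mem (hn _ h1) e2
  rw [W, ← zpow_natCast y n, ← zpow_mul, mul_comm (n : ℤ), zpow_mul, zpow_natCast, zpow_natCast,
    ← conj_pow]
  convert this using 1; group

variable [hp : Fact p.Prime]

theorem W.mem (h1 : W h y B k) (hk : (k : ZMod p) ≠ 1) (hn : y ∈ Nm B) (hy : y ^ p ∈ K)
    (hB : B ≤ K) (hc : ⁅h, y⁆ ∈ K) : y ∈ K := by
  refine mem_of_zpow hy (k := k - 1) ?_ (by push_cast; exact sub_ne_zero.2 hk)
  have h2 : y ^ k * ((y ^ k)⁻¹ * (h * y * h⁻¹)) * y⁻¹ ∈ K := by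
    convert hc using 1; simp only [commutatorElement_def]; group
  have := mul_mem h2 (inv_mem (hB (conj_mem_of_Nm hn h1)))
  convert this using 1; group

theorem W.fix (h1 : W h y B k) (hk : (k : ZMod p) ≠ 1) (h2 : W h y B 1) (hy : y ^ p ∈ B) : y ∈ B :=
  by_contra fun n => hk (by simpa using h1.uniq h2 n hy)

theorem cast_pow_pow (k : ℤ) (n : ℕ) : ((k ^ p ^ n : ℤ) : ZMod p) = k := by
  push_cast; exact ZMod.pow_card_pow _

variable [Finite Ω]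

/-- a power of order prime to `p` with the same weights -/
theorem exists_cop (g : Ω) : ∃ n : ℕ, (orderOf (g ^ p ^ n)).Coprime p ∧ ∀ y B k, W g y B k →
    g ∈ Nm B → y ∈ Nm B → y ^ p ∈ B → W (g ^ p ^ n) y B k := by
  obtain ⟨n, hn⟩ := exists_pow_mem_coprime (p := p) g
  exact ⟨n, hn, fun y B k w h1 h2 h3 => (W.pow w h1 h2 _).of_eq h3 (cast_pow_pow k n)⟩

/-! ### `p`-groups modulo a subgroup -/

omit hp [Finite Ω] in
theorem PMod.inf (h1 : PMod p X B) (h2 : PMod p X C) : PMod p X (B ⊓ C) := fun g hg => by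
  obtain ⟨m, hm⟩ := h1 g hg
  obtain ⟨n, hn⟩ := h2 g hg
  exact ⟨m + n, by rw [pow_add, pow_mul]; exact pow_mem hm _,
    by rw [add_comm, pow_add, pow_mul]; exact pow_mem hn _⟩

theorem PMod.tv2 (hB : IsPGroup p B) (h1 : PMod p X (Tv A B)) (h2 : PMod p X (Tv B C)) :
    PMod p X (Tv A C) := (PMod.inf h1 h2).trans (pMod_Tv hB)

theorem PMod.tvct (hB : IsPGroup p B) (h1 : PMod p X (Tv A B)) (h2 : PMod p X (Ct B)) :
    PMod p X (Ct A) := (PMod.inf h1 h2).trans (pMod_Tv_Ct hB)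

theorem PMod.mem (h1 : PMod p X C) (hg : g ∈ X) (hc : (orderOf g).Coprime p) : g ∈ C :=
  let ⟨_, hn⟩ := h1 g hg
  mem_of_coprime_of_pow_mem hc hn

theorem pMod_of_cop (h1 : ∀ g ∈ X, (orderOf g).Coprime p → g ∈ C) : PMod p X C := fun g hg =>
  let ⟨n, hn⟩ := exists_pow_mem_coprime (p := p) g
  ⟨n, h1 _ (pow_mem hg _) hn⟩

omit hp [Finite Ω] in
theorem PMod.sup (h1 : PMod p X J) (hX : X ≤ Nm J) : PMod p (X ⊔ J) J := fun g hg => by
  obtain ⟨a, ha, b, hb, rfl⟩ := (mem_sup_of_le_Nm hX).1 hg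
  obtain ⟨n, hn⟩ := h1 a ha
  have : (J.subgroupOf (Nm J)).Normal := normal_subgroupOf_of_le_normalizer le_rfl
  let π := QuotientGroup.mk' (J.subgroupOf (Nm J))
  have e : π (⟨a, hX ha⟩ * ⟨b, le_Nm J hb⟩) ^ p ^ n = 1 := by
    rw [map_mul, show π ⟨b, le_Nm J hb⟩ = 1 from (QuotientGroup.eq_one_iff _).2 hb, mul_one,
      ← map_pow]
    exact (QuotientGroup.eq_one_iff _).2 hn
  rw [← map_pow] at e
  exact ⟨n, mem_subgroupOf.1 ((QuotientGroup.eq_one_iff _).1 e)⟩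

omit hp [Finite Ω] in
theorem pMod_sup (h1 : IsPGroup p X) (hX : X ≤ Nm J) : PMod p (X ⊔ J) J :=
  PMod.sup (PMod.of_isPGroup h1 J) hX

/-! ### The Frattini subgroup -/

omit hp [Finite Ω] in
theorem nm_phi [Finite Ω] (hg : g ∈ Nm Q) : g ∈ Nm (H9.phi Q) :=
  mem_Nm_of_conj fun _ hy => H9.conj_mem_phi hg hy

theorem el_phi (hQ : IsPGroup p Q) : El p Q (H9.phi Q) :=
  ⟨H9.phi_le Q, fun _ hx => tv_of_com (nm_phi (le_Nm Q hx)) fun _ hy =>
    H9.commutator_mem_phi hQ hx hy, fun _ hy => H9.pow_mem_phi hQ hy⟩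

theorem phi_le_of_el (h1 : El p Q B) : H9.phi Q ≤ B :=
  H9.map_frattini_le_of_forall (p := p) (fun _ hx _ hy => com_of_tv (h1.ab hx) hy) h1.pw

theorem Sp.el (h1 : Sp p A B) : El p A B := ⟨h1.le, h1.tv_self, fun _ => h1.pow⟩

theorem phi_le_of_sp (h1 : Sp p Q B) : H9.phi Q ≤ B := phi_le_of_el (Sp.el h1)

omit hp in
theorem le_of_sup_phi (h1 : Q ≤ K ⊔ H9.phi Q) (h2 : K ≤ Q) : Q ≤ K :=
  (H46.eq_of_frattiniOf_sup h2 (by rw [sup_comm]; exact h1)).ge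

theorem ct_of_tv_phi (hQ : IsPGroup p Q) (hg : g ∈ Tv Q (H9.phi Q))
    (hc : (orderOf g).Coprime p) : g ∈ Ct Q := by
  obtain ⟨n, hn⟩ := IsPGroup.iff_card.1 hQ
  refine H1.le_centralizer_of_commutator_le_frattini (A := zpowers g)
    (zpowers_le.2 (Nm_of_Tv hg (H9.phi_le Q) le_rfl)) ?_ ?_ (mem_zpowers g)
  · rw [Nat.card_zpowers, hn]; exact hc.pow_right n
  · rw [commutator_comm]; exact le_of_tv (zpowers_le.2 hg)

theorem pMod_phi (hQ : IsPGroup p Q) : PMod p (Tv Q (H9.phi Q)) (Ct Q) :=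
  pMod_of_cop fun _ hg hc => ct_of_tv_phi hQ hg hc

theorem sp_of_card_le (hA : IsPGroup p A) (h1 : B ≤ A) (e : Nat.card A ≤ p * Nat.card B) :
    A = B ∨ Sp p A B :=
  h1.eq_or_lt.imp Eq.symm fun h => sp_of_le hA h e

theorem ab_of_phi (hQ : IsPGroup p Q) (e : Nat.card Q ≤ p * Nat.card (H9.phi Q)) : Q ≤ Ct Q := by
  rcases sp_of_card_le hQ (H9.phi_le Q) e with h | h
  · rw [le_bot_iff.1 (le_of_sup_phi (K := ⊥) (h.le.trans le_sup_right) bot_le)]; exact bot_le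
  · obtain ⟨y, hy, n⟩ := h.ex
    have := le_of_sup_phi (K := zpowers y) ((h.sup hy n).le.trans (sup_comm _ _).le)
      (zpowers_le.2 hy)
    exact ct_cyc (B := ⊥) (x := y) (by rw [bot_sup_eq]; exact le_antisymm this (zpowers_le.2 hy))
      (by simp)

theorem eq_phi {n : ℕ} (hs : SR p n N) (hQ : Q ≤ N) (hp' : IsPGroup p Q) (h1 : El p Q B)
    (e : Nat.card Q = p ^ n * Nat.card B) : B = H9.phi Q := by
  have := hs Q _ hQ (el_phi hp')
  rw [e] at this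
  exact (eq_of_le_of_card_ge (phi_le_of_el h1)
    (Nat.le_of_mul_le_mul_left this (pow_pos hp.out.pos n))).symm

omit hp [Finite Ω] in
theorem SR.mono {n : ℕ} (hs : SR p n N) (h1 : Q ≤ N) : SR p n Q :=
  fun A B hA h => hs A B (hA.trans h1) h

omit hp [Finite Ω] in
theorem el_bot (h1 : A ≤ Ct A) (h2 : ∀ y ∈ A, y ^ p = 1) : El p A ⊥ :=
  ⟨bot_le, fun _ hx => tv_bot.2 (h1 hx), h2⟩

omit hp [Finite Ω] in
theorem El.ct (h1 : El p A ⊥) : A ≤ Ct A := fun _ hx => tv_bot.1 (h1.ab hx)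

omit hp [Finite Ω] in
theorem El.anti (h1 : El p A B) (h2 : B ≤ C) (h3 : C ≤ A) : El p C B :=
  ⟨h2, fun _ hx => Tv_anti h3 B (h1.ab (h3 hx)), fun y hy => h1.pw y (h3 hy)⟩

omit hp in
theorem El.mono (h1 : El p A B) (h2 : B ≤ C) (h3 : C ≤ A) : El p A C :=
  ⟨h3, fun _ hx => mem_Tv_mono (h1.ab hx) h2 h3, fun y hy => h2 (h1.pw y hy)⟩

omit hp [Finite Ω] in
theorem El.cj (h1 : El p A B) (g : Ω) : El p (cj g A) (cj g B) :=
  ⟨cj_mono g h1.le, by rw [← cj_Tv]; exact cj_mono g h1.ab, fun y hy => by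
    obtain ⟨x, hx, rfl⟩ := mem_cj_iff_exists.1 hy
    rw [conj_pow]; exact conj_mem_cj g (h1.pw x hx)⟩

omit hp [Finite Ω] in
theorem SR.el {n : ℕ} (hs : SR p n N) (hA : A ≤ N) (h1 : El p A ⊥) : Nat.card A ≤ p ^ n := by
  simpa using hs A ⊥ hA h1

omit hp [Finite Ω] in
/-- a product that is abelian modulo `B` -/
theorem El.sup (h1 : El p A B) (h2 : El p C B) (h3 : A ≤ Tv C B) : El p (A ⊔ C) B := by
  have nA : A ≤ Nm B := fun _ h => (h1.ab h).1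
  have nC : C ≤ Nm B := fun _ h => (h2.ab h).1
  have t : A ⊔ C ≤ Tv (A ⊔ C) B := sup_le (fun _ h => mem_Tv_sup (h1.ab h) (h3 h) nA nC)
    fun _ h => mem_Tv_sup (tv_symm nC h3 h) (h2.ab h) nA nC
  refine ⟨h1.le.trans le_sup_left, t, fun y hy => ?_⟩
  have : (B.subgroupOf (Nm B)).Normal := normal_subgroupOf_of_le_normalizer le_rfl
  let π := QuotientGroup.mk' (B.subgroupOf (Nm B))
  let R : Subgroup Ω :=
    { carrier := {y | y ∈ A ⊔ C ∧ y ^ p ∈ B}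
      one_mem' := ⟨one_mem _, by simp⟩
      inv_mem' := fun h => ⟨inv_mem h.1, by rw [inv_pow]; exact inv_mem h.2⟩
      mul_mem' := fun {a b} ha hb => ⟨mul_mem ha.1 hb.1, by
        have c : Commute (π ⟨a, (t ha.1).1⟩) (π ⟨b, (t hb.1).1⟩) := by
          rw [← commutatorElement_eq_one_iff_commute, ← map_commutatorElement]
          exact (QuotientGroup.eq_one_iff _).2 (mem_subgroupOf.2 (com_of_tv (t ha.1) hb.1))
        have e := c.mul_pow p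
        rw [← map_mul, ← map_pow, ← map_pow, ← map_pow,
          show π (⟨a, (t ha.1).1⟩ ^ p) = 1 from (QuotientGroup.eq_one_iff _).2 ha.2,
          show π (⟨b, (t hb.1).1⟩ ^ p) = 1 from (QuotientGroup.eq_one_iff _).2 hb.2, mul_one] at e
        exact mem_subgroupOf.1 ((QuotientGroup.eq_one_iff _).1 e)⟩ }
  exact ((sup_le (fun y h => ⟨mem_sup_left h, h1.pw y h⟩) fun y h => ⟨mem_sup_right h, h2.pw y h⟩ :
    A ⊔ C ≤ R) hy).2

/-! ### Small sections -/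

theorem tv_small (hS : IsPGroup p S) (hA : A ≤ S) (h1 : B ≤ A) (n1 : S ≤ Nm A) (n2 : S ≤ Nm B)
    (e : Nat.card A ≤ p * Nat.card B) : S ≤ Tv A B := by
  rcases sp_of_card_le (hS.to_le hA) h1 e with rfl | h
  · exact fun _ hx => mem_Tv_self (n1 hx)
  · exact fun _ hx => h.tv hS hA hx (n1 hx) (n2 hx)

theorem Sp.eq_of_le (h1 : Sp p N A) (h2 : Sp p N B) (h3 : A ≤ B) : A = B :=
  (h1.eq_of' h3 h2.le h2.not_le).symm

theorem Sp.eq_of_le' (h1 : Sp p A C) (h2 : Sp p B C) (h3 : A ≤ B) : A = B :=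
  h2.eq_of h1.le h3 h1.not_le

theorem Sp.two (h1 : Sp p A B) (h2 : Sp p B C) : Nat.card A = p ^ 2 * Nat.card C := by
  rw [h1.card, h2.card]; ring

theorem Sp.three (h1 : Sp p A B) (h2 : Sp p B C) (h3 : Sp p C D) :
    Nat.card A = p ^ 3 * Nat.card D := by
  rw [h1.card, h2.card, h3.card]; ring

/-- an index `p` step from the orders -/
theorem sp_of_eq (hA : IsPGroup p A) (h1 : B ≤ A) {i j : ℕ} (e1 : Nat.card A = p ^ i * Nat.card C)
    (e2 : Nat.card B = p ^ j * Nat.card C) (e : i = j + 1) : Sp p A B :=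
  ⟨h1, hA, by rw [e1, e2, e]; ring⟩

theorem exists_idx (hA : IsPGroup p A) (h1 : B ≤ A) : ∃ i, Nat.card A = p ^ i * Nat.card B := by
  obtain ⟨i, hi⟩ := card_pow hA le_rfl
  obtain ⟨j, hj⟩ := card_pow hA h1
  obtain ⟨n, rfl⟩ := Nat.exists_eq_add_of_le (pow_le_of_le h1 hj hi)
  exact ⟨n, by rw [hi, hj]; ring⟩

theorem idx_le {i j : ℕ} (e : p ^ i * Nat.card B ≤ p ^ j * Nat.card B) : i ≤ j :=
  (Nat.pow_le_pow_iff_right hp.out.one_lt).1 (Nat.le_of_mul_le_mul_right e Nat.card_pos)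

theorem idx_lt {i j : ℕ} (e : p ^ i * Nat.card B < p ^ j * Nat.card B) : i < j :=
  (Nat.pow_lt_pow_iff_right hp.out.one_lt).1 (Nat.lt_of_mul_lt_mul_right e)

/-- a subgroup strictly between the ends of a section of order `p ^ 2` -/
theorem sp_mid' (hA : IsPGroup p A) (e : Nat.card A = p ^ 2 * Nat.card B) (l1 : B < K)
    (l2 : K < A) : Sp p A K ∧ Sp p K B := by
  obtain ⟨i, hi⟩ := card_pow hA (l1.le.trans l2.le)
  exact sp_mid hA le_rfl (by rw [e, hi]; ring) hi l1 l2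

theorem two_max (h1 : Sp p N E₁) (h2 : Sp p N E₂) (ne : E₁ ≠ E₂) :
    Sp p E₁ (E₁ ⊓ E₂) ∧ Sp p E₂ (E₁ ⊓ E₂) ∧ El p N (E₁ ⊓ E₂) ∧ N = E₁ ⊔ E₂ := by
  have n1 : ¬ E₁ ≤ E₂ := fun h => ne (Sp.eq_of_le h1 h2 h)
  have n2 : ¬ E₂ ≤ E₁ := fun h => ne (Sp.eq_of_le h2 h1 h).symm
  exact ⟨h2.inf h1.le n1, inf_comm E₁ E₂ ▸ h1.inf h2.le n2, ⟨inf_le_left.trans h1.le,
    fun _ hx => mem_Tv_inf (h1.tv_self hx) (h2.tv_self hx), fun _ hy => ⟨h1.pow hy, h2.pow hy⟩⟩,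
    (h1.eq_of le_sup_left (sup_le h1.le h2.le) fun h => n2 (le_sup_right.trans h)).symm⟩

/-- two distinct minimal steps over `B` -/
theorem two_min (h1 : Sp p P B) (h2 : Sp p Q B) (n : ¬ Q ≤ P) (hn : Q ≤ Nm P)
    (hA : IsPGroup p (P ⊔ Q :)) : Sp p (P ⊔ Q) P ∧ P ⊓ Q = B := by
  have e : P ⊓ Q = B := h2.eq_of' (le_inf h1.le h2.le) inf_le_right fun h => n (h.trans inf_le_left)
  refine ⟨⟨le_sup_left, hA, ?_⟩, e⟩
  have := card_sup_mul hn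
  rw [inf_comm, e, sup_comm, h2.card] at this
  exact Nat.eq_of_mul_eq_mul_right (Nat.card_pos (α := B)) (this.trans (by ring))

theorem exists_top (hS : IsPGroup p S) (hA : A ≤ S) (hB : B ≤ A) (n1 : S ≤ Nm A) (n2 : S ≤ Nm B)
    (h1 : ¬ A ≤ B) : ∃ C, B ≤ C ∧ Sp p A C ∧ S ≤ Tv A C ∧ S ≤ Nm C := by
  obtain ⟨C, ⟨c1, c2, c3, c4⟩, hm⟩ := (wellFounded_gt (α := Subgroup Ω)).has_min
    {C | B ≤ C ∧ C ≤ A ∧ S ≤ Nm C ∧ ¬ A ≤ C} ⟨B, le_rfl, hB, n2, h1⟩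
  obtain ⟨D, d1, d2, d3, d4⟩ := exists_step hS hA c2 n1 c3 c4
  obtain rfl : D = A := le_antisymm d2 (by_contra fun h =>
    hm D ⟨c1.trans d1.le, d2, d4, h⟩ (lt_of_le_not_ge d1.le d1.not_le))
  exact ⟨C, c1, d1, d3, c3⟩

omit hp [Finite Ω] in
theorem mem_OZ : y ∈ OZ p X ↔ y ∈ X ∧ y ∈ Ct X ∧ y ^ p = 1 := Iff.rfl

omit hp [Finite Ω] in
theorem OZ_le (p : ℕ) (X : Subgroup Ω) : OZ p X ≤ X := fun _ h => h.1

omit hp [Finite Ω] in
theorem le_Ct_OZ (p : ℕ) (X : Subgroup Ω) : X ≤ Ct (OZ p X) := le_Ct_comm.1 fun _ h => h.2.1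

omit hp [Finite Ω] in
theorem el_OZ (p : ℕ) (X : Subgroup Ω) : El p (OZ p X) ⊥ :=
  el_bot ((OZ_le p X).trans (le_Ct_OZ p X)) fun _ h => h.2.2

omit hp in
theorem nm_OZ (hg : g ∈ Nm X) : g ∈ Nm (OZ p X) :=
  mem_Nm_of_conj fun _ h => ⟨conj_mem_of_Nm hg h.1, conj_mem_Ct_of_Nm hg h.2.1,
    by rw [conj_pow, h.2.2]; simp⟩

omit hp [Finite Ω] in
theorem le_OZ (h1 : A ≤ X) (h2 : X ≤ Ct A) (h3 : ∀ y ∈ A, y ^ p = 1) : A ≤ OZ p X :=
  fun y hy => ⟨h1 hy, le_Ct_comm.1 h2 hy, h3 y hy⟩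

theorem inf_OZ_ne_bot (hN : IsPGroup p N) (h1 : U ≤ N) (h2 : N ≤ Nm U) (h3 : U ≠ ⊥) :
    U ⊓ OZ p N ≠ ⊥ := by
  obtain ⟨C, c1, c2, c3, -⟩ := exists_step hN h1 bot_le h2 (fun g _ => nm_bot g)
    fun h => h3 (le_bot_iff.1 h)
  exact fun h => c1.not_le (h ▸ le_inf c2 (le_OZ (c2.trans h1) (fun _ hx => tv_bot.1 (c3 hx))
    fun _ hy => c1.pow hy))

/-! ### Class two -/

theorem pow_mul_mod (h2 : p ≠ 2) (nu : u ∈ Nm B) (nv : v ∈ Nm B) (c1 : ⁅u, ⁅v, u⁆⁆ ∈ B)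
    (c2 : ⁅v, ⁅v, u⁆⁆ ∈ B) (c3 : ⁅v, u⁆ ^ p ∈ B) : (u ^ p * v ^ p)⁻¹ * (u * v) ^ p ∈ B := by
  have : (B.subgroupOf (Nm B)).Normal := normal_subgroupOf_of_le_normalizer le_rfl
  let π := QuotientGroup.mk' (B.subgroupOf (Nm B))
  have k1 : ∀ {x y : Nm B}, ⁅(x : Ω), (y : Ω)⁆ ∈ B → Commute (π x) (π y) := fun {x y} h => by
    rw [← commutatorElement_eq_one_iff_commute, ← map_commutatorElement]
    exact (QuotientGroup.eq_one_iff _).2 h
  have e := H9.mul_pow_of_odd (x := π ⟨u, nu⟩) (y := π ⟨v, nv⟩)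
    (by rw [← map_commutatorElement]; exact k1 c1) (by rw [← map_commutatorElement]; exact k1 c2)
    (hp.out.odd_of_ne_two h2) (by
      rw [← map_commutatorElement, ← map_pow]; exact (QuotientGroup.eq_one_iff _).2 c3)
  rw [← map_mul, ← map_pow, ← map_pow, ← map_pow, ← map_mul] at e
  exact mem_subgroupOf.1 (QuotientGroup.eq.1 e.symm)

/-- the elements of order dividing `p` that are central modulo a central `Z` of exponent `p` -/
theorem exists_om (h2 : p ≠ 2) (hZ : Z ≤ OZ p X) :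
    ∃ U : Subgroup Ω, ∀ e, e ∈ U ↔ e ∈ X ∧ e ∈ Tv X Z ∧ e ^ p = 1 :=
  ⟨{ carrier := {e | e ∈ X ∧ e ∈ Tv X Z ∧ e ^ p = 1}
     one_mem' := ⟨one_mem _, one_mem _, one_pow _⟩
     inv_mem' := fun h => ⟨inv_mem h.1, inv_mem h.2.1, by rw [inv_pow, h.2.2, inv_one]⟩
     mul_mem' := fun {a b} ha hb => ⟨mul_mem ha.1 hb.1, mul_mem ha.2.1 hb.2.1, by
      have c := hZ (com_of_tv hb.2.1 ha.1)
      have := pow_mul_mod (B := ⊥) h2 (nm_bot a) (nm_bot b) (com_symm (com_ct c.2.1 ha.1))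
        (com_symm (com_ct c.2.1 hb.1)) c.2.2
      simpa [ha.2.2, hb.2.2] using this⟩ }, fun _ => Iff.rfl⟩

omit hp in
theorem nm_om (hU : ∀ e, e ∈ U ↔ e ∈ X ∧ e ∈ Tv X Z ∧ e ^ p = 1) (h1 : g ∈ Nm X) (h2 : g ∈ Nm Z) :
    g ∈ Nm U :=
  mem_Nm_of_conj fun e he => (hU _).2 ⟨conj_mem_of_Nm h1 ((hU e).1 he).1,
    conj_mem_Tv_of_Nm h1 h2 ((hU e).1 he).2.1, by rw [conj_pow, ((hU e).1 he).2.2]; simp⟩

end H87.F3
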