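/- Sectional rank three: transvections, chief factors, and the local data `Loc`. -/
import Cfsg.Agent.H87.F3T

set_option autoImplicit false
set_option linter.unusedSectionVars false

namespace H87.F3
open Cfsg H92 H93 Subgroup H92.Es H92.P5
open scoped commutatorElement

universe u

variable {Ω : Type u} [Group Ω] {A B C D E G H J K L M N P Q S U V X Y Z : Subgroup Ω}
  {a b c e g t u v w x x' y z : Ω} {p : ℕ} {k l : ℤ} [hp : Fact p.Prime] [Finite Ω]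

/-- a transvection of a plane is transitive on the lines other than its axis -/
theorem lines (s1 : Sp p N A) (s2 : Sp p A M) (hN : N ≤ Tv N M) (t1 : g ∈ Tv N A) (t2 : g ∈ Tv A M)
    (t3 : g ∉ Tv N M) (b1 : Sp p B M) (b2 : Sp p C M) (l1 : B ≤ N) (l2 : C ≤ N) (n1 : ¬ B ≤ A)
    (n2 : ¬ C ≤ A) : ∃ i : ℕ, cj (g ^ i) B = C := by
  obtain ⟨b, hb, hb'⟩ := SetLike.not_le_iff_exists.1 n1
  obtain ⟨c, hc, hc'⟩ := SetLike.not_le_iff_exists.1 n2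
  obtain ⟨j, hj⟩ := s1.dec (l2 hc) hc' (l1 hb)
  have nM : N ≤ Nm M := fun _ h => (hN h).1
  have d1 : b⁻¹ * (g * b * g⁻¹) ∈ A := t1.2 b (l1 hb)
  have d2 : b⁻¹ * (g * b * g⁻¹) ∉ M := fun r =>
    t3 (s1.tv_of t2 nM (l1 hb) hb' (W.com (by rwa [W, zpow_one]) (nM (l1 hb))))
  have v1 : b⁻¹ * c ^ j ∈ A := by simpa using inv_mem hj
  obtain ⟨i, hi⟩ := s2.dec d1 d2 v1
  have hp0 : (p : ℤ) ≠ 0 := by exact_mod_cast hp.out.ne_zero
  obtain ⟨n, hn⟩ := Int.eq_ofNat_of_zero_le (Int.emod_nonneg i hp0)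
  have h1 := tv_pow t1 t2 (l1 hb) n
  set d := b⁻¹ * (g * b * g⁻¹)
  have h2 : (d ^ i)⁻¹ * d ^ n ∈ M := by
    have := zpow_mem (s2.pow d1) (-(i / p))
    rw [← zpow_natCast, ← zpow_mul] at this
    rw [← zpow_natCast, ← hn, Int.emod_def]
    convert this using 1; group
  have h3 : g ^ n * b * (g ^ n)⁻¹ ∈ C := by
    have := mul_mem (zpow_mem hc j) (b2.le (mul_mem (mul_mem (inv_mem hi) h2) h1))
    convert this using 1; group
  refine ⟨n, eq_of_le_of_card_ge ?_ (by rw [card_cj, b1.card, b2.card])⟩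
  rw [b1.sup hb fun r => hb' (s2.le r), cj_sup, cj_eq_of_Nm (pow_mem t2.1 n), cj_zpowers]
  exact sup_le b2.le (zpowers_le.2 h3)

/-- the conjugates of a transvection `t` with centre `P` and axis `H` in a space of dimension 3 -/
theorem gt (hA : El p A B) (nA : L ≤ Nm A) (nB : L ≤ Nm B)
    (s1 : Sp p P B) (sH : Sp p A H) (lP : P ≤ H) (t1 : t ∈ Tv A P) (t2 : t ∈ Tv H B)
    (t3 : t ∉ Tv A B) (ht : t ∈ L) (hX : ∀ e ∈ L, cj e P ≤ H → e ∈ X) (ha : a ∈ L) (ha' : a ∉ X)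
    (hc : c ∈ L) : c ∈ X ∨ ∃ i : ℕ, (t ^ i * a)⁻¹ * c ∈ X := by
  by_cases n : P ≤ cj c H
  · exact Or.inl (by simpa using inv_mem (hX c⁻¹ (inv_mem hc) (le_cj_iff_cj_le.1 n)))
  have lB : B ≤ H := s1.le.trans lP
  have lA : P ≤ A := lP.trans sH.le
  have s1' : Sp p (cj a P) B := cj_eq_of_Nm (nB ha) ▸ s1.cj a
  have lA' : cj a P ≤ A := cj_eq_of_Nm (nA ha) ▸ cj_mono a lA
  have n' : ¬ cj a P ≤ H := fun r => ha' (hX a ha r)
  have lW : P ⊔ cj a P ≤ A := sup_le lA lA'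
  obtain ⟨w1, -⟩ := two_min s1 s1' (fun r => n' (r.trans lP))
    (fun _ h => Nm_of_Tv (hA.ab (lA' h)) s1.le lA) (sH.pg.to_le lW)
  have sH' : Sp p A (cj c H) := cj_eq_of_Nm (nA hc) ▸ sH.cj c
  have lB' : B ≤ cj c H := cj_eq_of_Nm (nB hc) ▸ cj_mono c lB
  have w2 := sH'.inf lW fun r => n (le_sup_left.trans r)
  have w3 : Sp p ((P ⊔ cj a P) ⊓ cj c H) B := by
    refine ⟨le_inf (s1.le.trans le_sup_left) lB', w2.pg.to_le inf_le_left, ?_⟩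
    have := w2.card
    rw [w1.card, s1.card] at this
    exact (Nat.eq_of_mul_eq_mul_left hp.out.pos this).symm
  obtain ⟨i, hi⟩ := lines w1 s1 (hA.anti (s1.le.trans le_sup_left) lW).ab (Tv_anti lW P t1)
    (Tv_anti lP B t2) (fun r => by
      obtain ⟨y, hy, hy'⟩ := SetLike.not_le_iff_exists.1 n'
      exact t3 (sH.tv_of t2 (fun _ h => (hA.ab h).1) (lA' hy) hy' (com_of_tv r (mem_sup_right hy))))
    s1' w3 le_sup_right inf_le_left (fun r => n' (r.trans lP))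
    fun r => n ((Sp.eq_of_le' w3 s1 r).ge.trans inf_le_right)
  refine Or.inr ⟨i, ?_⟩
  have := hX (c⁻¹ * (t ^ i * a)) (mul_mem (inv_mem hc) (mul_mem (pow_mem ht i) ha)) (by
    rw [cj_mul, cj_mul, hi]; exact le_cj_iff_cj_le.1 inf_le_right)
  simpa [mul_assoc] using inv_mem this

/-- a chief factor on which `X` does not act as a `p`-group -/
theorem exists_chief (hA : IsPGroup p A) (h1 : B ≤ A) (nA : H ≤ Nm A) (nB : H ≤ Nm B)
    (n : ¬ PMod p X (Tv A B)) : ∃ A' B', B ≤ B' ∧ B' ≤ A' ∧ A' ≤ A ∧ H ≤ Nm A' ∧ H ≤ Nm B' ∧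
      Irr H A' B' ∧ ¬ PMod p X (Tv A' B') := by
  obtain ⟨A', ⟨a1, a2, a3, a4⟩, hm⟩ := (wellFounded_lt (α := Subgroup Ω)).has_min
    {C | B ≤ C ∧ C ≤ A ∧ H ≤ Nm C ∧ ¬ PMod p X (Tv C B)} ⟨A, h1, le_rfl, nA, n⟩
  obtain ⟨B', ⟨b1, b2, b3, b4⟩, hm'⟩ := (wellFounded_gt (α := Subgroup Ω)).has_min
    {C | B ≤ C ∧ C ≤ A' ∧ H ≤ Nm C ∧ ¬ PMod p X (Tv A' C)} ⟨B, le_rfl, a1, nB, a4⟩
  refine ⟨A', B', b1, b2, a2, a3, b3, fun U u1 u2 u3 => by_contra fun r => ?_, b4⟩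
  rw [not_or] at r
  refine a4 (PMod.tv2 (hA.to_le (u2.trans a2)) (by_contra fun q => ?_) (by_contra fun q => ?_))
  · exact hm' U ⟨b1.trans u1, u2, u3, q⟩ (lt_of_le_of_ne u1 (Ne.symm r.1))
  · exact hm U ⟨b1.trans u1, u2.trans a2, u3, q⟩ (lt_of_le_of_ne u2 r.2)

theorem nm_comm_of (hE : IsPGroup p E) (hz : z ∈ Nm E) (hc : (orderOf z).Coprime p) (ha : a ∈ Nm E)
    (h1 : a * z * a⁻¹ * z⁻¹ ∈ E ⊔ Ct E) : a ∈ Nm ⁅E, zpowers z⁆ := by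
  have nE : E ≤ Nm ⁅E, zpowers z⁆ := normalizer_commutator_ge_left E (zpowers z)
  have nz : z ∈ Nm ⁅E, zpowers z⁆ := mem_Nm_commutator hz (le_Nm _ (mem_zpowers z))
  have t : z ∈ Tv E ⁅E, zpowers z⁆ :=
    tv_of_com nz fun _ hy => com_symm (commutator_mem_commutator hy (mem_zpowers z))
  have lQ : ⁅E, zpowers z⁆ ≤ E := by rw [commutator_comm]; exact com_le (zpowers_le.2 hz)
  have h2 : a * z * a⁻¹ ∈ E ⊔ Tv E ⁅E, zpowers z⁆ := by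
    have l : Ct E ≤ Tv E ⁅E, zpowers z⁆ := fun g hg => mem_Tv_of_Ct hg (Ct_le_Nm _ (Ct_anti lQ hg))
    have := mul_mem (sup_le_sup_left l E h1) (mem_sup_right t)
    simpa using this
  obtain ⟨n, hn⟩ := pMod_sup hE (fun g hg => mem_Nm_Tv (le_Nm E hg) (nE hg)) _ h2
  have h3 := mem_of_coprime_of_pow_mem (by rwa [orderOf_conj']) hn
  refine mem_Nm_of_le ?_
  rw [cj_commutator, cj_eq_of_Nm ha, cj_zpowers, commutator_comm]
  exact le_of_tv (zpowers_le.2 h3)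

/-- the centre of a group of order `p ^ 4` with derived group of order `p` -/
theorem cen_p4 (hU : IsPGroup p U) (e : Nat.card U = p ^ 4) (sZ : Sp p Z ⊥) (h1 : U ≤ Ct Z)
    (h2 : U ≤ Tv U Z) (n : ¬ U ≤ Ct U) : Nat.card (U ⊓ Ct U :) = p ^ 2 := by
  obtain ⟨u, hu, hu'⟩ := SetLike.not_le_iff_exists.1 n
  have cZ : Nat.card Z = p := by simpa using sZ.card
  have s1 := sp_cen hU h1 cZ h2 hu fun r => hu' (le_Ct_comm.1 r (mem_zpowers u))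
  obtain ⟨v, hv, hv'⟩ := s1.ex
  have m : u ∈ U ⊓ Ct (zpowers u) := ⟨hu, ct_zp.2 (by simp)⟩
  have m' : u ∉ Ct (zpowers v) := fun r => hv' ⟨hv, le_Ct_comm.1 (zpowers_le.2 r) (mem_zpowers v)
    |> fun q => le_Ct_comm.1 (zpowers_le.2 (le_Ct_comm.1 (zpowers_le.2 q) (mem_zpowers u)))
      (mem_zpowers v)⟩
  have s2 := sp_cen (hU.to_le inf_le_left) (inf_le_left.trans h1) cZ
    (inf_le_left.trans h2 : U ⊓ Ct (zpowers u) ≤ _) hv fun r => m' (r m)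
  have c2 := s2.card_down (i := 2) (s1.card_down (i := 3) e)
  rw [← c2]
  congr 2
  refine le_antisymm (le_inf (le_inf inf_le_left (inf_le_right.trans (Ct_anti (zpowers_le.2 hu))))
    (inf_le_right.trans (Ct_anti (zpowers_le.2 hv)))) fun d hd => ⟨hd.1.1, ?_⟩
  have ab : U ⊓ Ct (zpowers u) ⊓ Ct (zpowers v) ≤ Ct (U ⊓ Ct (zpowers u) ⊓ Ct (zpowers v)) := by
    have : IsMulCommutative (U ⊓ Ct (zpowers u) ⊓ Ct (zpowers v) :) :=
      IsPGroup.isMulCommutative_of_card_eq_prime_sq c2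
    exact fun x hx => mem_Ct'.2 fun y hy => congrArg Subtype.val (this.1.1 ⟨y, hy⟩ ⟨x, hx⟩)
  exact s1.ct_of (s2.ct_of (ab hd) m (fun r => m' r.2) (ct_zp.1 hd.1.2)) hv hv' (ct_zp.1 hd.2)

namespace Loc
variable (h : Loc p E N L)
include h

theorem pg : IsPGroup p N := h.sp.pg

theorem pgE : IsPGroup p E := h.pg.to_le h.sp.le

theorem lE : E ≤ L := h.sp.le.trans h.le

theorem nmC : L ≤ Nm (L ⊓ Ct E) := fun _ hg => mem_Nm_inf (le_Nm L hg) (mem_Nm_Ct (h.nm hg))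

theorem pl (nJ : L ≤ Nm J) (hC : L ⊓ Ct E ≤ J) (hx : x ∈ N) (hx' : x ∉ E) (hJ : x ∈ J) :
    L ≤ E ⊔ J ∧ PMod p L J := by
  have : L ≤ E ⊔ J := h.gen _ (fun a ha => by
    rw [← cj_eq_of_Nm (mem_Nm_sup (h.nm ha) (nJ ha))]
    exact cj_mono a (h.sp.le_of le_sup_left hx hx' (mem_sup_right hJ))) (hC.trans le_sup_right)
  exact ⟨this, (pMod_sup h.pgE (h.lE.trans nJ)).mono this le_rfl⟩

theorem rad (hK : PMod p K (Ct E)) (nK : L ≤ Nm K) (hx : x ∈ N) (hxK : x ∈ K) : x ∈ E :=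
  by_contra fun hx' => h.nn (((h.pl (J := (K ⊓ L) ⊔ (L ⊓ Ct E))
    (fun _ hg => mem_Nm_sup (mem_Nm_inf (nK hg) (le_Nm L hg)) (h.nmC hg)) le_sup_right hx hx'
    (mem_sup_left ⟨hxK, h.le hx⟩)).2).trans ((PMod.sup (hK.mono inf_le_left le_rfl)
      (inf_le_right.trans (h.nm.trans (Nm_le_Nm_Ct E)))).mono (sup_le_sup_left inf_le_right _)
        le_rfl))

theorem cent (hx : x ∈ N) (hx' : x ∈ Ct E) : x ∈ E :=
  h.rad (PMod.of_le le_rfl) (h.nm.trans (Nm_le_Nm_Ct E)) hx hx'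

theorem le_of_nm (h1 : U ≤ N) (h2 : L ≤ Nm U) : U ≤ E :=
  fun _ hx => h.rad (PMod.of_isPGroup (h.pg.to_le h1) _) h2 (h1 hx) hx

theorem OZ_le : OZ p N ≤ OZ p E := fun _ hy =>
  ⟨h.cent hy.1 (Ct_anti h.sp.le hy.2.1), Ct_anti h.sp.le hy.2.1, hy.2.2⟩

theorem ct_le (h1 : B ≤ A) (lE : A ≤ E) : L ⊓ Ct E ≤ Tv A B := fun _ hg =>
  mem_Tv_of_Ct (Ct_anti lE hg.2) (Ct_le_Nm _ (Ct_anti (h1.trans lE) hg.2))

/-- if `N` acts trivially on an invariant section, so does `L` -/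
theorem tv_of_N (h1 : B ≤ A) (lE : A ≤ E) (nA : L ≤ Nm A) (nB : L ≤ Nm B) (t : N ≤ Tv A B) :
    L ≤ Tv A B :=
  h.gen _ (fun _ ha => cj_le_iff.2 fun _ hx => conj_mem_Tv_of_Nm (nA ha) (nB ha) (t hx))
    (h.ct_le h1 lE)

theorem small (h1 : B ≤ A) (lE : A ≤ E) (nA : L ≤ Nm A) (nB : L ≤ Nm B)
    (e : Nat.card A ≤ p * Nat.card B) : L ≤ Tv A B :=
  h.tv_of_N h1 lE nA nB (tv_small h.pg (lE.trans h.sp.le) h1 (h.le.trans nA) (h.le.trans nB) e)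

theorem small' (s : Sp p A B) (lE : A ≤ E) (nA : L ≤ Nm A) (nB : L ≤ Nm B) : L ≤ Tv A B :=
  h.small s.le lE nA nB s.card.le

theorem mul (nJ : L ≤ Nm J) (hC : L ⊓ Ct E ≤ J) (hJ : PMod p L J) : L ≤ N ⊔ J := fun a ha => by
  obtain ⟨x, hx, n, hn, rfl⟩ := h.syl.exists_mul nJ hJ ha
  exact mul_mem (sup_le_sup_left hC N hx) (mem_sup_right hn)

theorem nm_of_pMod (lE : A ≤ E) (nA : L ≤ Nm A) (nB : L ≤ Nm B) (hJ : PMod p L (Tv A B))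
    (h1 : B ≤ U) (h2 : U ≤ A) (h3 : N ≤ Nm U) : L ≤ Nm U :=
  (h.mul (fun _ hg => mem_Nm_Tv (nA hg) (nB hg)) (h.ct_le (h1.trans h2) lE) hJ).trans
    (sup_le h3 fun _ hg => Nm_of_Tv hg h1 h2)

theorem nm_of_pMod_ct (lE : A ≤ E) (nA : L ≤ Nm A) (hJ : PMod p L (Ct A)) (h2 : U ≤ A)
    (h3 : N ≤ Nm U) : L ≤ Nm U :=
  h.nm_of_pMod lE nA (fun g _ => nm_bot g) (by rwa [Tv_bot]) bot_le h2 h3

theorem pp (hC : L ⊓ Ct E ≤ J) : PP p (N ⊔ (L ⊓ J)) L :=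
  h.syl.mono_left (sup_le_sup_left (le_inf inf_le_left hC) N) (sup_le h.le inf_le_left)

/-- `N J / J` has order `p` and is a Sylow subgroup -/
theorem se (nJ : L ≤ Nm J) (hE : E ≤ J) (hC : L ⊓ Ct E ≤ J) (hY : Y ≤ L) (hp' : PMod p Y J)
    (hx : x ∈ N) (hxY : x ∈ Y) (hx' : x ∉ J) : Y ≤ N ⊔ (L ⊓ J) := by
  have nJ' : L ≤ Nm (L ⊓ J) := fun _ hg => mem_Nm_inf (le_Nm L hg) (nJ hg)
  obtain ⟨b, hb, e⟩ := (h.pp hC).exists_cj_le_mod le_sup_right nJ'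
    (PMod.inf (PMod.of_le hY) hp') hY
  have xE : x ∉ E := fun r => hx' (hE r)
  have R : N ⊔ (L ⊓ J) = zpowers x ⊔ (L ⊓ J) := le_antisymm (sup_le (h.sp.le_of
    ((le_inf h.lE hE).trans le_sup_right) hx xE (mem_sup_left (mem_zpowers x))) le_sup_right)
    (sup_le_sup_right (zpowers_le.2 hx) _)
  have m := e (conj_mem_cj b hxY)
  rw [R] at m
  obtain ⟨_, ⟨i, rfl⟩, j, hj, e'⟩ := (mem_sup_of_le_Nm ((zpowers_le.2 (h.le hx)).trans nJ')).1 m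
  have l : L ⊓ J ≤ cj b (N ⊔ (L ⊓ J)) :=
    (cj_eq_of_Nm (nJ' hb)).ge.trans (cj_mono b le_sup_right)
  replace e' : x ^ i * j = b * x * b⁻¹ := e'
  have hi : (i : ZMod p) ≠ 0 := fun r => by
    obtain ⟨n, rfl⟩ := (ZMod.intCast_zmod_eq_zero_iff_dvd i p).1 r
    have : b * x * b⁻¹ ∈ J := by
      rw [← e', zpow_mul, zpow_natCast]
      exact mul_mem (zpow_mem (hE (h.sp.pow hx)) n) hj.2
    exact hx' (by simpa [mul_assoc] using conj_mem_of_Nm' (nJ hb) this)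
  have m1 : x ^ i ∈ cj b (N ⊔ (L ⊓ J)) := by
    have := mul_mem (conj_mem_cj b (mem_sup_left hx : x ∈ N ⊔ (L ⊓ J))) (inv_mem (l hj))
    rwa [← e', mul_inv_cancel_right] at this
  have m2 : x ∈ cj b (N ⊔ (L ⊓ J)) :=
    mem_of_zpow (l (mem_inf.2 ⟨h.le (pow_mem hx p), hE (h.sp.pow hx)⟩)) m1 hi
  have e2 : N ⊔ (L ⊓ J) = cj b (N ⊔ (L ⊓ J)) := eq_of_le_of_card_ge
    (R.le.trans (sup_le (zpowers_le.2 m2) l)) (card_cj b _).le
  exact cj_le_cj.1 (e.trans e2.le)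

/-- a normal subgroup that is a `p`-group modulo `J` -/
theorem le_of_normal (nJ : L ≤ Nm J) (hE : E ≤ J) (hC : L ⊓ Ct E ≤ J) (n : ¬ PMod p L J)
    (hY : Y ≤ L) (nY : L ≤ Nm Y) (hp' : PMod p Y J) : Y ≤ J := fun y hy => by
  have nJ' : L ≤ Nm (L ⊓ J) := fun _ hg => mem_Nm_inf (le_Nm L hg) (nJ hg)
  obtain ⟨x, hx, j, hj, rfl⟩ := (mem_sup_of_le_Nm (h.le.trans nJ')).1 ((h.pp hC).le_of_normal
    le_sup_right nJ' (PMod.inf (PMod.of_le hY) hp') hY nY hy)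
  by_cases xE : x ∈ E
  · exact mul_mem (hE xE) hj.2
  refine absurd ((h.pl (J := Y ⊔ J) (fun _ hg => mem_Nm_sup (nY hg) (nJ hg))
    (hC.trans le_sup_right) hx xE ?_).2.trans (PMod.sup hp' (hY.trans nJ))) n
  simpa using mul_mem (mem_sup_left hy : x * j ∈ Y ⊔ J) (inv_mem (mem_sup_right hj.2))

theorem nn' : ¬ PMod p L (E ⊔ Ct E) := fun r =>
  h.nn (r.trans (pMod_sup h.pgE ((le_Nm E).trans (Nm_le_Nm_Ct E))))

theorem le_sup_of_normal (hY : Y ≤ L) (nY : L ≤ Nm Y) (hp' : PMod p Y (Ct E)) : Y ≤ E ⊔ Ct E :=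
  h.le_of_normal (fun _ hg => mem_Nm_sup (h.nm hg) (mem_Nm_Ct (h.nm hg))) le_sup_left
    (inf_le_right.trans le_sup_right) h.nn' hY nY (hp'.mono le_rfl le_sup_right)

/-- an opposite Sylow subgroup modulo `J` -/
theorem exists_opp' (nJ : L ≤ Nm J) (hE : E ≤ J) (hC : L ⊓ Ct E ≤ J) (n : ¬ PMod p L J) :
    ∃ a ∈ L, a ∉ Nm (N ⊔ (L ⊓ J)) ∧ ∀ K x x', PMod p K J → x ∈ N → x ∉ E → x' ∈ N → x' ∉ E →
      x ∈ K → a * x' * a⁻¹ ∉ K := by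
  have nJ' : L ≤ Nm (L ⊓ J) := fun _ hg => mem_Nm_inf (le_Nm L hg) (nJ hg)
  obtain ⟨a, ha, ha'⟩ : ∃ a ∈ L, a ∉ Nm (N ⊔ (L ⊓ J)) := by
    by_contra! r
    refine n (((pMod_sup h.pg (h.le.trans nJ')).mono (h.gen _ (fun a ha => ?_)
      ((le_inf inf_le_left hC).trans le_sup_right)) le_rfl).mono le_rfl inf_le_right)
    rw [← cj_eq_of_Nm (r a ha)]; exact cj_mono a le_sup_left
  refine ⟨a, ha, ha', fun K x x' hK hx xE hx' xE' xK r => ha' (mem_Nm_of_le ?_)⟩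
  have m := h.se nJ hE hC (Y := K ⊓ L) inf_le_right (hK.mono inf_le_left le_rfl) hx ⟨xK, h.le hx⟩
    (fun q => n (h.pl nJ hC hx xE q).2)
    (mem_inf.2 ⟨r, mul_mem (mul_mem ha (h.le hx')) (inv_mem ha)⟩)
  rw [cj_sup, cj_eq_of_Nm (nJ' ha), h.sp.sup hx' xE', cj_sup, cj_eq_of_Nm (h.nm ha), cj_zpowers,
    ← h.sp.sup hx' xE']
  exact sup_le (sup_le (h.sp.le.trans le_sup_left) (zpowers_le.2 m)) le_sup_right

theorem exists_opp : ∃ a ∈ L, ∀ K x x', PMod p K (Ct E) → x ∈ N → x ∉ E → x' ∈ N → x' ∉ E →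
    x ∈ K → a * x' * a⁻¹ ∉ K := by
  obtain ⟨a, ha, -, H⟩ := h.exists_opp' (fun _ hg => mem_Nm_sup (h.nm hg) (mem_Nm_Ct (h.nm hg)))
    le_sup_left (inf_le_right.trans le_sup_right) h.nn'
  exact ⟨a, ha, fun K x x' hK => H K x x' (hK.mono le_rfl le_sup_right)⟩

theorem irr_two (lE : A ≤ E) (nA : L ≤ Nm A) (nB : L ≤ Nm B)
    (e : Nat.card A = p ^ 2 * Nat.card B) (n : ¬ PMod p L (Tv A B)) : Irr L A B :=
  fun U u1 u2 u3 => by_contra fun r => by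
    rw [not_or] at r
    obtain ⟨s1, s2⟩ := sp_mid' (h.pgE.to_le lE) e (lt_of_le_of_ne u1 (Ne.symm r.1))
      (lt_of_le_of_ne u2 r.2)
    exact n (PMod.tv2 s2.pg (PMod.of_le (h.small' s1 lE nA u3))
      (PMod.of_le (h.small' s2 (u2.trans lE) u3 nB)))

/-- a section on which `L` does not act as a `p`-group has order at least `p ^ 2` -/
theorem lt_of_not (h1 : B ≤ A) (lE : A ≤ E) (nA : L ≤ Nm A) (nB : L ≤ Nm B)
    (n : ¬ PMod p L (Tv A B)) : p * Nat.card B < Nat.card A :=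
  not_le.1 fun e => n (PMod.of_le (h.small h1 lE nA nB e))

theorem not_phi : ¬ PMod p L (Tv E (H9.phi E)) := fun r => h.nn (r.trans (pMod_phi h.pgE))

theorem sec_phi (h1 : H9.phi E ≤ A) (lE : A ≤ E) (nA : L ≤ Nm A) : Sec p E L A (H9.phi E) :=
  ⟨h1, lE, nA, fun _ hg => nm_phi (h.nm hg), fun _ hg => Tv_anti lE _ ((el_phi h.pgE).ab hg),
    fun y hy => (el_phi h.pgE).pw y (lE hy)⟩

theorem sec_OZ : Sec p E L (OZ p E) ⊥ :=
  ⟨bot_le, F3.OZ_le p E, fun _ hg => nm_OZ (h.nm hg), fun g _ => nm_bot g,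
    le_tv_bot (le_Ct_OZ p E), (el_OZ p E).pw⟩

theorem ct_of_nm_OZ (h1 : L ≤ Nm (OZ p N)) : L ≤ Ct (OZ p N) := fun _ hg =>
  tv_bot.1 (h.tv_of_N bot_le (h.OZ_le.trans (F3.OZ_le p E)) h1 (fun g _ => nm_bot g)
    (le_tv_bot (le_Ct_OZ p N)) hg)

/-- an elementary abelian subgroup of order `p ^ 3` with `[A, E] = Z` forces `Z` to be normal -/
theorem trick (hs : SR p 3 N) (sZ : Sp p Z ⊥) (hA : El p A ⊥) (lE : A ≤ E)
    (e : Nat.card A = p ^ 3) (t : E ≤ Tv A Z) (n : ¬ E ≤ Ct A) : L ≤ Nm Z := fun b hb => by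
  by_contra hb'
  have sZ' : Sp p (cj b Z) ⊥ := by simpa using sZ.cj b
  have z0 : Z ⊓ cj b Z = ⊥ := sZ.eq_of' bot_le inf_le_left fun r =>
    hb' (mem_Nm.2 (Sp.eq_of_le' sZ sZ' (r.trans inf_le_right)).symm)
  have lE' : cj b A ≤ E := cj_eq_of_Nm (h.nm hb) ▸ cj_mono b lE
  have t' : E ≤ Tv (cj b A) (cj b Z) := by
    rw [← cj_Tv, ← cj_eq_of_Nm (h.nm hb)]; exact cj_mono b t
  have c : A ≤ Tv (cj b A) ⊥ := fun y hy => tv_of_com (nm_bot y) fun w hw =>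
    z0 ▸ ⟨com_symm (com_of_tv (t (lE' hw)) hy), com_of_tv (t' (lE hy)) hw⟩
  have e2 : A = A ⊔ cj b A := eq_of_le_of_card_ge le_sup_left (e ▸ hs.el
    ((sup_le lE lE').trans h.sp.le) (hA.sup (by simpa using hA.cj b) c))
  have nA : b ∈ Nm A := mem_Nm_of_le (le_sup_right.trans e2.ge)
  have e3 : ⁅E, A⁆ = Z := sZ.eq_of bot_le (le_of_tv t) fun r =>
    n fun _ hg => tv_bot.1 (tv_of_le (fun g _ => nm_bot g) r hg)
  exact hb' (e3 ▸ mem_Nm_commutator (h.nm hb) nA)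

theorem cj (g : Ω) : Loc p (cj g E) (cj g N) (cj g L) where
  sp := h.sp.cj g
  le := cj_mono g h.le
  nm := by rw [← cj_Nm]; exact cj_mono g h.nm
  syl := by have := h.syl.conj g; rwa [cj_sup, cj_inf, cj_Ct] at this
  gen := fun K h1 h2 => cj_le_iff_le_cj.2 (h.gen _ (fun a ha => by
      have := h1 _ (conj_mem_cj g ha)
      rw [← cj_mul, inv_mul_cancel_right, cj_mul] at this
      exact cj_le_iff_le_cj.1 this) (by
      rw [← cj_Ct, ← cj_inf] at h2; exact cj_le_iff_le_cj.1 h2))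
  nn := fun r => h.nn (by simpa [cj_Ct] using r.conj g⁻¹)

end Loc

theorem Ext.cj (h : Ext E N L G) (g : Ω) : Ext (cj g E) (cj g N) (cj g L) (cj g G) where
  nm := by rw [← cj_Nm]; exact cj_mono g h.nm
  ext := fun a ha hn => by
    obtain ⟨a', ha', rfl⟩ := mem_cj_iff_exists.1 ha
    rw [← cj_Ct, ← cj_inf, ← cj_sup, ← cj_Nm, conj_mem_cj_iff] at hn
    obtain ⟨b, hb, e⟩ := h.ext a' ha' hn
    refine ⟨g * b * g⁻¹, ⟨conj_mem_cj g hb.1, conj_mem_cj g hb.2⟩, ?_⟩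
    have := conj_mem_Ct_cj g e
    convert this using 1; group
  gl := by rw [← cj_Nm, ← cj_Nm, ← cj_inf]; exact cj_mono g h.gl

end H87.F3
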