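import Cfsg.Agent.H82.FSSpec
import Cfsg.Agent.H98.Core

/-! Tower FS, slot RedA. -/

set_option autoImplicit false

namespace H87.FsRedA

open Cfsg Subgroup H82.FS
open scoped commutatorElement

universe u

section General

variable {G : Type u} [Group G]

theorem cbr [Finite G] {r : ℕ} [hr : Fact r.Prime] (N : Subgroup G) [N.Normal]
    (h : ∀ n ∈ N, ∃ k : ℕ, n ^ r ^ k ∈ center G) : N ≤ pCore r G ⊔ center G := by
  have hP : IsPGroup r (N.map (QuotientGroup.mk' (center G))) := by
    rintro ⟨_, x, hx, rfl⟩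
    obtain ⟨k, hk⟩ := h x hx
    refine ⟨k, Subtype.ext ?_⟩
    change (QuotientGroup.mk' (center G) x) ^ r ^ k = 1
    rw [← map_pow, QuotientGroup.mk'_apply, QuotientGroup.eq_one_iff]
    exact hk
  have := hP.isNilpotent
  have hnil : Group.IsNilpotent N :=
    Subgroup.isNilpotent_of_ker_le_center ((QuotientGroup.mk' (center G)).subgroupMap N) (by
      intro x hx
      have h1 : (x : G) ∈ center G :=
        (QuotientGroup.eq_one_iff _).mp (congrArg Subtype.val (MonoidHom.mem_ker.mp hx))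
      rw [mem_center_iff]
      intro y
      exact Subtype.ext (mem_center_iff.mp h1 y))
  intro n hn
  obtain ⟨k, hk⟩ := h n hn
  obtain ⟨a, b, hb, hab⟩ :=
    Nat.exists_eq_pow_mul_and_not_dvd (orderOf_pos n).ne' r hr.out.ne_one
  have hu : IsPGroup r (zpowers ((⟨n, hn⟩ : N) ^ b)) := by
    rintro ⟨_, i, rfl⟩
    refine ⟨a, Subtype.ext (Subtype.ext ?_)⟩
    change ((n ^ b) ^ i) ^ r ^ a = 1
    rw [← zpow_natCast, ← zpow_mul, mul_comm, zpow_mul, zpow_natCast, ← pow_mul, mul_comm, ← hab,
      pow_orderOf_eq_one, one_zpow]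
  obtain ⟨S, hS⟩ := hu.exists_le_sylow
  have hSn : (S : Subgroup N).Normal :=
    Sylow.normal_of_normalizerCondition Group.normalizerCondition_of_isNilpotent S
  have h1 : n ^ b ∈ pCoreOf r N :=
    ⟨_, H2.le_pCore S.isPGroup' (hS (mem_zpowers _)), rfl⟩
  have h2 : n ^ b ∈ pCore r G := by
    rw [← H98.pCoreOf_top]
    exact H98.pCoreOf_le_pCoreOf_of_normal le_top (by rw [normalizer_eq_top]) h1
  have hc : Nat.gcd b (r ^ k) = 1 :=
    Nat.Coprime.pow_right k ((Nat.Prime.coprime_iff_not_dvd hr.out).mpr hb).symm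
  have h3 : n = (n ^ b) ^ Nat.gcdA b (r ^ k) * (n ^ r ^ k) ^ Nat.gcdB b (r ^ k) := by
    rw [← zpow_natCast, ← zpow_natCast, ← zpow_mul, ← zpow_mul, ← zpow_add, ← Nat.gcd_eq_gcd_ab, hc]
    simp
  rw [h3]
  exact mul_mem (zpow_mem (mem_sup_left h2) _) (zpow_mem (mem_sup_right hk) _)

theorem comm_le_of_sup {N A H : Subgroup G} [N.Normal] (hA : A ≤ centralizer (A : Set G))
    (h : H ≤ N ⊔ A) : ⁅H, H⁆ ≤ N := by
  rw [commutator_le]
  intro x hx y hy
  obtain ⟨n, hn, a, ha, rfl⟩ := mem_sup_of_normal_left.mp (h hx)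
  obtain ⟨m, hm, b, hb, rfl⟩ := mem_sup_of_normal_left.mp (h hy)
  rw [← QuotientGroup.eq_one_iff, ← QuotientGroup.mk'_apply, map_commutatorElement, map_mul, map_mul,
    QuotientGroup.mk'_apply N n, QuotientGroup.mk'_apply N m, (QuotientGroup.eq_one_iff n).mpr hn,
    (QuotientGroup.eq_one_iff m).mpr hm, one_mul, one_mul, ← map_commutatorElement,
    commutatorElement_eq_one_iff_mul_comm.mpr (hA hb a ha), map_one]

theorem eq_top_of_normal {A K : Subgroup G} (hg : normalClosure (A : Set G) = ⊤) [K.Normal]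
    (h : A ≤ K) : K = ⊤ :=
  top_le_iff.mp (hg ▸ normalClosure_le_normal h)

theorem comm_all {A M O : Subgroup G} (hg : normalClosure (A : Set G) = ⊤) [M.Normal] [O.Normal]
    (h : ∀ m ∈ M, ∀ a ∈ A, ⁅m, a⁆ ∈ O) : ∀ m ∈ M, ∀ g : G, ⁅m, g⁆ ∈ O := by
  have hn : (M.map (QuotientGroup.mk' O)).Normal :=
    Subgroup.Normal.map inferInstance _ (QuotientGroup.mk'_surjective O)
  have hK : (centralizer (M.map (QuotientGroup.mk' O) : Set (G ⧸ O))).comap
      (QuotientGroup.mk' O) = ⊤ := by
    apply eq_top_of_normal hg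
    rintro a ha _ ⟨m, hm, rfl⟩
    rw [← commutatorElement_eq_one_iff_mul_comm, ← map_commutatorElement, QuotientGroup.mk'_apply,
      QuotientGroup.eq_one_iff]
    exact h m hm a ha
  intro m hm g
  have h1 : g ∈ (centralizer (M.map (QuotientGroup.mk' O) : Set (G ⧸ O))).comap
      (QuotientGroup.mk' O) := hK ▸ mem_top g
  have h2 := h1 _ ⟨m, hm, rfl⟩
  rwa [← commutatorElement_eq_one_iff_mul_comm, ← map_commutatorElement, QuotientGroup.mk'_apply,
    QuotientGroup.eq_one_iff] at h2

theorem le_center_of {A M : Subgroup G} (hg : normalClosure (A : Set G) = ⊤) [M.Normal]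
    (h : ∀ m ∈ M, ∀ a ∈ A, ⁅m, a⁆ = 1) : M ≤ center G := by
  intro m hm
  rw [mem_center_iff]
  intro g
  have := comm_all (O := ⊥) hg (fun m hm a ha => mem_bot.mpr (h m hm a ha)) m hm g
  exact (commutatorElement_eq_one_iff_mul_comm.mp (mem_bot.mp this)).symm

theorem commutator_sup {A : Subgroup G} (hg : normalClosure (A : Set G) = ⊤) :
    commutator G ⊔ A = ⊤ := by
  have : (commutator G ⊔ A).Normal := ⟨fun x hx g => by
    have : g * x * g⁻¹ = ⁅g, x⁆ * x := by rw [commutatorElement_def]; group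
    rw [this]
    exact mul_mem (mem_sup_left (commutator_mem_commutator (mem_top g) (mem_top x))) hx⟩
  exact eq_top_of_normal hg le_sup_right

theorem commutator_comm_eq {A : Subgroup G} (hg : normalClosure (A : Set G) = ⊤)
    (hA : A ≤ centralizer (A : Set G)) : ⁅commutator G, A⁆ = commutator G := by
  have hn : (⁅commutator G, A⁆ : Subgroup G).Normal := by
    rw [← normalizer_eq_top_iff, eq_top_iff, ← commutator_sup hg]
    exact sup_le (normalizer_commutator_ge_left _ _) (normalizer_commutator_ge_right _ _)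
  refine le_antisymm (commutator_le_left _ _) ?_
  have h1 := comm_all (M := commutator G) (O := ⁅commutator G, A⁆) hg
    (fun m hm a ha => commutator_mem_commutator hm ha)
  rw [_root_.commutator_def, commutator_le]
  intro x _ y _
  obtain ⟨n, hn, a, ha, rfl⟩ :=
    mem_sup_of_normal_left.mp ((commutator_sup hg).symm ▸ mem_top x : x ∈ commutator G ⊔ A)
  obtain ⟨m, hm, b, hb, rfl⟩ :=
    mem_sup_of_normal_left.mp ((commutator_sup hg).symm ▸ mem_top y : y ∈ commutator G ⊔ A)
  have key : ∀ m ∈ commutator G, ∀ g : G,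
      Commute (QuotientGroup.mk' ⁅commutator G, A⁆ m) (QuotientGroup.mk' ⁅commutator G, A⁆ g) := by
    intro m hm g
    rw [← commutatorElement_eq_one_iff_commute, ← map_commutatorElement, QuotientGroup.mk'_apply,
      QuotientGroup.eq_one_iff]
    exact h1 m hm g
  rw [← _root_.commutator_def, ← QuotientGroup.eq_one_iff, ← QuotientGroup.mk'_apply, map_commutatorElement,
    commutatorElement_eq_one_iff_commute, map_mul]
  refine Commute.mul_left (key n hn _) ?_
  rw [map_mul]
  refine Commute.mul_right (key m hm _).symm ?_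
  exact Commute.map (hA hb a ha) _

end General

section Main

variable {G : Type u} [Group G] [Finite G] {p r : ℕ} {A : Subgroup G}

theorem le_cen (hL : Lin p r A) : A ≤ centralizer (A : Set G) := by
  have := Fact.mk hL.hp
  have : IsCyclic A := isCyclic_of_prime_card hL.card
  intro a ha b hb
  exact congrArg Subtype.val (mul_comm' (⟨b, hb⟩ : A) ⟨a, ha⟩)

theorem mem_cj {g x : G} {H : Subgroup G} : x ∈ cj g H ↔ ∃ a ∈ H, g * a * g⁻¹ = x := Iff.rfl

theorem card_cj (g : G) (H : Subgroup G) : Nat.card (cj g H) = Nat.card H :=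
  card_map_of_injective (MulAut.conj g).injective

theorem eq_of_comm (hL : Lin p r A) {g : G} (h : cj g A ≤ centralizer (A : Set G)) :
    cj g A = A := by
  have hB : cj g A ≤ centralizer (cj g A : Set G) := by
    rintro _ ⟨a, ha, rfl⟩ _ ⟨b, hb, rfl⟩
    rw [← map_mul, ← map_mul, le_cen hL ha b hb]
  have h1 : ln A g ≤ centralizer (A : Set G) := sup_le (le_cen hL) h
  have h2 : ln A g ≤ centralizer (cj g A : Set G) := sup_le (le_centralizer_iff.mp h) hB
  have h3 : kl A g = ⊥ :=
    commutator_eq_bot_iff_le_centralizer.mpr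
      (sup_le (le_centralizer_iff.mp h1) (le_centralizer_iff.mp h2))
  have h4 := hL.sub g
  rw [h3, bot_sup_eq] at h4
  exact eq_of_le_of_card_ge h4 (card_cj g A).ge

theorem inf_eq_bot (hL : Lin p r A) {M : Subgroup G} (h : ¬ A ≤ M) {a : G} (ha : a ∈ A)
    (hM : a ∈ M) : a = 1 := by
  have := Fact.mk (hL.card ▸ hL.hp : (Nat.card A).Prime)
  rcases (M.subgroupOf A).eq_bot_or_eq_top_of_prime_card with h1 | h1
  · have : (⟨a, ha⟩ : A) ∈ M.subgroupOf A := hM
    rw [h1] at this
    exact congrArg Subtype.val (mem_bot.mp this)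
  · exact absurd (subgroupOf_eq_top.mp h1) h

theorem comm_mem_of_cj {g a : G} (h : cj g A = A) (ha : a ∈ A) : ⁅g, a⁆ ∈ A := by
  rw [commutatorElement_def]
  exact mul_mem (h ▸ mem_cj.mpr ⟨a, ha, rfl⟩ : g * a * g⁻¹ ∈ A) (inv_mem ha)

theorem le_center_of_comm (hL : Lin p r A) (hZ : ¬ A ≤ center G) {M : Subgroup G} [M.Normal]
    (h : ∀ m ∈ M, ∀ g : G, ⁅m, g⁆ ∈ center G) : M ≤ center G := by
  refine le_center_of hL.gen (fun m hm a ha => ?_)
  have h1 : cj m A = A := by
    apply eq_of_comm hL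
    rintro _ ⟨b, hb, rfl⟩
    have : (MulAut.conj m).toMonoidHom b = ⁅m, b⁆ * b := by
      rw [commutatorElement_def]
      simp
    rw [this]
    exact mul_mem (center_le_centralizer _ (h m hm b)) (le_cen hL hb)
  exact inf_eq_bot hL hZ (comm_mem_of_cj h1 ha) (h m hm a)

theorem r0 (hL : Lin p r A) (hloc : Loc r A) {M : Subgroup G} [M.Normal] (hM : M ⊔ A ≠ ⊤) :
    ∀ m ∈ M, ∀ g : G, ⁅m, g⁆ ∈ pCore r G := by
  have := Cfsg.pCore_normal r G
  have hAM : ¬ A ≤ M := fun h => hM (by rw [eq_top_of_normal hL.gen h, top_sup_eq])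
  obtain ⟨R, hR, hRH, hHN, hpt⟩ := hloc (M ⊔ A) hM le_sup_right
  have hT : R ⊓ M ≤ pCore r G := by
    rw [← H98.pCoreOf_top]
    refine le_trans (H98.le_pCoreOf (hR.1.to_le inf_le_left) inf_le_right ?_)
      (H98.pCoreOf_le_pCoreOf_of_normal le_top (by rw [normalizer_eq_top]))
    exact le_trans (le_inf (le_sup_left.trans hHN) le_normalizer) (inf_normalizer_le_normalizer_inf)
  refine comm_all hL.gen (fun m hm a ha => hT ⟨?_, ?_⟩)
  · obtain ⟨y, hy, hmy⟩ := hpt m (by
      rintro _ ⟨b, hb, rfl⟩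
      exact mul_mem (mul_mem (mem_sup_left hm) (mem_sup_right hb)) (inv_mem (mem_sup_left hm)))
    obtain ⟨a', ha', h1⟩ : m * a * m⁻¹ ∈ cj y A := hmy ▸ mem_cj.mpr ⟨a, ha, rfl⟩
    change y * a' * y⁻¹ = _ at h1
    obtain ⟨n, hn, b, hb, hnb⟩ := mem_sup_of_normal_left.mp (hRH hy)
    have h2 : a' * a⁻¹ = 1 := by
      refine inf_eq_bot hL hAM (mul_mem ha' (inv_mem ha)) ?_
      have h3 : b * a' = a' * b := le_cen hL ha' b hb
      have h4 : a' = n⁻¹ * (m * a * m⁻¹) * n := by
        rw [← h1, ← hnb, mul_assoc n b a', h3]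
        group
      have h5 : a' * a⁻¹ = n⁻¹ * m * (a * (m⁻¹ * n) * a⁻¹) := by
        rw [h4]
        group
      rw [h5]
      exact mul_mem (mul_mem (inv_mem hn) hm)
        (Subgroup.Normal.conj_mem inferInstance _ (mul_mem (inv_mem hm) hn) a)
    rw [mul_inv_eq_one] at h2
    subst h2
    have h6 : ⁅m, a'⁆ = y * (a' * y⁻¹ * a'⁻¹) := by
      rw [commutatorElement_def, ← h1]
      group
    change ⁅m, a'⁆ ∈ R
    rw [h6]
    exact mul_mem hy ((mem_normalizer_iff.mp (hR.2.1 ha) _).mp (inv_mem hy))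
  · exact commutator_le_left M ⊤ (commutator_mem_commutator hm (mem_top a))

end Main

theorem jobRedA : H82.FS.JobRedA.{u} := by
  intro hHol G _ _ p r A hU hAn hTR hCls hloc hno
  have hL := hU.lin
  have hr := Fact.mk hL.hr
  have hOn := Cfsg.pCore_normal r G
  have hO : IsPGroup r (pCore r G) := H98.isPGroup_pCore r G
  have hAn' : ¬ A.Normal := fun h => hno ⟨⊥, ⟨IsPGroup.of_bot, by rw [normalizer_eq_top]; exact le_top,
    commutator_bot_left _⟩, by rw [bot_sup_eq]; exact eq_top_of_normal hL.gen le_rfl⟩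
  have hZ : ¬ A ≤ center G := fun h => hAn' ⟨fun a ha g => by
    rw [mem_center_iff.mp (h ha) g, mul_inv_cancel_right]
    exact ha⟩
  have hG' : ¬ commutator G ≤ pCore r G := fun h => hno ⟨commutator G,
    ⟨hO.to_le h, by rw [normalizer_eq_top]; exact le_top, commutator_comm_eq hL.gen (le_cen hL)⟩,
    commutator_sup hL.gen⟩
  have hC : commutator G ⊓ centralizer (pCore r G : Set G) ⊔ A = ⊤ := by
    by_contra hC
    apply hG'
    have h1 := r0 hL hloc hC
    let π := QuotientGroup.mk' (pCore r G)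
    have hπ : Function.Surjective π := QuotientGroup.mk'_surjective _
    have hn : ((commutator G).map π).Normal := Subgroup.Normal.map inferInstance _ hπ
    have h2 : (commutator G).map π ≤ pCore r (G ⧸ pCore r G) ⊔ center (G ⧸ pCore r G) := by
      apply cbr
      rintro _ ⟨x, hx, rfl⟩
      obtain ⟨k, hk⟩ := H98.exists_pow_coprime (p := r) (isOfFinOrder_of_finite x)
      refine ⟨k, ?_⟩
      rw [← map_pow, mem_center_iff]
      intro y
      obtain ⟨y, rfl⟩ := hπ y
      have h3 := h1 (x ^ r ^ k)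
        ⟨pow_mem hx _, hHol G p r A hU hTR hCls _ hOn hO _ (pow_mem hx _) hk⟩ y
      symm
      rw [← commutatorElement_eq_one_iff_mul_comm, ← map_commutatorElement, QuotientGroup.mk'_apply,
        QuotientGroup.eq_one_iff]
      exact h3
    have h4 : pCore r (G ⧸ pCore r G) = ⊥ := by
      have := Cfsg.pCore_normal r (G ⧸ pCore r G)
      have h5 : (pCore r (G ⧸ pCore r G)).comap π ≤ pCore r G :=
        H2.le_pCore ((H98.isPGroup_pCore r _).comap_of_ker_isPGroup π
          (by rw [QuotientGroup.ker_mk']; exact hO))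
      rw [← map_comap_eq_self_of_surjective hπ (pCore r (G ⧸ pCore r G)), Subgroup.map_eq_bot_iff,
        QuotientGroup.ker_mk']
      exact h5
    rw [h4, bot_sup_eq] at h2
    have key : ∀ m ∈ commutator G, ∀ g : G, Commute (π m) (π g) := fun m hm g =>
      (mem_center_iff.mp (h2 (mem_map_of_mem π hm)) (π g)).symm
    rw [_root_.commutator_def, commutator_le]
    intro x _ y _
    obtain ⟨n, hn, a, ha, rfl⟩ :=
      mem_sup_of_normal_left.mp ((commutator_sup hL.gen).symm ▸ mem_top x : x ∈ commutator G ⊔ A)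
    obtain ⟨m, hm, b, hb, rfl⟩ :=
      mem_sup_of_normal_left.mp ((commutator_sup hL.gen).symm ▸ mem_top y : y ∈ commutator G ⊔ A)
    rw [← QuotientGroup.eq_one_iff, ← QuotientGroup.mk'_apply, map_commutatorElement,
      commutatorElement_eq_one_iff_commute, map_mul]
    refine Commute.mul_left (key n hn _) ?_
    rw [map_mul]
    refine Commute.mul_right (key m hm _).symm ?_
    exact Commute.map (le_cen hL hb a ha) _
  have hG'C : commutator G ≤ centralizer (pCore r G : Set G) := by
    rw [_root_.commutator_def]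
    apply comm_le_of_sup (le_cen hL)
    rw [← hC]
    exact sup_le_sup_right inf_le_right _
  have hAO : ¬ A ≤ pCore r G := fun h => hG' (by rw [eq_top_of_normal hL.gen h]; exact le_top)
  have hOZ : pCore r G ≤ center G := by
    refine le_center_of hL.gen (fun o ho a ha => ?_)
    have h1 : cj o A = A := by
      by_contra hne
      apply hAn o hne
      have h2 : kl A o ≤ pCore r G := by
        apply comm_le_of_sup (le_cen hL)
        refine sup_le le_sup_right ?_
        rintro _ ⟨b, hb, rfl⟩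
        exact mul_mem (mul_mem (mem_sup_left ho) (mem_sup_right hb)) (inv_mem (mem_sup_left ho))
      have h3 : kl A o ≤ commutator G := commutator_mono le_top le_top
      exact ⟨⟨fun x y => Subtype.ext (hG'C (h3 y.2) x (h2 x.2))⟩⟩
    exact inf_eq_bot hL hAO (comm_mem_of_cj h1 ha)
      (commutator_le_left _ ⊤ (commutator_mem_commutator ho (mem_top a)))
  have hπ : Function.Surjective (QuotientGroup.mk' (center G)) := QuotientGroup.mk'_surjective _
  have hbot : ∀ M : Subgroup (G ⧸ center G), M.comap (QuotientGroup.mk' (center G)) ≤ center G →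
      M = ⊥ := by
    intro M hM
    rw [← map_comap_eq_self_of_surjective hπ M, Subgroup.map_eq_bot_iff, QuotientGroup.ker_mk']
    exact hM
  refine ⟨fun M hM => ?_, fun Q hQ hQr => ?_, fun h => ?_, hZ⟩
  · by_cases h : M.comap (QuotientGroup.mk' (center G)) ⊔ A = ⊤
    · right
      have := congrArg (Subgroup.map (QuotientGroup.mk' (center G))) h
      rwa [Subgroup.map_sup, map_comap_eq_self_of_surjective hπ, map_top_of_surjective _ hπ] at this
    · left
      exact hbot M (le_center_of_comm hL hZ (fun m hm g => hOZ (r0 hL hloc h m hm g)))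
  · apply hbot
    refine le_trans (cbr (r := r) _ ?_) (sup_le hOZ le_rfl)
    intro n hn
    obtain ⟨k, hk⟩ := hQr ⟨_, hn⟩
    refine ⟨k, ?_⟩
    rw [← QuotientGroup.eq_one_iff, ← QuotientGroup.mk'_apply, map_pow]
    exact congrArg Subtype.val hk
  · apply hAn'
    have h1 : (bar A).comap (QuotientGroup.mk' (center G)) = ⊤ :=
      eq_top_of_normal hL.gen (le_comap_map _ _)
    rw [comap_map_eq, QuotientGroup.ker_mk'] at h1
    rw [← normalizer_eq_top_iff, eq_top_iff, ← h1]
    exact sup_le le_normalizer (center_le_normalizer _)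

end H87.FsRedA
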