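/- Tower KU (S2196), slot Conn: the non-perpendicularity graph on `O` is connected. -/
import Cfsg.Agent.H53.KUSpec

set_option autoImplicit false

namespace H87.KuConn
open Cfsg H59 H53.WU H53.KU Module

variable {S : KS}

theorem omap {x : S.V} (h : S.O x) {k : S.toHS.G} (hk : k ∈ S.K) : S.O (k.1 x) := by
  refine ⟨h.1.map k, fun t ht => ?_⟩
  have h1 := HS.conj_Zs k⁻¹ ht
  have h2 : (k⁻¹).1 (k.1 x) = x := k.1.symm_apply_apply x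
  rw [h2] at h1
  have h3 := S.K.mul_mem (S.K.mul_mem hk (h.2 h1)) (S.K.inv_mem hk)
  simpa [mul_assoc] using h3

theorem osmul {x : S.V} {c : S.F} (hc : c ≠ 0) (h : S.O (c • x)) : S.O x := by
  refine ⟨⟨fun e => h.1.1 (by rw [e, smul_zero]), ?_⟩, HS.Zs_smul x hc ▸ h.2⟩
  have h1 := h.1.2
  rw [form_smul_left, form_smul_right] at h1
  exact (mul_eq_zero.1 ((mul_eq_zero.1 h1).resolve_left (S.h.conj_ne_zero hc))).resolve_left hc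

theorem orel {x y : S.V} (h : S.O x) (hr : S.Rel x y) : S.O y := by
  obtain ⟨k, hk, c, e⟩ := hr
  exact osmul c.ne_zero (e ▸ omap h hk)

/-- the two halves of an orthogonal decomposition -/
theorem core (h2 : S.O2) (W₁ W₂ : Submodule S.F S.V) (hp : ∀ a ∈ W₁, ∀ b ∈ W₂, S.B a b = 0)
    (ht : W₁ ⊔ W₂ = ⊤) (hO : ∀ x, S.O x → x ∈ W₁ ∨ x ∈ W₂) {x₁ x₂ : S.V} (o₁ : S.O x₁)
    (o₂ : S.O x₂) (m₁ : x₁ ∈ W₁) (m₂ : x₂ ∈ W₂) : False := by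
  have hp' : ∀ b ∈ W₂, ∀ a ∈ W₁, S.B b a = 0 := fun b hb a ha => S.h.eq_zero_comm.1 (hp a ha b hb)
  have hz : ∀ v, (∀ a ∈ W₁, S.B v a = 0) → (∀ b ∈ W₂, S.B v b = 0) → v = 0 := by
    intro v h1 h3
    refine S.h.nondeg v fun y => ?_
    obtain ⟨a, ha, b, hb, rfl⟩ := Submodule.mem_sup.1 (ht ▸ Submodule.mem_top : y ∈ W₁ ⊔ W₂)
    rw [map_add, h1 a ha, h3 b hb, add_zero]
  have hd : ∀ v ∈ W₁, v ∈ W₂ → v = 0 := fun v h1 h3 => hz v (hp' v h3) (hp v h1)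
  obtain ⟨w₁, n₁, a₁⟩ : ∃ w ∈ W₁, S.B w w ≠ 0 := by
    by_contra! h
    exact o₁.1.1 (hz x₁ (fun a ha => form_eq_zero_of_diag S.h.ne_id h m₁ ha) (hp x₁ m₁))
  obtain ⟨w, n, a⟩ : ∃ w ∈ W₂, S.B w w ≠ 0 := by
    by_contra! h
    exact o₂.1.1 (hz x₂ (hp' x₂ m₂) fun a ha => form_eq_zero_of_diag S.h.ne_id h m₂ ha)
  obtain ⟨d, hd'⟩ := exists_norm_eq' S.h.ne_id S.h.invol (μ := -S.B w₁ w₁ / S.B w w) (by
    rw [map_div₀, map_neg, S.h.self_fixed, S.h.self_fixed])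
  obtain ⟨w₂, n₂, a₂⟩ : ∃ w₂ ∈ W₂, S.B w₂ w₂ = -S.B w₁ w₁ := by
    refine ⟨d • w, W₂.smul_mem d n, ?_⟩
    rw [form_smul_left, form_smul_right, ← mul_assoc, hd', div_mul_cancel₀ _ a]
  have a₂' : S.B w₂ w₂ ≠ 0 := by rw [a₂]; exact neg_ne_zero.2 a₁
  have hno : ∀ a ∈ W₁, ∀ b ∈ W₂, a ≠ 0 → b ≠ 0 → a + b ∉ W₁ ∧ a + b ∉ W₂ := fun a ha b hb a0 b0 =>
    ⟨fun h => b0 (hd b (by simpa using W₁.sub_mem h ha) hb),
      fun h => a0 (hd a ha (by simpa using W₂.sub_mem h hb))⟩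
  have hB : ∀ a ∈ W₁, ∀ b ∈ W₂, S.B (a + b) (a + b) = S.B a a + S.B b b := fun a ha b hb => by
    simp only [map_add, LinearMap.add_apply, hp a ha b hb, hp' b hb a ha, add_zero, zero_add]
  have z₁ : w₁ ≠ 0 := fun e => a₁ (by simp [e])
  have z₂ : w₂ ≠ 0 := fun e => a₂' (by simp [e])
  have hu := hno x₁ m₁ x₂ m₂ o₁.1.1 o₂.1.1
  have hv := hno w₁ n₁ w₂ n₂ z₁ z₂
  have iu : S.Iso (x₁ + x₂) := ⟨fun e => hu.1 (e ▸ W₁.zero_mem), by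
    rw [hB _ m₁ _ m₂, o₁.1.2, o₂.1.2, add_zero]⟩
  have iv : S.Iso (w₁ + w₂) := ⟨fun e => hv.1 (e ▸ W₁.zero_mem), by
    rw [hB _ n₁ _ n₂, a₂, add_neg_cancel]⟩
  rcases h2 x₁ _ _ o₁.1 iu iv with h | h | ⟨k, hk, c, e⟩
  · exact (hO _ (orel o₁ h)).elim hu.1 hu.2
  · exact (hO _ (orel o₁ h)).elim hv.1 hv.2
  have fin : ∀ y y' : S.V, S.O y → y ∈ W₁ → y' ∈ W₂ → y + y' = (c : S.F) • (w₁ + w₂) → False := by
    intro y y' oy h1 h3 e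
    have h4 : y - (c : S.F) • w₁ = (c : S.F) • w₂ - y' := by
      rw [smul_add] at e
      rw [sub_eq_sub_iff_add_eq_add, e, add_comm]
    have h5 := hd _ (W₁.sub_mem h1 (W₁.smul_mem _ n₁))
      (h4 ▸ W₂.sub_mem (W₂.smul_mem _ n₂) h3)
    rw [sub_eq_zero] at h5
    exact a₁ (osmul c.ne_zero (h5 ▸ oy)).1.2
  have hw : ∀ W : Submodule S.F S.V, k.1 x₁ ∈ W → k.1 x₂ ∈ W → w₁ + w₂ ∈ W := fun W h1 h3 => by
    have h4 := W.add_mem h1 h3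
    rw [← map_add, e] at h4
    exact (W.smul_mem_iff c.ne_zero).1 h4
  rw [map_add] at e
  rcases hO _ (omap o₁ hk) with h1 | h1 <;> rcases hO _ (omap o₂ hk) with h3 | h3
  · exact hv.1 (hw _ h1 h3)
  · exact fin _ _ (omap o₁ hk) h1 h3 e
  · exact fin _ _ (omap o₂ hk) h3 h1 (by rw [add_comm, e])
  · exact hv.2 (hw _ h1 h3)

theorem jobConn : JobConn := by
  intro S h2 hs P ⟨x₁, o₁, p₁⟩ hP x₂ o₂
  by_contra p₂
  refine core h2 (Submodule.span S.F {x | S.O x ∧ P x}) (Submodule.span S.F {x | S.O x ∧ ¬ P x})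
    (fun a ha b hb => ?_) ?_ (fun x hx => ?_) o₁ o₂ (Submodule.subset_span ⟨o₁, p₁⟩)
    (Submodule.subset_span ⟨o₂, p₂⟩)
  · refine (mem_perp (B := S.B)).1 ?_ a ha
    refine (Submodule.span_le.2 fun y hy => ?_ : Submodule.span S.F {x | S.O x ∧ ¬ P x} ≤ _) hb
    exact mem_perp_span.2 fun x hx => by_contra fun h => hy.2 (hP x y hx.1 hy.1 hx.2 h)
  · rw [← Submodule.span_union, ← hs]
    congr 1
    ext x
    simp only [Set.mem_union, Set.mem_ofPred_eq]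
    tauto
  · by_cases h : P x
    · exact Or.inl (Submodule.subset_span ⟨hx, h⟩)
    · exact Or.inr (Submodule.subset_span ⟨hx, h⟩)

end H87.KuConn
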