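import Cfsg.Agent.H54.NFSpec

/-! Slot X2 of tower NF (S1308). -/

set_option autoImplicit false

namespace H87.NfX2

open Cfsg Subgroup H98 H14.FE H54.NF

universe u

variable {G : Type u} [Group G] {Q T R : Subgroup G}

theorem inf_mem (h : NR Q T R) {R' : Subgroup G} (hR : R' ≤ R)
    (hn : T ≤ normalizer (R' : Set G)) {x : G} (hx : x ∈ T ⊔ R') (xR : x ∈ R) : x ∈ R' := by
  obtain ⟨t, ht, r, hr, rfl⟩ := (mem_sup_left_norm hn).1 hx
  have : t = 1 := h.dis t ht (h.sylR.le ((mul_mem_cancel_right (hR hr)).1 xR))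
  rw [this, one_mul]; exact hr

theorem grow [Finite G] (h : NR Q T R) {R' : Subgroup G} (hR : R' ≤ R)
    (hn : T ≤ normalizer (R' : Set G)) (hlt : ¬ R ≤ R') :
    ∃ v ∈ R, v ∉ R' ∧ v ∈ normalizer ((T ⊔ R' : Subgroup G) : Set G) := by
  have : Fact (Nat.Prime 2) := ⟨Nat.prime_two⟩
  have S2 : IsPGroup 2 (T ⊔ R : Subgroup G) :=
    h.two.to_sup_of_normal_right' h.sylR.isPGroup h.norR
  have h1 : T ⊔ R' < T ⊔ R := lt_of_le_of_ne (sup_le_sup_left hR T) fun e =>
    hlt fun x hx => inf_mem h hR hn (e ▸ mem_sup_right hx) hx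
  obtain ⟨s, ⟨s1, s2⟩, s3⟩ := SetLike.exists_of_lt (lt_inf_normalizer S2 h1)
  obtain ⟨t, ht, v, hv, rfl⟩ := (mem_sup_left_norm h.norR).1 s1
  exact ⟨v, hv, fun e => s3 (mul_mem (mem_sup_left ht) (mem_sup_right e)),
    (mul_mem_cancel_left (le_normalizer (mem_sup_left ht))).1 s2⟩

theorem jobX2 : JobX2.{u} := by
  intro x1 G _ _ Q T R h hE
  set R0 : Subgroup G := R ⊓ centralizer (T : Set G) with hR0
  have tc : ∀ t ∈ T, ∀ r ∈ R0, t * r = r * t := fun t ht r hr => mem_centralizer_iff.1 hr.2 t ht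
  have n0 : T ≤ normalizer (R0 : Set G) := le_normalizer_of_le_centralizer fun t ht =>
    mem_centralizer_iff.2 fun r hr => (tc t ht r hr).symm
  set A : Subgroup G := T ⊔ R0 with hA
  set R1 : Subgroup G := R ⊓ normalizer (A : Set G) with hR1
  have AR : A ⊓ R = R0 :=
    le_antisymm (fun x hx => inf_mem h inf_le_left n0 hx.1 hx.2) (le_inf le_sup_right inf_le_left)
  have key : ∀ y ∈ R1, y ∉ R0 → (∀ r ∈ R0, y * r * y⁻¹ = r⁻¹) := by
    intro y hy y0
    refine (x1 G Q T R h y hy.1 (fun e => y0 ⟨hy.1, e⟩) ?_ fun t ht => ?_).1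
    · have := le_normalizer_inf (H := zpowers y) (zpowers_le.2 hy.2)
        (zpowers_le.2 (le_normalizer hy.1)) (mem_zpowers y)
      rwa [AR] at this
    · have h1 : t⁻¹ * (y * t * y⁻¹) ∈ A :=
        mul_mem (inv_mem (mem_sup_left ht)) (conj_mem_of_mem_normalizer hy.2 (mem_sup_left ht))
      have h2 : t⁻¹ * (y * t * y⁻¹) ∈ R := by
        have e : t⁻¹ * (y * t * y⁻¹) = (t⁻¹ * y * t) * y⁻¹ := by group
        rw [e]
        exact mul_mem (conj_mem_of_mem_normalizer' (h.norR ht) hy.1) (inv_mem hy.1)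
      exact inf_mem h inf_le_left n0 h1 h2
  obtain ⟨y0, y0R, y00, y0n⟩ := grow h inf_le_left n0 fun e => h.lt (e.trans inf_le_right)
  have y01 : y0 ∈ R1 := ⟨y0R, y0n⟩
  have ab0 : ∀ r ∈ R0, ∀ s ∈ R0, r * s = s * r := by
    intro r hr s hs
    have e : y0 * (r * s) * y0⁻¹ = (y0 * r * y0⁻¹) * (y0 * s * y0⁻¹) := by group
    rw [key y0 y01 y00 _ (mul_mem hr hs), key y0 y01 y00 _ hr, key y0 y01 y00 _ hs,
      ← mul_inv_rev] at e
    exact inv_injective e
  obtain ⟨φ⟩ := h.iso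
  have abT : ∀ t ∈ T, ∀ s ∈ T, t * s = s * t := by
    intro t ht s hs
    obtain ⟨a, ha⟩ := φ.surjective ⟨t, ht⟩
    obtain ⟨b, hb⟩ := φ.surjective ⟨s, hs⟩
    have : φ a * φ b = φ b * φ a := by
      rw [← map_mul, ← map_mul, show a * b = b * a from Subtype.ext (ab0 _ a.2 _ b.2)]
    rw [ha, hb] at this
    exact congrArg Subtype.val this
  have nE : ¬ ∀ r ∈ R0, r * r = 1 := fun e => hE fun t ht => by
    obtain ⟨a, ha⟩ := φ.surjective ⟨t, ht⟩
    have : φ a * φ a = 1 := by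
      rw [← map_mul, show a * a = 1 from Subtype.ext (e _ a.2), map_one]
    rw [ha] at this
    exact congrArg Subtype.val this
  have two : ∀ y ∈ R1, y ∉ R0 → ∀ y' ∈ R1, y' ∉ R0 → y * y' ∈ R0 := by
    intro y hy h0 y' hy' h0'
    by_contra hc
    refine nE fun r hr => ?_
    have e1 := key _ (mul_mem hy hy') hc r hr
    have e2 : y * y' * r * (y * y')⁻¹ = y * (y' * r * y'⁻¹) * y⁻¹ := by group
    rw [e2, key y' hy' h0' r hr, key y hy h0 _ (inv_mem hr), inv_inv] at e1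
    exact mul_eq_one_iff_eq_inv.2 e1
  have abA : ∀ a ∈ A, ∀ b ∈ A, a * b = b * a := by
    intro a ha b hb
    obtain ⟨t, ht, r, hr, rfl⟩ := (mem_sup_left_norm n0).1 ha
    obtain ⟨s, hs, q, hq, rfl⟩ := (mem_sup_left_norm n0).1 hb
    exact (Commute.mul_left (Commute.mul_right (abT t ht s hs) (tc t ht q hq))
      (Commute.mul_right (tc s hs r hr).symm (ab0 r hr q hq))).eq
  have hR : R ≤ R1 := by
    by_contra hlt
    have n1 : T ≤ normalizer (R1 : Set G) :=
      le_normalizer_inf h.norR (le_normalizer_normalizer (le_normalizer_of_le le_sup_left))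
    obtain ⟨v, vR, v1, vn⟩ := grow h inf_le_left n1 hlt
    have AB : A ≤ T ⊔ R1 :=
      sup_le_sup_left (le_inf inf_le_left (le_sup_right.trans le_normalizer)) T
    have sq : ∀ b ∈ T ⊔ R1, b * b ∈ A := by
      intro b hb
      obtain ⟨t, ht, y, hy, rfl⟩ := (mem_sup_left_norm n1).1 hb
      by_cases h0 : y ∈ R0
      · exact mul_mem (mul_mem (mem_sup_left ht) (mem_sup_right h0))
          (mul_mem (mem_sup_left ht) (mem_sup_right h0))
      · have e : t * y * (t * y) = t * (y * t * y⁻¹) * (y * y) := by group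
        rw [e]
        exact mul_mem (mul_mem (mem_sup_left ht)
          (conj_mem_of_mem_normalizer hy.2 (mem_sup_left ht))) (mem_sup_right (two y hy h0 y hy h0))
    refine v1 ⟨vR, mem_normalizer_of_cj_le ?_⟩
    rintro _ ⟨a, ha, rfl⟩
    change v * a * v⁻¹ ∈ A
    obtain ⟨t1, ht1, y1, hy1, e⟩ :=
      (mem_sup_left_norm n1).1 (conj_mem_of_mem_normalizer vn (AB ha))
    rw [e]
    refine mul_mem (mem_sup_left ht1) (mem_sup_right ?_)
    obtain ⟨t, ht, t2⟩ : ∃ t ∈ T, t * t ≠ 1 := by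
      by_contra hc
      push Not at hc
      exact hE hc
    have c1 := abA _ (sq _ (conj_mem_of_mem_normalizer' vn (mem_sup_left ht))) a ha
    have c2 : Commute (t * t) (v * a * v⁻¹) := by
      change t * t * (v * a * v⁻¹) = v * a * v⁻¹ * (t * t)
      calc t * t * (v * a * v⁻¹) = v * (v⁻¹ * t * v * (v⁻¹ * t * v) * a) * v⁻¹ := by group
        _ = v * (a * (v⁻¹ * t * v * (v⁻¹ * t * v))) * v⁻¹ := by rw [c1]
        _ = v * a * v⁻¹ * (t * t) := by group
    rw [e] at c2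
    have c3 : Commute (t * t) t1 := abT _ (mul_mem ht ht) _ ht1
    have c4 : Commute (t * t) y1 := by
      have := c3.inv_right.mul_right c2
      rwa [inv_mul_cancel_left] at this
    exact ⟨hy1.1, h.fix _ (mul_mem ht ht) t2
      ⟨hy1.1, mem_centralizer_singleton_iff.2 c4.symm.eq⟩⟩
  refine ⟨relIndex_eq_two_iff.2 ⟨y0, y0R, fun b hb => ?_⟩,
    fun x hx x0 => key x (hR hx) fun e => x0 e.2⟩
  by_cases h0 : b ∈ R0
  · exact Or.inr ⟨h0, fun e => y00 ((mul_mem_cancel_left h0).1 e)⟩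
  · exact Or.inl ⟨two b (hR hb) h0 y0 y01 y00, h0⟩

end H87.NfX2
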