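/- Fusion systems over a `p`-group with an extraspecial subgroup of index `p`: definitions and the
statements of the steps (blueprints/XP.md). -/
import Cfsg.Agent.H87.F3L

set_option autoImplicit false

namespace H87.XP
open Cfsg H92 H93 Subgroup H92.Es H92.P5 H87.F3
open scoped commutatorElement

universe u

section defs
variable {Ω : Type u} [Group Ω]

/-- `Q` is extraspecial of index `p` in `S` with centre `Z = Z(S)` and order at least `p ^ 5` -/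
structure XS (p : ℕ) (S Q Z : Subgroup Ω) : Prop where
  odd : p ≠ 2
  sp : Sp p S Q
  sZ : Sp p Z ⊥
  lZ : Z ≤ Q
  cen : S ≤ Ct Z
  zc : S ⊓ Ct S ≤ Z
  ctr : Q ⊓ Ct Q ≤ Z
  tv : Q ≤ Tv Q Z
  pw : ∀ y ∈ Q, y ^ p ∈ Z
  big : p ^ 5 ≤ Nat.card Q

/-- the group `G` acts on `E`, moves `Z`, and `N_G(Z)` is strongly embedded -/
structure LX (p : ℕ) (S Q Z E G : Subgroup Ω) : Prop extends XS p S Q Z where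
  lE : E ≤ S
  zE : Z ≤ E
  nQ : ¬ E ≤ Q
  cc : S ⊓ Ct E ≤ E
  nm : G ≤ Nm E
  le : S ⊓ Nm E ≤ G
  mv : ¬ G ≤ Nm Z
  se : ∀ g ∈ G, ∀ x ∈ S ⊓ Nm E, x ∉ E → x ∈ Nm (cj g Z) → g ∈ Nm Z
  ext : S ≤ Nm E → ∀ g ∈ G, ∀ l : List (Subgroup Ω), (∀ B ∈ l, B ≤ E ∧ g ∈ Nm B) → S ≤ St E l →
    ∃ h ∈ Nm S, g⁻¹ * h ∈ Ct E

/-- case A: all conjugates of `Z` lie in `Q` -/
structure CA (p : ℕ) (S Q Z E G M A V : Subgroup Ω) (a : Ω) : Prop extends LX p S Q Z E G where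
  ha : a ∈ G
  na : a ∉ Nm Z
  eM : M = E ⊓ Q
  eA : A = M ⊓ cj a M
  eV : V = Z ⊔ cj a Z
  sE : Sp p S E
  sQ : Sp p Q M
  sM : Sp p E M
  sA : Sp p M A
  sA' : Sp p (cj a M) A
  sV : Sp p A V
  sW : Sp p V Z
  nV : G ≤ Nm V
  cV : E ≤ Ct V
  ab : A ≤ Ct A
  n1 : ∀ x ∈ Q, x ∉ E → ∀ w ∈ E, w ∉ M → ⁅x, w⁆ ∉ A
  n2 : ∀ x ∈ cj a Q, x ∉ E → ∀ w ∈ E, w ∉ cj a M → ⁅x, w⁆ ∉ A
  n3 : ∀ w ∈ E, w ∉ M → ∀ y ∈ A, y ∉ V → ⁅w, y⁆ ∉ Z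
  n4 : ∀ w ∈ E, w ∉ cj a M → ∀ y ∈ A, y ∉ V → ⁅w, y⁆ ∉ cj a Z

/-- case B: a conjugate of `Z` is not contained in `Q`, and `E` is normal -/
structure CB (p : ℕ) (S Q Z E G : Subgroup Ω) (a v : Ω) : Prop extends LX p S Q Z E G where
  ha : a ∈ G
  ev : cj a Z = zpowers v
  nv : v ∉ Q
  el : El p E ⊥
  nE : S ≤ Nm E
  inj : ∀ g ∈ Q, ⁅g, v⁆ ∈ Z → g ∈ E

/-- the conclusions of the first step in case B -/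
structure CB' (p : ℕ) (Q Z E G : Subgroup Ω) : Prop where
  cQ : Nat.card Q = p ^ 5
  cE : Nat.card E = p ^ 4
  out : ∀ b ∈ G, cj b Z ≤ Q → b ∈ Nm Z
  ani : ∀ g ∈ Q, g ∉ E → ∀ w ∈ E, w ∉ Q → ⁅g, ⁅g, w⁆⁆ ≠ 1
  hyp : ∀ b ∈ G, b ∉ Nm Z → ∀ w ∈ cj b Z, ∀ g ∈ Q, ⁅g, w⁆ ^ 2 * ⁅g, ⁅g, w⁆⁆⁻¹ ∈ cj b (E ⊓ Q)

/-- an element of order `p` outside `Q` whose centralizer in `Q` is `Z` -/
structure PL (p : ℕ) (S Q Z : Subgroup Ω) (v : Ω) : Prop extends XS p S Q Z where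
  hv : v ∈ S
  nv : v ∉ Q
  pv : v ^ p = 1
  cq : Q ⊓ Ct (zpowers v) ≤ Z

/-- the Sylow subgroups of `SL₄(p)` and `SU₄(p)` -/
structure O4 (p : ℕ) (S Q Z U : Subgroup Ω) (w : Ω) : Prop extends XS p S Q Z where
  cQ : Nat.card Q = p ^ 5
  ex : ∀ y ∈ Q, y ^ p = 1
  lU : U ≤ S
  zU : Z ≤ U
  ab : U ≤ Ct U
  nm : S ≤ Nm U
  hw : w ∈ U
  nw : w ∉ Q
  pw' : w ^ p = 1
  cU : Nat.card (U ⊓ Q :) = p ^ 3
  inj : ∀ g ∈ Q, ⁅g, w⁆ ∈ Z → g ∈ U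

/-- the Sylow subgroup of `G₂(p)` -/
structure G6 (p : ℕ) (S Q Z : Subgroup Ω) (y x : Ω) : Prop extends XS p S Q Z where
  cQ : Nat.card Q = p ^ 5
  ex : ∀ g ∈ Q, g ^ p = 1
  hy : y ∈ S
  ny : y ∉ Q
  py : y ^ p = 1
  hx : x ∈ Q
  n3 : ⁅y, ⁅y, ⁅y, x⁆⁆⁆ ∉ Z
  c4 : ⁅y, ⁅y, ⁅y, ⁅y, x⁆⁆⁆⁆ = 1

end defs

/-- relations of the Sylow subgroups of `SL₄(p)` (`-d` a square) and `SU₄(p)` (otherwise) -/
structure RelO {Γ : Type*} [Group Γ] (p : ℕ) (d : ℤ) (w g₁ g₂ c₁ c₂ z : Γ) : Prop where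
  pw : w ^ p = 1
  p1 : g₁ ^ p = 1
  p2 : g₂ ^ p = 1
  q1 : c₁ ^ p = 1
  q2 : c₂ ^ p = 1
  pz : z ^ p = 1
  g1w : ⁅g₁, w⁆ = c₁
  g2w : ⁅g₂, w⁆ = c₂
  g1c1 : ⁅g₁, c₁⁆ = z
  g2c2 : ⁅g₂, c₂⁆ = z ^ d
  g1c2 : ⁅g₁, c₂⁆ = 1
  g2c1 : ⁅g₂, c₁⁆ = 1
  g1g2 : ⁅g₁, g₂⁆ = 1
  wc1 : ⁅w, c₁⁆ = 1
  wc2 : ⁅w, c₂⁆ = 1
  c1c2 : ⁅c₁, c₂⁆ = 1
  wz : ⁅w, z⁆ = 1
  g1z : ⁅g₁, z⁆ = 1
  g2z : ⁅g₂, z⁆ = 1
  c1z : ⁅c₁, z⁆ = 1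
  c2z : ⁅c₂, z⁆ = 1

/-- relations of the Sylow subgroup of `G₂(p)`, `p ≥ 5` -/
structure RelG {Γ : Type*} [Group Γ] (p : ℕ) (y x₀ x₁ x₂ x₃ z : Γ) : Prop where
  py : y ^ p = 1
  p0 : x₀ ^ p = 1
  p1 : x₁ ^ p = 1
  p2 : x₂ ^ p = 1
  p3 : x₃ ^ p = 1
  pz : z ^ p = 1
  y0 : ⁅y, x₀⁆ = x₁
  y1 : ⁅y, x₁⁆ = x₂
  y2 : ⁅y, x₂⁆ = x₃
  y3 : ⁅y, x₃⁆ = 1
  yz : ⁅y, z⁆ = 1
  c01 : ⁅x₀, x₁⁆ = 1
  c02 : ⁅x₀, x₂⁆ = z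
  c03 : ⁅x₀, x₃⁆ = z
  c12 : ⁅x₁, x₂⁆ = z⁻¹
  c13 : ⁅x₁, x₃⁆ = 1
  c23 : ⁅x₂, x₃⁆ = 1
  c0 : ⁅x₀, z⁆ = 1
  c1 : ⁅x₁, z⁆ = 1
  c2 : ⁅x₂, z⁆ = 1
  c3 : ⁅x₃, z⁆ = 1

/-- `S` is isomorphic to a Sylow `p`-subgroup of `H` -/
def Syl (p : ℕ) (S : Type*) [Group S] (H : Type*) [Group H] : Prop :=
  ∃ P : Sylow p H, Nonempty (S ≃* (P : Subgroup H))

/-- case A, the structure of `E` -/
def JobA1 : Prop := ∀ (Ω : Type u) [Group Ω] [Finite Ω] (p : ℕ) [Fact p.Prime]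
  (S Q Z E G : Subgroup Ω), LX p S Q Z E G → (∀ g ∈ G, cj g Z ≤ Q) →
    ∃ M A V a, CA p S Q Z E G M A V a

/-- case A, the exponent of `Q` -/
def JobA2 : Prop := ∀ (Ω : Type u) [Group Ω] [Finite Ω] (p : ℕ) [Fact p.Prime]
  (S Q Z E G M A V : Subgroup Ω) (a : Ω), CA p S Q Z E G M A V a → ∀ y ∈ Q, y ^ p = 1

/-- case A, the two outcomes -/
def JobA3 : Prop := ∀ (Ω : Type u) [Group Ω] [Finite Ω] (p : ℕ) [Fact p.Prime]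
  (S Q Z E G M A V : Subgroup Ω) (a : Ω), CA p S Q Z E G M A V a → (∀ y ∈ Q, y ^ p = 1) →
    (∃ U w, O4 p S Q Z U w) ∨ (5 ≤ p ∧ ∃ y x, G6 p S Q Z y x)

/-- case B, the dichotomy -/
def JobB0 : Prop := ∀ (Ω : Type u) [Group Ω] [Finite Ω] (p : ℕ) [Fact p.Prime]
  (S Q Z E G : Subgroup Ω) (a v : Ω), LX p S Q Z E G → a ∈ G → cj a Z = zpowers v → v ∉ Q →
    (E = Z ⊔ zpowers v ∧ PL p S Q Z v) ∨ CB p S Q Z E G a v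

/-- case B2, the quadratic form -/
def JobB2a : Prop := ∀ (Ω : Type u) [Group Ω] [Finite Ω] (p : ℕ) [Fact p.Prime]
  (S Q Z E G : Subgroup Ω) (a v : Ω), CB p S Q Z E G a v → CB' p Q Z E G

/-- case B2, the exponent of `Q` -/
def JobB2b : Prop := ∀ (Ω : Type u) [Group Ω] [Finite Ω] (p : ℕ) [Fact p.Prime]
  (S Q Z E G : Subgroup Ω) (a v : Ω), CB p S Q Z E G a v → CB' p Q Z E G → ∀ y ∈ Q, y ^ p = 1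

/-- case B1, the torus extends to `S` -/
def JobB1F : Prop := ∀ (Ω : Type u) [Group Ω] [Finite Ω] (p : ℕ) [Fact p.Prime] (S : Subgroup Ω)
  (F : FusionSystem S) (Q Z : Subgroup Ω) (a v : Ω), SatA p F → PL p S Q Z v →
    F.IsEssential p (Z ⊔ zpowers v) → a ∈ Aut F (Z ⊔ zpowers v) → cj a Z = zpowers v →
    (∀ R g, Z ⊔ zpowers v < R → M F R g → g ∈ Nm Z) →
    ∀ k l : ℤ, (k * l : ZMod p) = 1 → ∃ h ∈ Nm S, (∀ y ∈ Z, W h y ⊥ k) ∧ W h v Z l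

/-- case B1, the weights -/
def JobB1W : Prop := ∀ (Ω : Type u) [Group Ω] [Finite Ω] (p : ℕ) [Fact p.Prime]
  (S Q Z : Subgroup Ω) (v : Ω), PL p S Q Z v →
    (∀ k l : ℤ, (k * l : ZMod p) = 1 → ∃ h ∈ Nm S, (∀ y ∈ Z, W h y ⊥ k) ∧ W h v Z l) →
    7 ≤ p ∧ Nat.card S = p ^ (p - 1) ∧ (∀ x ∈ S, x ^ p = 1) ∧
      Group.nilpotencyClass S = p - 2 ∧ (p = 7 → ∃ y x, G6 p S Q Z y x)

/-- recognition from the relations, orthogonal case -/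
def JobRO : Prop := ∀ (Ω : Type u) [Group Ω] [Finite Ω] (p : ℕ) [Fact p.Prime]
  (S Q Z U : Subgroup Ω) (w : Ω), O4 p S Q Z U w → ∃ d : ℤ, (d : ZMod p) ≠ 0 ∧
    ∀ (H : Type) [Group H] [Finite H] (w' g₁ g₂ c₁ c₂ z : H), RelO p d w' g₁ g₂ c₁ c₂ z → z ≠ 1 →
      ¬ p ^ 7 ∣ Nat.card H → Syl p S H

/-- recognition from the relations, case `G₂` -/
def JobRG : Prop := ∀ (Ω : Type u) [Group Ω] [Finite Ω] (p : ℕ) [Fact p.Prime]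
  (S Q Z : Subgroup Ω) (y x : Ω), G6 p S Q Z y x →
    ∀ (H : Type) [Group H] [Finite H] (y' x₀ x₁ x₂ x₃ z : H), RelG p y' x₀ x₁ x₂ x₃ z → z ≠ 1 →
      ¬ p ^ 7 ∣ Nat.card H → Syl p S H

/-- the model in `SL₄(p)` -/
def JobSL : Prop := ∀ (p : ℕ) [Fact p.Prime] (d : ℤ), p ≠ 2 → IsSquare (-d : ZMod p) →
  ¬ p ^ 7 ∣ Nat.card (Matrix.SpecialLinearGroup (Fin 4) (ZMod p)) ∧
    ∃ w g₁ g₂ c₁ c₂ z : Matrix.SpecialLinearGroup (Fin 4) (ZMod p),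
      RelO p d w g₁ g₂ c₁ c₂ z ∧ z ≠ 1

/-- the model in `SU₄(p)` -/
def JobSU : Prop := ∀ (p : ℕ) [Fact p.Prime] (d : ℤ), p ≠ 2 → ¬ IsSquare (-d : ZMod p) →
  ∃ (K : Type) (_ : Field K) (_ : Fintype K), Fintype.card K = p ^ 2 ∧
    ¬ p ^ 7 ∣ Nat.card (SU 4 K p) ∧
    ∃ w g₁ g₂ c₁ c₂ z : SU 4 K p, RelO p d w g₁ g₂ c₁ c₂ z ∧ z ≠ 1

/-- the model in `G₂(p)` -/
def JobG2 : Prop := ∀ (p : ℕ) [Fact p.Prime], 5 ≤ p → ¬ p ^ 7 ∣ Nat.card (Lie.G2 (ZMod p)) ∧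
  ∃ y x₀ x₁ x₂ x₃ z : Lie.G2 (ZMod p), RelG p y x₀ x₁ x₂ x₃ z ∧ z ≠ 1

/-- a subgroup of the product that is the graph of an embedding onto a Sylow subgroup -/
theorem syl_of_graph {Γ H : Type*} [Group Γ] [Group H] [Finite Γ] [Finite H] {p n : ℕ}
    [hp : Fact p.Prime] {S Z : Subgroup Γ} (D : Subgroup (Γ × H))
    (h1 : D.map (MonoidHom.fst Γ H) = S) (hc : Nat.card D ≤ p ^ n) (cS : Nat.card S = p ^ n)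
    (sZ : Sp p Z ⊥) (zc : S ⊓ Ct S ≤ Z) {z : Γ} {z' : H} (hz : (z, z') ∈ D) (hz' : z ∈ Z)
    (n1 : z' ≠ 1) (hH : ¬ p ^ (n + 1) ∣ Nat.card H) : Syl p S H := by
  let f : D →* S := ((MonoidHom.fst Γ H).comp D.subtype).codRestrict S fun g =>
    h1.le (mem_map_of_mem _ g.2)
  have hs : Function.Surjective f := fun n =>
    let ⟨g, hg, e⟩ := h1.ge n.2
    ⟨⟨g, hg⟩, Subtype.ext e⟩
  have hb : Function.Bijective f := (Nat.bijective_iff_surjective_and_card f).2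
    ⟨hs, le_antisymm (cS ▸ hc) (Nat.card_le_card_of_surjective f hs)⟩
  let e := MulEquiv.ofBijective f hb
  let ψ : S →* H := ((MonoidHom.snd Γ H).comp D.subtype).comp e.symm.toMonoidHom
  have hψ : ψ (e ⟨_, hz⟩) = z' := congrArg (fun d : D => d.1.2) (e.symm_apply_apply ⟨_, hz⟩)
  have pS : IsPGroup p S := IsPGroup.of_card cS
  have hinj : Function.Injective ψ := by
    rw [← MonoidHom.ker_eq_bot_iff]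
    by_contra hk
    obtain ⟨t, ht, t1, t2⟩ := H9.exists_mem_center_orderOf_eq pS hk
    have m : (t : Γ) ∈ Z := zc ⟨t.2, mem_Ct'.2 fun y hy =>
      congrArg Subtype.val (mem_center_iff.1 t1 ⟨y, hy⟩)⟩
    obtain ⟨k, hk⟩ := sZ.dec m (fun r => hp.out.one_lt.ne' (by
      rw [← t2, show t = 1 from Subtype.ext (mem_bot.1 r), orderOf_one])) hz'
    have : e ⟨_, hz⟩ = t ^ k := Subtype.ext (inv_mul_eq_one.1 (mem_bot.1 hk)).symm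
    rw [this, map_zpow, MonoidHom.mem_ker.1 ht, _root_.one_zpow] at hψ
    exact n1 hψ.symm
  have e' := MonoidHom.ofInjective hinj
  obtain ⟨P, hP⟩ := (pS.of_equiv e').exists_le_sylow
  obtain ⟨m, hm⟩ := IsPGroup.iff_card.1 P.2
  have c : Nat.card ψ.range = p ^ n := (Nat.card_congr e'.toEquiv).symm.trans cS
  have : m ≤ n := by_contra fun r =>
    hH ((pow_dvd_pow p (not_le.1 r)).trans (hm ▸ card_subgroup_dvd_card _))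
  exact ⟨P, ⟨e'.trans (MulEquiv.subgroupCongr (eq_of_le_of_card_ge hP (by
    rw [c, hm]; exact Nat.pow_le_pow_right hp.out.pos this)))⟩⟩

end H87.XP
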