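/- A8S (S3152), slot Sy: the Sylow 2-subgroup in case A, and transfer. -/
import Cfsg.Agent.H63.A8Def
import Cfsg.Agent.H98.Sylow
import Cfsg.Agent.S0111

set_option autoImplicit false

namespace H87.A8Sy
open Subgroup H63.A8 H98
open H64.SG (Cz Cs Ns Cfg)

universe u

variable {G : Type u} [Group G]

/-- `L ⟨u⟩` for an involution `u` normalising `L` -/
def ext (L : Subgroup G) (u : G) (hu : u * u = 1) (hn : u ∈ Ns L) : Subgroup G where
  carrier := {y | y ∈ L ∨ u * y ∈ L}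
  one_mem' := Or.inl L.one_mem
  mul_mem' {a b} ha hb := by
    have hi : u⁻¹ = u := inv_eq_of_mul_eq_one_right hu
    rcases ha with ha | ha <;> rcases hb with hb | hb
    · exact Or.inl (L.mul_mem ha hb)
    · refine Or.inr ?_
      have := L.mul_mem (conj_mem_of_mem_normalizer hn ha) hb
      rwa [show u * a * u⁻¹ * (u * b) = u * (a * b) by group] at this
    · exact Or.inr (mul_assoc u a b ▸ L.mul_mem ha hb)
    · refine Or.inl ?_
      have := L.mul_mem (conj_mem_of_mem_normalizer' hn ha) hb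
      rwa [show u⁻¹ * (u * a) * u * (u * b) = a * (u * u) * b by group, hu, mul_one] at this
  inv_mem' {a} ha := by
    rcases ha with ha | ha
    · exact Or.inl (L.inv_mem ha)
    · refine Or.inr ?_
      have := conj_mem_of_mem_normalizer hn (L.inv_mem ha)
      rwa [show u * (u * a)⁻¹ * u⁻¹ = u * a⁻¹ * (u * u)⁻¹ by group, hu, inv_one, mul_one] at this

theorem mem_ext {L : Subgroup G} {u : G} {hu : u * u = 1} {hn : u ∈ Ns L} {y : G} :
    y ∈ ext L u hu hn ↔ y ∈ L ∨ u * y ∈ L := Iff.rfl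

/-- a transposition is not centralised by a Sylow 2-subgroup of `S₈` -/
theorem not_cent {S : Subgroup S8} (hS : IsSyl 2 S ⊤) {σ : S8} (h : Ty 2 σ) :
    ¬ S ≤ centralizer {σ} := by
  intro hle
  have : Fact (Nat.Prime 2) := ⟨Nat.prime_two⟩
  have h1 : σ.cycleType = {2} :=
    Equiv.Perm.isSwap_iff_cycleType.1 (Equiv.Perm.card_support_eq_two.1 h.2)
  have h2 : Nat.card (centralizer ({σ} : Set S8)) = 1440 := by
    rw [Equiv.Perm.nat_card_centralizer, h1]
    simp [Nat.factorial]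
  have h3 : Nat.card S8 = 40320 := by
    rw [Nat.card_eq_fintype_card, Fintype.card_perm, Fintype.card_fin]
    rfl
  have h4 := hS.not_dvd_relIndex
  rw [relIndex_top_right] at h4
  have h5 := (centralizer ({σ} : Set S8)).index_mul_card
  rw [h2, h3] at h5
  have h6 : (centralizer ({σ} : Set S8)).index = 28 := by omega
  exact h4 ((by norm_num : 2 ∣ 28).trans (h6 ▸ index_dvd_of_le hle))

theorem jobSy (KP : KP) (K : JKA.{u}) (T : JTT.{u}) (D : JDD.{u}) : JSy.{u} := by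
  intro G _ _ f t hA F₀ hF ⟨s, hs, hts, hst⟩
  have : Fact (Nat.Prime 2) := ⟨Nat.prime_two⟩
  have hK := K G f t hA
  have hT := T G f t hA
  obtain ⟨hD1, hD2⟩ := D G f t hA s hs hts hst
  obtain ⟨π, hπ1, hπ2, hπ3⟩ := hK.pi
  have htt : t * t = 1 := hA.inv.1
  have ht1 : t ≠ 1 := hA.inv.2
  have hti : t⁻¹ = t := inv_eq_of_mul_eq_one_right htt
  have htC : t ∈ Cz t := mem_centralizer_singleton_iff.2 rfl
  have hcs : s * t = t * s := mem_centralizer_singleton_iff.1 hs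
  have hss : s * s = 1 := by
    obtain ⟨c, rfl⟩ := isConj_iff.1 hts
    calc c * t * c⁻¹ * (c * t * c⁻¹) = c * (t * t) * c⁻¹ := by group
      _ = 1 := by rw [htt]; group
  have huu : t * s * (t * s) = 1 := by
    calc t * s * (t * s) = t * (s * t) * s := by group
      _ = (t * t) * (s * s) := by rw [hcs]; group
      _ = 1 := by rw [htt, hss, one_mul]
  have huC : t * s ∈ Cz t := mul_mem htC hs
  have hLC : f.range ≤ Cz t := fun y hy => mem_centralizer_singleton_iff.2 (hA.cen y hy)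
  have hfC : ∀ a, f a ∈ Cz t := fun a => hLC ⟨a, rfl⟩
  have hπf : ∀ a, π ⟨f a, hfC a⟩ = a := fun a => hπ3 _ _ (hK.self a)
  have hπt : π ⟨t, htC⟩ = 1 := (hπ2 _).2 hA.cen
  have hτ : Ty 2 (π ⟨s, hs⟩) := hT s hs hts hst _ (hπ1 ⟨s, hs⟩)
  have hπu : π ⟨t * s, huC⟩ = π ⟨s, hs⟩ := by
    rw [show (⟨t * s, huC⟩ : Cz t) = ⟨t, htC⟩ * ⟨s, hs⟩ from rfl, map_mul, hπt, one_mul]
  have hτo : π ⟨s, hs⟩ ∉ alternatingGroup (Fin 8) := KP.od _ (Or.inl hτ)
  set M := ext f.range (t * s) huu (hA.cz huC) with hM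
  have hLM : f.range ≤ M := fun y hy => Or.inl hy
  have huM : t * s ∈ M := Or.inr (by rw [huu]; exact one_mem _)
  have hMC : M ≤ Cz t := fun y hy => hy.elim (fun h => hLC h) fun h =>
    (mul_mem_cancel_left huC).1 (hLC h)
  let ψ : M →* S8 := π.comp (inclusion hMC)
  have hψ : ∀ y : M, ψ y = π ⟨y, hMC y.2⟩ := fun _ => rfl
  have hinj : Function.Injective ψ := by
    rw [injective_iff_map_eq_one]
    rintro ⟨y, hy | hy⟩ h
    · obtain ⟨a, rfl⟩ := hy
      have h1 : a = 1 := Subtype.ext ((hπf a).symm.trans h)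
      exact Subtype.ext (by simp [h1])
    · obtain ⟨a, ha⟩ := hy
      exfalso
      apply hτo
      have h1 : (⟨f a, hfC a⟩ : Cz t) = ⟨t * s, huC⟩ * ⟨y, hMC (Or.inr ⟨a, ha⟩)⟩ := Subtype.ext ha
      have h2 := hπf a
      rw [h1, map_mul, hπu, ← hψ ⟨y, Or.inr ⟨a, ha⟩⟩, h, mul_one] at h2
      rw [h2]; exact a.2
  have hidx : (alternatingGroup (Fin 8)).index = 2 := alternatingGroup.index_eq_two
  have hsurj : Function.Surjective ψ := by
    intro σ
    by_cases h : σ ∈ alternatingGroup (Fin 8)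
    · exact ⟨⟨f ⟨σ, h⟩, hLM ⟨_, rfl⟩⟩, hπf ⟨σ, h⟩⟩
    · have h1 : (π ⟨s, hs⟩)⁻¹ * σ ∈ alternatingGroup (Fin 8) :=
        (mul_mem_iff_of_index_two hidx).2 (by simp [h, hτo])
      refine ⟨⟨t * s, huM⟩ * ⟨f ⟨_, h1⟩, hLM ⟨_, rfl⟩⟩, ?_⟩
      rw [map_mul, hψ, hψ, hπu, hπf]
      simp
  have htM : t ∉ M := fun h => ht1 (congrArg Subtype.val (hinj (a₁ := ⟨t, h⟩) (a₂ := 1)
    (by rw [hψ, map_one]; exact hπt)))
  obtain ⟨P, hP, hsP⟩ := exists_isSyl_le (p := 2) (Q := zpowers s) (H := Cz t)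
    (isPGroup_zpowers (k := 1) (by rw [pow_one, pow_two, hss])) (zpowers_le.2 hs)
  have hsP' : s ∈ P := hsP (mem_zpowers s)
  have htz : IsPGroup 2 (zpowers t) := isPGroup_zpowers (k := 1) (by rw [pow_one, pow_two, htt])
  have hnt : ∀ Q : Subgroup G, Q ≤ Cz t → Q ≤ normalizer (zpowers t : Set G) := fun Q hQ =>
    le_normalizer_of_le_centralizer (by rwa [zpowers_eq_closure, centralizer_closure])
  have htP : t ∈ P := hP.le_of_le_normalizer htz (zpowers_le.2 htC) (hnt P hP.le) (mem_zpowers t)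
  have hev : ∀ y (hy : y ∈ P), π ⟨y, hP.le hy⟩ ∈ alternatingGroup (Fin 8) →
      y ∈ f.range ∨ t * y ∈ f.range := by
    intro y hy h
    set a : A8 := ⟨_, h⟩ with ha
    have hk : y * (f a)⁻¹ ∈ Cs f.range := by
      refine (hπ2 (⟨y, hP.le hy⟩ * (⟨f a, hfC a⟩ : Cz t)⁻¹)).1 ?_
      rw [map_mul, map_inv, hπf]
      exact mul_inv_cancel _
    have hkC : y * (f a)⁻¹ ∈ Cz t := mul_mem (hP.le hy) (inv_mem (hfC a))
    obtain ⟨j, hj⟩ := isPGroup_iff_forall.1 hP.isPGroup y hy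
    have hc : Commute (y * (f a)⁻¹) (f a) := (hk (f a) ⟨a, rfl⟩).symm
    have h1 : (a : S8) ^ 2 ^ j = 1 := by
      change π ⟨y, hP.le hy⟩ ^ 2 ^ j = 1
      rw [← map_pow, show (⟨y, hP.le hy⟩ : Cz t) ^ 2 ^ j = 1 from Subtype.ext hj, map_one]
    have h2 : a ^ 2 ^ j = 1 := Subtype.ext h1
    have h3 : (y * (f a)⁻¹) ^ 2 ^ j = 1 := by
      have := hc.mul_pow (2 ^ j)
      rwa [inv_mul_cancel_right, hj, ← map_pow, h2, map_one, mul_one, eq_comm] at this
    have h4 : IsPGroup 2 ↥(zpowers (y * (f a)⁻¹) ⊔ zpowers t) :=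
      (isPGroup_zpowers h3).to_sup_of_normal_right' htz (hnt _ (zpowers_le.2 hkC))
    have h5 := hD2 _ (sup_le (zpowers_le.2 hk) (zpowers_le.2 hA.cen)) h4
    have h6 : zpowers t = zpowers (y * (f a)⁻¹) ⊔ zpowers t := eq_of_le_of_card_ge le_sup_right (by
      rw [Nat.card_zpowers, orderOf_eq_prime (by rw [pow_two, htt]) ht1]; exact h5)
    have h7 : y * (f a)⁻¹ ∈ zpowers t := h6 ▸ mem_sup_left (mem_zpowers _)
    obtain ⟨i, hi⟩ := h7
    have h8 : t ^ (2 : ℤ) = 1 := by rw [zpow_two, htt]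
    rcases Int.even_or_odd' i with ⟨m, rfl | rfl⟩
    · left
      simp only [zpow_mul, h8, one_zpow] at hi
      exact ⟨a, (mul_inv_eq_one.1 hi.symm).symm⟩
    · right
      simp only [zpow_add, zpow_mul, h8, one_zpow, one_mul, zpow_one] at hi
      refine ⟨a, ?_⟩
      rw [← hti, eq_inv_mul_iff_mul_eq, hi, inv_mul_cancel_right]
  have hPM : ∀ y ∈ P, y ∈ M ∨ t * y ∈ M := by
    intro y hy
    by_cases h : π ⟨y, hP.le hy⟩ ∈ alternatingGroup (Fin 8)
    · exact (hev y hy h).imp (fun h => hLM h) fun h => hLM h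
    · have h1 := hev (s * y) (mul_mem hsP' hy) (by
        rw [show (⟨s * y, hP.le (mul_mem hsP' hy)⟩ : Cz t) = ⟨s, hs⟩ * ⟨y, hP.le hy⟩ from rfl,
          map_mul]
        exact (mul_mem_iff_of_index_two hidx).2 (by simp [h, hτo]))
      rcases h1 with h1 | h1
      · refine Or.inr (Or.inr ?_)
        rwa [show t * s * (t * y) = t * (s * t) * y by group, hcs, ← mul_assoc, htt, one_mul]
      · exact Or.inl (Or.inr (by rwa [mul_assoc]))
  have hP1 : IsSyl 2 (P ⊓ M) M := by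
    refine ⟨inf_le_right, hP.isPGroup.to_inf_left, fun Q hQ h1 h2 => le_antisymm ?_ h1⟩
    have h3 : Q ⊔ zpowers t = P := by
      refine hP.eq_of_le (hQ.to_sup_of_normal_right' htz (hnt _ (h2.trans hMC))) (fun y hy => ?_)
        (sup_le (h2.trans hMC) (zpowers_le.2 htC))
      rcases hPM y hy with h | h
      · exact mem_sup_left (h1 ⟨hy, h⟩)
      · have := mul_mem (mem_sup_right (mem_zpowers t) : t ∈ Q ⊔ zpowers t)
          (mem_sup_left (h1 ⟨mul_mem htP hy, h⟩))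
        rwa [← mul_assoc, htt, one_mul] at this
    exact le_inf (h3 ▸ le_sup_left) h2
  have hS : IsSyl 2 (((P ⊓ M).subgroupOf M).map ψ) ⊤ := by
    have := hP1.subgroupOf_top.map ψ
    rwa [map_top_of_surjective ψ hsurj] at this
  have hNP : normalizer (P : Set G) ≤ Cz t := by
    intro g hg
    by_contra hgC
    have h1 : g * t * g⁻¹ ∈ P := conj_mem_of_mem_normalizer hg htP
    have h2 : g * t * g⁻¹ ≠ t := fun e =>
      hgC (mem_centralizer_singleton_iff.2 (mul_inv_eq_iff_eq_mul.1 e))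
    refine not_cent hS (hT _ (hP.le h1) (isConj_iff.2 ⟨g, rfl⟩) h2 _ (hπ1 ⟨_, hP.le h1⟩)) ?_
    rintro _ ⟨y, hy, rfl⟩
    rw [mem_centralizer_singleton_iff, hψ, ← map_mul, ← map_mul]
    congr 1
    apply Subtype.ext
    have h3 : g⁻¹ * y * g * t = t * (g⁻¹ * y * g) :=
      mem_centralizer_singleton_iff.1 (hP.le (conj_mem_of_mem_normalizer' hg hy.1))
    change (y : G) * (g * t * g⁻¹) = g * t * g⁻¹ * y
    calc (y : G) * (g * t * g⁻¹) = g * (g⁻¹ * y * g * t) * g⁻¹ := by group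
      _ = g * t * g⁻¹ * y := by rw [h3]; group
  have hPG : IsSyl 2 P ⊤ := isSyl_of_isSyl_normalizer
    (hP.of_le (le_inf le_top le_normalizer) (inf_le_right.trans hNP))
  have hrel : (P ⊓ M).relIndex P = 2 := by
    rw [relIndex, index_eq_two_iff]
    refine ⟨⟨t, htP⟩, fun b => ?_⟩
    have hb : (b : G) * t = t * b := mem_centralizer_singleton_iff.1 (hP.le b.2)
    simp only [mem_subgroupOf, coe_mul, mem_inf, hb]
    rcases hPM b b.2 with h | h
    · exact Or.inr ⟨⟨b.2, h⟩, fun h' => htM (by simpa using mul_mem h'.2 (inv_mem h))⟩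
    · exact Or.inl ⟨⟨mul_mem htP b.2, h⟩, fun h' => htM (by simpa using mul_mem h (inv_mem h'.2))⟩
  have hnc : ∀ g : G, g * t * g⁻¹ ∉ P ⊓ M := by
    intro g hg
    have h2 : g * t * g⁻¹ ≠ t := fun e => htM (e ▸ hg.2)
    have h3 := hT _ (hMC hg.2) (isConj_iff.2 ⟨g, rfl⟩) h2 _ (hπ1 ⟨_, hMC hg.2⟩)
    obtain ⟨a, ha⟩ := KP.cj 2 _ _ (by omega) hτ h3
    have h4 : (⟨f a, hLM ⟨a, rfl⟩⟩ * ⟨t * s, huM⟩ * (⟨f a, hLM ⟨a, rfl⟩⟩ : M)⁻¹ : M) =
        ⟨_, hg.2⟩ := hinj (by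
      rw [map_mul, map_mul, map_inv, hψ, hψ, hψ, hπu, hπf, ha])
    have h5 : f a * (t * s) * (f a)⁻¹ = g * t * g⁻¹ := congrArg Subtype.val h4
    exact hD1 (isConj_iff.2 ⟨(f a)⁻¹ * g, by
      rw [show (f a)⁻¹ * g * t * ((f a)⁻¹ * g)⁻¹ = (f a)⁻¹ * (g * t * g⁻¹) * f a by group, ← h5]
      group⟩)
  have hFn := hF.normal
  have hconj : ∀ N : Subgroup G, N.Normal → s ∈ N → t ∈ N := fun N hN h => by
    obtain ⟨c, rfl⟩ := isConj_iff.1 hts
    simpa [mul_assoc] using hN.conj_mem _ h c⁻¹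
  have htF : t ∉ F₀ := by
    intro htF
    rcases Cfsg.Agent.S0111.result hPG.toSylowTop (P ⊓ M) inf_le_left hrel t
      (orderOf_eq_prime (by rw [pow_two, htt]) ht1) htP (fun h => htM h.2) with
      ⟨N, hN, hN2, htN⟩ | ⟨g, hg⟩
    · have := hF.simple
      have hsF : s ∈ F₀ := (hF.top s).elim id fun h => by simpa using mul_mem h (inv_mem htF)
      rcases (hN.subgroupOf F₀).eq_bot_or_eq_top with h | h
      · have h1 : t * s ∈ N := (mul_mem_iff_of_index_two hN2).2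
          (iff_of_false htN fun h => htN (hconj N hN h))
        have h2 : (⟨t * s, mul_mem htF hsF⟩ : F₀) ∈ N.subgroupOf F₀ := h1
        rw [h, mem_bot] at h2
        have h3 : t * s = 1 := congrArg Subtype.val h2
        exact hst (by rw [← hti]; exact eq_inv_of_mul_eq_one_right h3)
      · exact htN (subgroupOf_eq_top.1 h htF)
    · exact hnc g hg
  refine ⟨htF, ?_⟩
  have huF : t * s ∈ F₀ := by
    rw [← hcs]
    exact (hF.top s).resolve_left fun h => htF (hconj F₀ hFn h)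
  have hMF : M ≤ F₀ := fun y hy => hy.elim (fun h => hF.le h) fun h =>
    (mul_mem_cancel_left huF).1 (hF.le h)
  have hPF : P ⊓ F₀ = P ⊓ M := le_antisymm (fun y hy => ⟨hy.1, (hPM y hy.1).resolve_right fun h =>
    htF (by simpa using mul_mem (hMF h) (inv_mem hy.2))⟩) (inf_le_inf_left _ hMF)
  have h1 : IsSyl 2 (P ⊓ F₀) F₀ :=
    hPG.inf_of_le_normalizer le_top (by rw [normalizer_eq_top]; exact le_top)
  rw [hPF] at h1
  obtain ⟨T₀, hT₀⟩ := h1.exists_sylow
  refine ⟨T₀, fun R => ⟨?_⟩⟩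
  exact ((((MulEquiv.subgroupCongr hT₀).trans (subgroupOfEquivOfLe h1.le)).trans
    (subgroupOfEquivOfLe hP1.le).symm).trans (equivMapOfInjective _ ψ hinj)).trans
    (Sylow.equiv hS.toSylowTop R)

end H87.A8Sy
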