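/- A8S (S3152), slot WE: the endgame of the wreath case for `SL₄(2)`. -/
import Cfsg.Agent.H63.A8Def
import Cfsg.Agent.H86.SAWE
import Cfsg.Agent.H81.W2A

set_option autoImplicit false
set_option linter.unusedSectionVars false

namespace H87.A8WE

open H67.SA H63.A8 H86.SAW3 H86.SAWE
open H64.SG (O2 Syl Cz Cs Ns cjs Is2 Inv2 UF IsO2 fx mem_Cs mem_Cz mem_fx)
open Matrix H57 Subgroup

universe u

def J8W2 : Prop := AllW8.{u} fun n F _ G _ e t e₁ e₂ => GW e t e₁ e₂ →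
  ∀ (W : Subgroup G) (b : G) (k : ℕ) (y : SLn n F), IsPGroup 2 W → W ≤ Ns (G12 e₁ e₂) → t ∈ Ns W →
    b ∈ Ns W → b * b = 1 → Odd k → (t * b) ^ k ∈ W → e₁ (y * y) ∈ W → (e₁ y)⁻¹ * t ∈ W →
    (y * y = 1 ∨ 2 < Nat.card ↥(W ⊓ e₁.range)) →
    ∀ o ∈ Subgroup.zpowers (t * b), Odd (orderOf o) → o ∈ Cs W

def J8W3 : Prop := AllW8.{u} fun n F _ _ _ e t e₁ e₂ => GW e t e₁ e₂ →
  (∀ y, Inv2 y → Cz (e₁ y * t) ≤ Ns (G12 e₁ e₂)) ∧
  ∀ k, 1 ≤ k → 2 * k ≤ n + 1 → ∀ y ∈ Qk n F k,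
    Cs (two e₁ e₂ (Mk n F k) ⊔ Subgroup.zpowers ((e₁ y)⁻¹ * t)) ≤ Ns (G12 e₁ e₂)

theorem jobW28 : J8W2.{u} := by
  intro n F _ _ _ _ G _ _ e t e₁ e₂ hE hC hG W b k y hp hW tn bn hb hk hr yy dw big o ho oo
  refine H81.W2.core hC.le_Cs' ?_ hE.inv.1 hC.cjs_range (fun w hw => hG.pm w (hW hw)) hp tn bn hb hk hr
    ⟨y, rfl⟩ (map_mul e₁ y y ▸ yy) dw (big.imp_left fun h => by rw [← map_mul, h, map_one]) ho oo
  exact hG.toW0.odd.of_dvd_nat (Subgroup.card_dvd_of_le (Subgroup.le_centralizer_iff.2 (sup_le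
    (Subgroup.le_centralizer_iff.1 inf_le_left) (Subgroup.le_centralizer_iff.1 inf_le_right))))

variable {n : ℕ} {F : Type} [Field F] [Finite F] [CharP F 2] {G : Type u} [Group G] [Finite G]
  {e e₁ e₂ : SLn n F →* G} {t : G} {k : ℕ}

/-- The common part of both statements. -/
theorem key8 (hFB : FB8 n F) (hn : 2 ≤ n) (b : CE e t) (c : CW e t e₁ e₂) (g : GW e t e₁ e₂)
    (k1 : 1 ≤ k) (k2 : 2 * k ≤ n + 1) (D : Subgroup G) (hD : IsPGroup 2 D) (ht : t ∈ Ns D)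
    (hM : D ≤ Ns (G12 e₁ e₂)) (hQ : ∀ u ∈ Ml n F k, e u ∈ Ns D)
    (hc : ∀ m ∈ Cs D, m ∈ Ns (G12 e₁ e₂) → cm m t ∈ D)
    (hO : ∀ m ∈ Cs D, m ∈ Ns e₁.range → m ∈ Ns e₂.range →
      m * (e₁ (xk F n k) * e₂ (xk F n k)) * m⁻¹ = e₁ (xk F n k) * e₂ (xk F n k)) :
    Cs D ≤ Ns (G12 e₁ e₂) := by
  have tt := b.inv.1
  have hP : IsPGroup 2 ↥(D ⊔ zpowers t) :=
    hD.to_sup_of_normal_left' (H9.UF.pg_zp tt) (zpowers_le.2 ht)
  have hPN : D ⊔ zpowers t ≤ Ns D := sup_le le_normalizer (zpowers_le.2 ht)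
  have hNC : Ns D ≤ Ns (Cs D) := H98.normalizer_le_normalizer_centralizer D
  have dec : ∀ h ∈ Cs D ⊔ (D ⊔ zpowers t), ∃ a ∈ Cs D, ∃ p ∈ D ⊔ zpowers t, h = a * p :=
    fun h hh => (H98.mem_sup_right_norm (hPN.trans hNC)).1 hh
  have hodd : ∀ h ∈ Cs D ⊔ (D ⊔ zpowers t), Odd (orderOf h) → h ∈ Cs D := fun h hh ho => by
    obtain ⟨a, ha, p, hp, rfl⟩ := dec h hh
    obtain ⟨j, hj⟩ := H67.exists_pow_eq_one_of_mem hP hp
    have hn' : a * p ∈ Ns (Cs D) := mul_mem (le_normalizer ha) (hNC (hPN hp))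
    refine H67.mem_of_coprime_pow (y := p) (a := orderOf (a * p)) (b := 2 ^ j)
      (fun x hx => by simpa using H98.conj_mem_of_mem_normalizer (inv_mem hn') hx) ?_
      (Nat.Coprime.pow_right _ ((Nat.coprime_two_right).2 ho))
      (by rw [pow_orderOf_eq_one]; exact one_mem _) (by rw [hj]; exact one_mem _)
    rw [show (a * p)⁻¹ * p = p⁻¹ * a⁻¹ * p⁻¹⁻¹ by group]
    exact H98.conj_mem_of_mem_normalizer (inv_mem (hNC (hPN hp))) (inv_mem ha)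
  have hS : ∀ u ∈ Ml n F k, e u ∈ Ns (Cs D ⊔ (D ⊔ zpowers t)) := fun u hu =>
    H98.le_normalizer_sup (zpowers_le.2 (hNC (hQ u hu))) (H98.le_normalizer_sup
      (zpowers_le.2 (hQ u hu)) (zpowers_le.2 (H64.SG.Cs_le_Ns _ (H64.SG.mem_Cs_zpowers.2
        (b.comm u))))) (mem_zpowers _)
  have eM : ∀ u, e u ∈ Ns (G12 e₁ e₂) := fun u => le_normalizer (g.le ⟨u, rfl⟩)
  refine le_trans le_sup_left (jobK10 g.uf (IsConj.refl t) g.uf.mem _ D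
    (mem_sup_right (mem_sup_right (mem_zpowers t))) (le_sup_of_le_right le_sup_left)
    (sup_le (H64.SG.Cs_le_Ns D) hPN) hD hodd (fun m hm mM => ?_) ((Ml n F k).map e) ?_
    (by rw [closure_eq]; exact g.cu k k1 (by omega)) fun O o1 o2 o3 v hv o ho => ?_)
  · obtain ⟨a, ha, p, hp, rfl⟩ := dec m hm
    have pM : p ∈ Ns (G12 e₁ e₂) := sup_le hM (zpowers_le.2 g.uf.mem) hp
    have h1 : cm p t ∈ D := by
      obtain ⟨d, hd, s, hs, rfl⟩ := (H98.mem_sup_right_norm (zpowers_le.2 ht)).1 hp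
      have : s * t = t * s := by
        obtain ⟨j, rfl⟩ := mem_zpowers_iff.1 hs
        exact ((Commute.refl t).zpow_left j).eq
      rw [show cm (d * s) t = d * ((s * t) * s⁻¹ * d⁻¹ * t⁻¹) by unfold cm; group, this,
        show t * s * s⁻¹ * d⁻¹ * t⁻¹ = t * d⁻¹ * t⁻¹ by group]
      exact mul_mem hd (H98.conj_mem_of_mem_normalizer ht (inv_mem hd))
    rw [show cm (a * p) t = a * cm p t * a⁻¹ * cm a t by unfold cm; group]
    exact mul_mem (H98.conj_mem_of_mem_normalizer (H64.SG.Cs_le_Ns D ha) h1)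
      (hc a ha (by simpa using mul_mem mM (inv_mem pM)))
  · rintro _ ⟨u, hu, rfl⟩
    exact ⟨by rw [← map_mul, sq_Ml hu, map_one], eM u, hS u hu, b.comm u, g.tx u (sq_Ml hu)⟩
  · obtain ⟨u, hu, rfl⟩ := hv
    have o4 := H64.SG.odd_orderOf_of_mem o2 ho
    obtain ⟨n1, n2⟩ := odd_nor g.toW0 (o1 ho).2 o4
    have x2 : Is2 (xk F n k) := H64.SG.is2_of_sq (inv2_xk k1 k2).1
    obtain ⟨f1, f2⟩ := fix_both hn c n1 n2 x2 x2 (hO o (hodd o (o1 ho).1 o4) n1 n2)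
    obtain ⟨β, hβ⟩ := exists_ind hn c.ker n1
    obtain ⟨γ, hγ⟩ := exists_ind hn c.ker₂ n2
    have q := hFB.qk k k1 k2
    have b1 := st_Qk q (inj2 c.ker (x2.map β.toMonoidHom) x2 ((hβ _).symm.trans f1)) (Ml_le_Qk k hu)
    have b2 := st_Qk q (inj2 c.ker₂ (x2.map γ.toMonoidHom) x2 ((hγ _).symm.trans f2)) (Ml_le_Qk k hu)
    have h1 : cm o (e u) ∈ two e₁ e₂ (Qk n F k) := by
      refine mul_mem ?_ (inv_mem (c.map_le _ ⟨u, Ml_le_Qk k hu, rfl⟩))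
      rw [c.diag, show o * (e₁ u * e₂ u) * o⁻¹ = o * e₁ u * o⁻¹ * (o * e₂ u * o⁻¹) by group, hβ, hγ]
      exact c.mem_two.2 ⟨_, b1, _, b2, rfl⟩
    have h2 : cm o (e u) ∈ O := by
      rw [show cm o (e u) = o * (e u * o⁻¹ * (e u)⁻¹) by unfold cm; group]
      exact mul_mem ho (H98.conj_mem_of_mem_normalizer (o3 ⟨hS u hu, eM u⟩) (inv_mem ho))
    have h3 := (H64.SG.isPGroup_iff_is2.1 (c.isP_two q.2.2.1) _ h1).eq_one
      (H64.SG.odd_orderOf_of_mem o2 h2)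
    rw [mul_inv_eq_one, mul_inv_eq_iff_eq_mul] at h3
    exact mem_Cz.2 h3.symm

theorem partA8 (hFB : FB8 n F) (hn : 2 ≤ n) (b : CE e t) (c : CW e t e₁ e₂) (g : GW e t e₁ e₂)
    (k1 : 1 ≤ k) (k2 : 2 * k ≤ n + 1) : Cz (e₁ (xk F n k) * t) ≤ Ns (G12 e₁ e₂) := by
  set y := xk F n k with hy
  have tt := b.inv.1
  have ti := b.inv_eq
  have yy : y * y = 1 := (inv2_xk k1 k2).1
  have y2 : Is2 y := H64.SG.is2_of_sq yy
  have e1 : e₁ y * e₁ y = 1 := by rw [← map_mul, yy, map_one]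
  have e2 : e₂ y * e₂ y = 1 := by rw [← map_mul, yy, map_one]
  have dd : e₁ y * t * (e₁ y * t) = e₁ y * e₂ y := by rw [← c.sw, ti]; group
  have d4 : Is2 (e₁ y * t) := H64.SG.Is2.of_pow (k := 1) (by
    rw [pow_one, pow_two, dd]
    exact H64.SG.is2_of_sq (by rw [c.mul_mul, yy, map_one, map_one, mul_one]))
  have di : t * (e₁ y * t) * t⁻¹ = (e₁ y * t)⁻¹ := by
    rw [_root_.mul_inv_rev, ti, inv_eq_of_mul_eq_one_right e1, mul_assoc, mul_assoc, tt, mul_one]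
  have dM : e₁ y * t ∈ Ns (G12 e₁ e₂) :=
    mul_mem (le_normalizer (mem_sup_left ⟨y, rfl⟩)) g.uf.mem
  have nsw : ∀ m ∈ Cs (zpowers (e₁ y * t)), m ∈ Ns e₁.range → m ∈ Ns e₂.range → cm m t = 1 ∧
      m * (e₁ y * e₂ y) * m⁻¹ = e₁ y * e₂ y := fun m hm n1 n2 => by
    have h1 : m * (e₁ y * t) * m⁻¹ = e₁ y * t := by
      rw [← H64.SG.mem_Cs_zpowers.1 hm, mul_inv_cancel_right]
    have h2 : m * (e₁ y * e₂ y) * m⁻¹ = e₁ y * e₂ y := by rw [← dd, ← conj_mul, h1]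
    refine ⟨?_, h2⟩
    rw [← conj_mul, (fix_both hn c n1 n2 y2 y2 h2).1, mul_right_inj] at h1
    rw [cm, h1, mul_inv_cancel]
  intro m hm
  refine key8 hFB hn b c g k1 k2 (zpowers (e₁ y * t)) d4.zpowers
    (H98.mem_normalizer_of_cj_le ?_) (zpowers_le.2 dM) (fun u hu => H64.SG.Cs_le_Ns _
      (H64.SG.mem_Cs_zpowers.2 ?_)) (fun m hm mM => ?_) (fun m hm n1 n2 => (nsw m hm n1 n2).2)
    (H64.SG.mem_Cs_zpowers.2 (mem_Cz.1 hm))
  · rintro _ ⟨a, ha, rfl⟩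
    obtain ⟨j, rfl⟩ := mem_zpowers_iff.1 ha
    change t * _ * t⁻¹ ∈ _
    rw [← conj_zpow, di]
    exact zpow_mem (inv_mem (mem_zpowers _)) j
  · have h1 : u * y = y * u := Ml_le_Cs k (Mk_le_Ml le_rfl (by omega) (xk_mem_Mk k2)) u hu
    rw [mul_assoc, b.comm u, ← mul_assoc, ← mul_assoc, c.diag, ← mul_assoc, ← map_mul, ← h1,
      map_mul, mul_assoc (e₁ u), c.comm y u, ← mul_assoc]
  · rcases g.pm m mM with h1 | h1
    · rw [(nsw m hm h1.1 h1.2).1]; exact one_mem _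
    · have s1 : cjs (e₁ y * t) e₁.range = e₂.range := by
        change H98.cj _ _ = _
        rw [cj_mul', show H98.cj t e₁.range = e₂.range from c.cjs_range]
        exact H98.cj_eq_self_iff.2 (c.G12_le_Ns' (mem_sup_left ⟨y, rfl⟩))
      have s2 : cjs (e₁ y * t) e₂.range = e₁.range := by
        change H98.cj _ _ = _
        rw [cj_mul', show H98.cj t e₂.range = e₁.range from (c.symm tt).cjs_range]
        exact H98.cj_eq_self_iff.2 (le_normalizer ⟨y, rfl⟩)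
      have h2 := (nsw (m * (e₁ y * t)) (mul_mem hm (H64.SG.mem_Cs_zpowers.2 rfl))
        (H98.cj_eq_self_iff.1 (by rw [cj_mul']; exact (congrArg (cjs m) s1).trans h1.2))
        (H98.cj_eq_self_iff.1 (by rw [cj_mul']; exact (congrArg (cjs m) s2).trans h1.1))).1
      have h3 : cm (e₁ y * t) t ∈ zpowers (e₁ y * t) := by
        rw [show cm (e₁ y * t) t = e₁ y * t * (t * (e₁ y * t) * t⁻¹)⁻¹ by unfold cm; group, di]
        exact mul_mem (mem_zpowers _) (inv_mem (inv_mem (mem_zpowers _)))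
      rw [show cm (m * (e₁ y * t)) t = m * cm (e₁ y * t) t * m⁻¹ * cm m t by unfold cm; group,
        mul_eq_one_iff_inv_eq] at h2
      rw [← h2]
      exact inv_mem (H98.conj_mem_of_mem_normalizer (H64.SG.Cs_le_Ns _ hm) h3)

theorem partB8 (hFB : FB8 n F) (hn : 2 ≤ n) (b : CE e t) (c : CW e t e₁ e₂) (g : GW e t e₁ e₂)
    (k1 : 1 ≤ k) (k2 : 2 * k ≤ n + 1) {y : SLn n F} (hy : y ∈ Qk n F k) :
    Cs (two e₁ e₂ (Mk n F k) ⊔ zpowers ((e₁ y)⁻¹ * t)) ≤ Ns (G12 e₁ e₂) := by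
  have tt := b.inv.1
  have ti := b.inv_eq
  have y2 : Is2 y⁻¹ := (is2_of_UU (Qk_le_UU k hy)).inv
  have dd : (e₁ y)⁻¹ * t * ((e₁ y)⁻¹ * t) = e₁ y⁻¹ * e₂ y⁻¹ := by
    rw [← c.sw, ti, map_inv]; group
  have d2 : Is2 ((e₁ y)⁻¹ * t) := H64.SG.Is2.of_pow (k := 1) (by
    rw [pow_one, pow_two, dd]
    exact (y2.map e₁).mul (y2.map e₂) (c.comm _ _))
  have hW : IsPGroup 2 (two e₁ e₂ (Mk n F k)) :=
    c.isP_two (isP_UU.to_le ((Mk_le_Ml le_rfl (by omega)).trans (Ml_le_UU k)))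
  have tW : t ∈ Ns (two e₁ e₂ (Mk n F k)) := c.t_mem_Ns tt _
  have qW : ∀ a ∈ Qk n F k, ∀ a' ∈ Qk n F k, e₁ a * e₂ a' ∈ Cs (two e₁ e₂ (Mk n F k)) :=
    fun a ha a' ha' w hw => by
      obtain ⟨p, hp, p', hp', rfl⟩ := c.mem_two.1 hw
      rw [c.mul_mul, c.mul_mul, Qk_le_Cs k2 ha p hp, Qk_le_Cs k2 ha' p' hp']
  have dW : (e₁ y)⁻¹ * t ∈ Ns (two e₁ e₂ (Mk n F k)) := mul_mem (inv_mem (H64.SG.Cs_le_Ns _
    (by simpa using qW y hy 1 (one_mem _)))) tW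
  have dD := mem_sup_right (S := two e₁ e₂ (Mk n F k)) (mem_zpowers ((e₁ y)⁻¹ * t))
  have nor : ∀ a ∈ Ns (two e₁ e₂ (Mk n F k)), a * ((e₁ y)⁻¹ * t) * a⁻¹ ∈
      two e₁ e₂ (Mk n F k) ⊔ zpowers ((e₁ y)⁻¹ * t) →
      a ∈ Ns (two e₁ e₂ (Mk n F k) ⊔ zpowers ((e₁ y)⁻¹ * t)) := fun a h1 h2 =>
    H98.mem_normalizer_of_cj_le (by
      rw [H98.cj_sup, H98.cj_eq_self_iff.2 h1, cj_zp']
      exact sup_le le_sup_left (zpowers_le.2 h2))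
  have xM := xk_mem_Mk (n := n) (F := F) k2
  have x1 : e₁ (xk F n k) ∈ two e₁ e₂ (Mk n F k) := mem_sup_left ⟨_, xM, rfl⟩
  refine key8 hFB hn b c g k1 k2 _ (hW.to_sup_of_normal_left' d2.zpowers (zpowers_le.2 dW))
    (nor t tW ?_) (sup_le ((two_le _).trans le_normalizer) (zpowers_le.2
      (mul_mem (inv_mem (le_normalizer (mem_sup_left ⟨y, rfl⟩))) g.uf.mem))) (fun u hu => nor _ ?_ ?_)
    (fun m hm mM => ?_) fun m hm _ _ => ?_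
  · have : t * ((e₁ y)⁻¹ * t) * t⁻¹ = (e₂ (y * y))⁻¹ * ((e₁ y)⁻¹ * t)⁻¹ := by
      rw [map_mul, ← c.sw]
      have h9 : t * t = 1 := tt
      rw [show (t * e₁ y * t⁻¹ * (t * e₁ y * t⁻¹))⁻¹ * ((e₁ y)⁻¹ * t)⁻¹ =
        t * (e₁ y)⁻¹ * ((e₁ y)⁻¹ * (t * t)⁻¹ * e₁ y) by group, h9]
      group
    rw [this]
    exact mul_mem (inv_mem (mem_sup_left (mem_sup_right ⟨_, sq_Qk k2 hy, rfl⟩))) (inv_mem dD)
  · rw [c.diag]; exact H64.SG.Cs_le_Ns _ (qW u (Ml_le_Qk k hu) u (Ml_le_Qk k hu))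
  · have : e u * ((e₁ y)⁻¹ * t) * (e u)⁻¹ = e₁ (cm u y⁻¹) * ((e₁ y)⁻¹ * t) := by
      rw [show e u * ((e₁ y)⁻¹ * t) * (e u)⁻¹ = e u * (e₁ y)⁻¹ * (e u)⁻¹ * (e u * t * (e u)⁻¹) by group,
        b.conj_t, c.diag, ← map_inv, c.ind₁ u u]
      simp only [cm, map_mul, map_inv, MulAut.conj_apply]; group
    rw [this]
    exact mul_mem (mem_sup_left (mem_sup_left ⟨_, cm_Qk k2 hu (inv_mem hy), rfl⟩)) dD
  · have h0 : e₁ (xk F n k) * m = m * e₁ (xk F n k) := hm _ (mem_sup_left x1)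
    rcases g.pm m mM with h1 | h1
    · have h2 : m * ((e₁ y)⁻¹ * t) * m⁻¹ = (e₁ y)⁻¹ * t := by rw [← hm _ dD, mul_inv_cancel_right]
      have h3 := (fix_both hn c h1.1 h1.2 y2 y2 (by rw [← dd, ← conj_mul, h2])).1
      rw [← conj_mul, ← map_inv, h3, mul_right_inj] at h2
      rw [cm, h2, mul_inv_cancel]; exact one_mem _
    · exfalso
      have x2 : Is2 (xk F n k) := H64.SG.is2_of_sq (inv2_xk k1 k2).1
      refine (inv2_e c.ker (inv2_xk k1 k2)).2 (c.eq_one hn ⟨_, rfl⟩ ?_ (x2.map e₁))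
      rw [← h1.1, mem_cjs, mul_assoc, h0, inv_mul_cancel_left]
      exact ⟨_, rfl⟩
  · rw [← hm _ (mem_sup_left (c.mem_two.2 ⟨_, xM, _, xM, rfl⟩)), mul_inv_cancel_right]

theorem jobW38 (hFB : J8FB) : J8W3.{u} := by
  intro n F _ _ _ hp G _ _ e t e₁ e₂ b c g
  have B := hFB n F hp
  refine ⟨fun y hy m hm => ?_, fun k k1 k2 y hy => partB8 B hp.two_le b c g k1 k2 hy⟩
  obtain ⟨h, k, k1, k2, hk⟩ := B.ic y hy
  have eM : e h ∈ Ns (G12 e₁ e₂) := le_normalizer (g.le ⟨h, rfl⟩)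
  have h1 : e₁ (xk F n k) * t = e h * (e₁ y * t) * (e h)⁻¹ := by
    rw [← conj_mul, b.conj_t, c.diag, c.ind₁ h h, MulAut.conj_apply, hk]
  have h2 := partA8 B hp.two_le b c g k1 k2 (show e h * m * (e h)⁻¹ ∈ Cz _ from mem_Cz.2 (by
    rw [h1, conj_mul, conj_mul, mem_Cz.1 hm]))
  simpa [mul_assoc] using mul_mem (mul_mem (inv_mem eM) h2) eM

theorem jobWE' (hW0 : J8W0.{u}) (hWU : J8WU.{u}) (hW2 : J8W2.{u}) (hW3 : J8W3.{u}) (hFA : J8FA) :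
    J8WE.{u} := by
  intro n F _ _ _ hp G _ _ e t e₁ e₂ b c g hI
  have hn := hp.two_le
  have A := hFA n F hp
  by_contra hM
  have hU := H64.SG.syl_iff.1 c.syl_two
  obtain ⟨S, hS, hUS⟩ := H98.exists_isSyl_le hU.isPGroup (hU.le.trans le_normalizer)
  have SU : S ≤ Ns (two e₁ e₂ (UU n F)) := by
    rw [← hU.eq_of_le (hS.isPGroup.to_inf_left (K := G12 e₁ e₂)) (le_inf hUS hU.le) inf_le_right]
    exact H98.le_normalizer_inf le_normalizer hS.le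
  obtain ⟨W, a, b', WS, aS, ta, tb, aW, bW, bM, ⟨k, ko, kW⟩, WT, -, hi, -⟩ :=
    H9.UF.jobK4 g.uf hM S (H64.SG.syl_iff.2 hS)
  have WM := WS.trans hS.le
  have hW := hS.isPGroup.to_le WS
  have hi' : ∀ i ∈ Ns W, i ∉ W → i * i ∈ W → ∃ w ∈ W, IsConj t (i * w) := fun i i1 i2 i3 => by
    obtain ⟨w, w1, m, -, w2⟩ := hi i i1 i2 i3
    exact ⟨w, w1, w2 ▸ ta.trans (H9.UF.conj_cj m a)⟩
  have nsw : ∀ s ∈ Ns (G12 e₁ e₂), IsConj t s → s ∉ Ns e₁.range := fun s s1 s2 s3 =>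
    g.ne (H98.cj_eq_self_iff.1 (c.cjs_range.trans
      ((g.sw s s1 s2).symm.trans (H98.cj_eq_self_iff.2 s3))))
  have hUW : ¬ two e₁ e₂ (UU n F) ≤ W := fun h => bM (hI W hW WM h bW)
  by_cases hW1 : W ≤ Ns e₁.range
  · obtain ⟨i, i1, i2, i3, i4⟩ := exists_step hS.isPGroup WS hUS (WS.trans SU) hUW
    obtain ⟨w, w1, w2⟩ := hi' i i3 i2 i4
    exact nsw _ (hS.le (mul_mem (hUS i1) (WS w1))) w2 (mul_mem (c.G12_le_Ns (hU.le i1)) (hW1 w1))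
  obtain ⟨w₀, w1, w2⟩ := SetLike.not_le_iff_exists.1 hW1
  have sw0 := (g.pm w₀ (WM w1)).resolve_left fun h => w2 h.1
  have sw : ∀ w ∈ W, w ∉ Ns e₁.range → w * w₀⁻¹ ∈ Ns e₁.range := fun w h1 h2 => by
    have h3 := (g.pm w (WM h1)).resolve_left fun h => h2 h.1
    refine H98.cj_eq_self_iff.1 ?_
    rw [cj_mul']
    have : H98.cj w₀⁻¹ e₁.range = e₂.range := by
      rw [← show H98.cj w₀ e₂.range = e₁.range from sw0.2, ← cj_mul', inv_mul_cancel, H98.cj_one]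
    rw [this]; exact h3.2
  have U1 : (UU n F).map e₁ ≤ S := le_sup_left.trans hUS
  -- step (β)
  have beta : ∀ B ≤ UU n F, St (UU n F) ≤ St B → ¬ B.map e₁ ≤ W →
      ∃ y ∈ B, e₁ y ∉ W ∧ e₁ y ∈ Ns W ∧ e₁ (y * y) ∈ W := fun B hB hSt hBW => by
    have h1 : W ⊓ Ns e₁.range ≤ Ns (B.map e₁) := fun m hm => by
      obtain ⟨β, hβ⟩ := exists_ind hn c.ker hm.2
      refine hβ.mem_Ns_map (hSt (hβ.st c.ker isP_UU (H98.mem_normalizer_of_cj_le ?_)))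
      rintro _ ⟨x, hx, rfl⟩
      exact inf_left hn c (H98.conj_mem_of_mem_normalizer (SU (WS hm.1)) (mem_sup_left hx))
        (H98.conj_mem_of_mem_normalizer hm.2 (map_le_range _ _ hx))
    obtain ⟨_, ⟨y, y1, rfl⟩, y2, y3, y4⟩ := exists_step hS.isPGroup (inf_le_left.trans WS)
      ((map_mono hB).trans U1) h1 fun h => hBW (h.trans inf_le_left)
    have y5 : e₁ y ∈ Ns e₁.range := le_normalizer ⟨y, rfl⟩
    have y6 : w₀ * (e₁ y)⁻¹ * w₀⁻¹ ∈ e₂.range := by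
      rw [← sw0.1]; exact conj_mem_cjs.2 (inv_mem ⟨y, rfl⟩)
    refine ⟨y, y1, fun h => y2 ⟨h, y5⟩, nor_of (t := t) inf_le_left w1 ⟨mul_mem w1 w1, ?_⟩ ?_
      (fun w h => ?_) y3 y4 (c.le_Cs y6 _ ⟨y, rfl⟩) WT hi' fun w h h' => ?_, by
        rw [map_mul]; exact y4.1⟩
    · refine H98.cj_eq_self_iff.1 ?_
      rw [cj_mul']; exact (congrArg (cjs w₀) sw0.1).trans sw0.2
    · refine H98.mem_normalizer_of_cj_le ?_
      rintro _ ⟨w, h, rfl⟩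
      refine ⟨H98.conj_mem_of_mem_normalizer (le_normalizer w1) h.1, ?_⟩
      have h2 := ((g.pm w (WM h.1)).resolve_right fun k => g.ne (H98.cj_eq_self_iff.1
        (c.cjs_range.trans (k.1.symm.trans (H98.cj_eq_self_iff.2 h.2))))).2
      rw [← sw0.2, ← H64.SG.cj_Ns]
      exact conj_mem_cjs.2 h2
    · by_cases k : w ∈ Ns e₁.range
      exacts [Or.inl ⟨h, k⟩, Or.inr (mem_inf.2 ⟨mul_mem h (inv_mem w1), sw w h k⟩)]
    · have h2 : cm (e₁ y) w₀ ∈ G12 e₁ e₂ := by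
        rw [show cm (e₁ y) w₀ = e₁ y * (w₀ * (e₁ y)⁻¹ * w₀⁻¹) by unfold cm; group]
        exact mul_mem (mem_sup_left ⟨y, rfl⟩) (mem_sup_right y6)
      exact nsw _ (mul_mem (le_normalizer h2) (WM h.1)) h' (mul_mem (c.G12_le_Ns h2) h.2)
  -- the final step
  have fin : ∀ y ∈ UU n F, e₁ y ∉ W → e₁ y ∈ Ns W → e₁ (y * y) ∈ W →
      (y * y = 1 ∨ 2 < Nat.card ↥(W ⊓ e₁.range)) →
      (∀ s e', s ∈ Ns W → (e₁ y)⁻¹ * s ∈ W → CE e' s → CW e' s e₁ (cje s e₁) →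
        GW e' s e₁ (cje s e₁) → Cs W ≤ Ns (G12 e₁ (cje s e₁))) → False := by
    intro y y1 y2 y3 y4 y5 hC
    obtain ⟨w, h1, m, m1, h2⟩ := hi _ y3 y2 (map_mul e₁ y y ▸ y4)
    have sM : e₁ y * w ∈ Ns (G12 e₁ e₂) := hS.le (mul_mem (U1 ⟨y, y1, rfl⟩) (WS h1))
    have mM := (H9.UF.jobK1 g.uf ta (hS.le aS)).1 m (h2 ▸ sM)
    have ts : IsConj t (e₁ y * w) := h2 ▸ ta.trans (H9.UF.conj_cj m a)
    have h3 := g.sw _ sM ts
    obtain ⟨e', c1, c2⟩ := g.chg _ ts h3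
    have g' := hWU n F hp G e' _ e₁ _ c1 c2 (hW0 n F hp G e' _ e₁ _ c1 c2)
    have hG : G12 e₁ (cje (e₁ y * w) e₁) = G12 e₁ e₂ := by rw [G12, range_cje, h3]
    have sW : e₁ y * w ∈ Ns W := mul_mem y3 (le_normalizer h1)
    have sW' : (e₁ y)⁻¹ * (e₁ y * w) ∈ W := by rwa [inv_mul_cancel_left]
    have kW' : (e₁ y * w * (m * b' * m⁻¹)) ^ k ∈ W := by
      rw [h2, conj_mul, conj_pow]; exact H98.conj_mem_of_mem_normalizer m1 kW
    have h4 := hW2 n F hp G e' _ e₁ _ c1 c2 g' W (m * b' * m⁻¹) k y hW (hG ▸ WM) sW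
      (mul_mem (mul_mem m1 bW) (inv_mem m1))
      (H9.UF.inv2_conj g.uf.inv (tb.trans (H9.UF.conj_cj m b'))).1 ko kW' y4 sW' y5
    obtain ⟨i, j, e1, e2, e3⟩ := H64.SG.exists_two_odd (e₁ y * w * (m * b' * m⁻¹))
    have h5 := hG ▸ hC _ e' sW sW' c1 c2 g' (h4 _ (pow_mem (mem_zpowers _) j) e3)
    obtain ⟨r, hr⟩ := e2.exists_pow ko
    have h6 : (e₁ y * w * (m * b' * m⁻¹)) ^ i ∈ W := by
      rw [← hr, ← pow_mul _ i k, mul_comm i k, pow_mul]; exact pow_mem (pow_mem kW' i) r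
    have h7 := mul_mem (WM h6) h5
    rw [← e1] at h7
    have h8 := mul_mem (mul_mem (inv_mem mM) (mul_mem (inv_mem sM) h7)) mM
    exact bM (by simpa [mul_assoc] using h8)
  have l1 : 1 ≤ (n + 1) / 2 := by omega
  have l2 : 2 * ((n + 1) / 2) ≤ n + 1 := by omega
  set l := (n + 1) / 2 with hl
  have MU : Mk n F l ≤ UU n F := (Mk_le_Ml le_rfl (by omega)).trans (Ml_le_UU l)
  have conjW : ∀ s ∈ Ns W, ∀ u, e₁ u ∈ W → cje s e₁ u ∈ W := fun s hs u hu =>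
    H98.conj_mem_of_mem_normalizer hs hu
  by_cases ca : (Mk n F l).map e₁ ≤ W
  swap
  · obtain ⟨y, y1, y2, y3, y4⟩ := beta _ MU (fun β h => ((A.nu β h).2 l).1) ca
    have yy := sq_Mk l2 y1
    refine fin y (MU y1) y2 y3 y4 (Or.inl yy) fun s e' _ s2 c1 c2 g' m hm => ?_
    refine (hW3 n F hp G e' s e₁ _ c1 c2 g').1 y ⟨yy, fun h => y2 (by rw [h, map_one]; exact one_mem _)⟩
      (mem_Cz.2 (hm _ ?_))
    rwa [← map_inv, inv_eq_of_mul_eq_one_right yy] at s2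
  have big : 2 < Nat.card ↥(W ⊓ e₁.range) := by
    refine lt_of_lt_of_le ?_ (card_le_of_le (le_inf ca (map_le_range _ _)))
    rw [card_map2 c.ker (isP_UU.to_le MU), card_Mk l2]
    have q2 : 2 ≤ Nat.card F := Finite.one_lt_card
    have h3 := hp.three
    calc 2 < 2 ^ 2 := by norm_num
      _ ≤ Nat.card F ^ 2 := Nat.pow_le_pow_left q2 2
      _ ≤ _ := Nat.pow_le_pow_right (by omega) (by nlinarith [show 2 ≤ l by omega])
  by_cases cb : (Qk n F l).map e₁ ≤ W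
  swap
  · obtain ⟨y, y1, y2, y3, y4⟩ := beta _ (Qk_le_UU l) (fun β h => ((A.nu β h).2 l).2) cb
    refine fin y (Qk_le_UU l y1) y2 y3 y4 (Or.inr big) fun s e' s1 s2 c1 c2 g' m hm =>
      (hW3 n F hp G e' s e₁ _ c1 c2 g').2 l l1 l2 y y1 fun a ha => hm a ?_
    refine (sup_le (sup_le ca ?_) (zpowers_le.2 s2) : _ ≤ W) ha
    rintro _ ⟨u, hu, rfl⟩
    exact conjW s s1 u (ca ⟨u, hu, rfl⟩)
  have cc : ¬ (UU n F).map e₁ ≤ W := fun h => hUW (sup_le h (by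
    rintro _ ⟨u, hu, rfl⟩
    have h1 : w₀⁻¹ * e₂ u * w₀ ∈ W := h (inf_left hn c (by
      simpa using H98.conj_mem_of_mem_normalizer (inv_mem (SU (WS w1))) (mem_sup_right ⟨u, hu, rfl⟩))
      (mem_cjs.1 (sw0.1 ▸ ⟨u, rfl⟩)))
    simpa [mul_assoc] using mul_mem (mul_mem w1 h1) (inv_mem w1)))
  obtain ⟨y, y1, y2, y3, y4⟩ := beta _ le_rfl le_rfl cc
  refine fin y y1 y2 y3 y4 (Or.inr big) fun s e' s1 _ _ c2 g' => le_trans (centralizer_le ?_)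
    (g'.cu l l1 (by omega))
  rintro _ ⟨u, hu, rfl⟩
  have h1 := cb ⟨u, Ml_le_Qk l hu, rfl⟩
  rw [c2.diag]
  exact mul_mem h1 (conjW s s1 u h1)

theorem jobWE (W0 : J8W0.{u}) (WU : J8WU.{u}) (A : J8FA) (B : J8FB) : J8WE.{u} :=
  jobWE' W0 WU jobW28 (jobW38 B) A

end H87.A8WE
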