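import Cfsg.Agent.H63.KgvSpec
import Cfsg.Agent.H28.Degree

/-! Tower KGV, slot GcSt: closure properties of `Good`. -/

set_option autoImplicit false

namespace H87.KgvGc

open Finset Cfsg ComplexConjugate H63.Kgv H28

universe u

variable {p : ℕ} [Fact p.Prime] {E : Type u} [Group E]

theorem ee_add (a b : ZMod p) : ee p (a + b) = ee p a * ee p b := AddChar.map_add_eq_mul _ a b

theorem ee_conj (a : ZMod p) : conj (ee p a) = ee p (-a) := (AddChar.map_neg_eq_conj _ a).symm

theorem g_congr {f f' : ZMod p → E → ℂ} (h : Good p E f) (e : ∀ t, t ≠ 0 → ∀ y, f' t y = f t y) :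
    Good p E f' := by
  obtain ⟨Θ, h1, h2⟩ := h
  exact ⟨Θ, h1, fun t ht y => (e t ht y).trans (h2 t ht y)⟩

theorem g_add {f f' : ZMod p → E → ℂ} (h : Good p E f) (h' : Good p E f') :
    Good p E fun t y => f t y + f' t y := by
  obtain ⟨Θ, h1, h2⟩ := h
  obtain ⟨Θ', h1', h2'⟩ := h'
  refine ⟨fun c => Θ c + Θ' c, fun c => Cfsg.IsGeneralizedCharacter.add (h1 c) (h1' c),
    fun t ht y => ?_⟩
  simp only [h2 t ht y, h2' t ht y, Pi.add_apply, mul_add, sum_add_distrib]

theorem g_mul {f f' : ZMod p → E → ℂ} (h : Good p E f) (h' : Good p E f') :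
    Good p E fun t y => f t y * f' t y := by
  obtain ⟨Θ, h1, h2⟩ := h
  obtain ⟨Θ', h1', h2'⟩ := h'
  refine ⟨fun c => ∑ a : ZMod p, Θ a * Θ' (c - a), fun c => isGeneralizedCharacter_sum _ fun a _ =>
    Cfsg.IsGeneralizedCharacter.mul (h1 a) (h1' _), fun t ht y => ?_⟩
  show f t y * f' t y = _
  rw [h2 t ht y, h2' t ht y, sum_mul_sum]
  simp only [Finset.sum_apply, Pi.mul_apply, mul_sum]
  refine Eq.trans (sum_congr rfl fun a _ => ?_) sum_comm
  rw [← Equiv.sum_comp (Equiv.addLeft a) fun c => ee p (t * c) * (Θ a y * Θ' (c - a) y)]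
  refine sum_congr rfl fun b _ => ?_
  simp only [Equiv.coe_addLeft, add_sub_cancel_left, mul_add, ee_add]
  ring

theorem g_single (θ : E → ℂ) (c : ZMod p) (h : IsGeneralizedCharacter E θ) :
    Good p E fun t y => ee p (t * c) * θ y := by
  classical
  refine ⟨fun a => if a = c then θ else 0, fun a => ?_, fun t _ y => ?_⟩
  · by_cases e : a = c
    · simp only [e, if_true]; exact h
    · simp only [e, if_false]; exact isGeneralizedCharacter_zero
  · rw [sum_eq_single c (fun b _ hb => by simp [hb]) (by simp)]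
    simp

theorem g_conj [Finite E] {f : ZMod p → E → ℂ} (h : Good p E f) :
    Good p E fun t y => conj (f t y) := by
  obtain ⟨Θ, h1, h2⟩ := h
  refine ⟨fun c y => conj (Θ (-c) y), fun c => Cfsg.IsGeneralizedCharacter.conj (h1 _),
    fun t ht y => ?_⟩
  simp only [h2 t ht y, map_sum, map_mul, ee_conj]
  rw [← Equiv.sum_comp (Equiv.neg (ZMod p))]
  refine sum_congr rfl fun c _ => ?_
  simp

theorem g_int (z : ℤ) : Good p E fun _ _ => (z : ℂ) := by
  refine g_congr (g_single ((z : ℂ) • fun _ : E => (1 : ℂ)) 0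
    (Cfsg.IsGeneralizedCharacter.intCast_smul isGeneralizedCharacter_one z)) fun t _ y => ?_
  simp

theorem g_ind [Fintype E] (H : Subgroup E) {f : ZMod p → H → ℂ} (h : Good p H f) :
    Good p E fun t => indFun H (f t) := by
  obtain ⟨Θ, h1, h2⟩ := h
  refine ⟨fun c => indFun H (Θ c), fun c => Cfsg.IsGeneralizedCharacter.indFun (h1 c),
    fun t ht y => ?_⟩
  have key : ∀ x : E, extendByZero H (f t) x = ∑ c : ZMod p, ee p (t * c) * extendByZero H (Θ c) x := by
    intro x
    by_cases hx : x ∈ H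
    · obtain ⟨a, rfl⟩ : ∃ a : H, (a : E) = x := ⟨⟨x, hx⟩, rfl⟩
      simp only [extendByZero, Subtype.val_injective.extend_apply]
      exact h2 t ht a
    · have hn : ¬ ∃ a : H, (a : E) = x := fun ⟨a, ha⟩ => hx (ha ▸ a.2)
      simp only [extendByZero, Function.extend_apply' _ _ _ hn, Pi.zero_apply, mul_zero,
        sum_const_zero]
  simp only [indFun, key, mul_sum]
  rw [sum_comm]
  refine sum_congr rfl fun c _ => sum_congr rfl fun x _ => ?_
  ring

theorem g_fin {ι : Type} (s : Finset ι) (f : ι → ZMod p → E → ℂ) (h : ∀ i ∈ s, Good p E (f i)) :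
    (Good p E fun t y => ∑ i ∈ s, f i t y) ∧ Good p E fun t y => ∏ i ∈ s, f i t y := by
  classical
  induction s using Finset.induction_on with
  | empty =>
    exact ⟨g_congr (g_int 0) fun _ _ _ => by simp, g_congr (g_int 1) fun _ _ _ => by simp⟩
  | insert a s ha ih =>
    obtain ⟨i1, i2⟩ := ih fun i hi => h i (mem_insert_of_mem hi)
    have h0 := h a (mem_insert_self a s)
    exact ⟨g_congr (g_add h0 i1) fun _ _ _ => by rw [sum_insert ha],
      g_congr (g_mul h0 i2) fun _ _ _ => by rw [prod_insert ha]⟩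

theorem job : H63.Kgv.GcSt.{u} := fun _ _ _ _ _ =>
  ⟨fun _ _ => g_congr, fun _ _ => g_add, fun _ _ => g_mul, g_single, fun _ => g_conj, g_int,
    fun H _ => g_ind H, fun _ s f => g_fin s f⟩

end H87.KgvGc
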