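import Cfsg.Agent.H64.YESpec
import Cfsg.Agent.H14.Std

/-! STD-SP endgame (row S3129): job Z1, the centraliser of a root involution. -/

set_option autoImplicit false
set_option linter.unusedSectionVars false

namespace H87.YeZ1

open H64.SG (O2 Syl Cz Cs Ns cjs Is2 Inv2 UF IsO2 fx mem_Cs mem_Cz is2_of_sq isPGroup_iff_is2)
open Subgroup H67.UA H67.SP H64.YE
open H67.SA (cm St conj_mem_St)
open H59.SO (Ind CE ind_conj)

universe u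

variable {n : ℕ} {F : Type} [Field F] [StarRing F] [TrivialStar F] [CharP F 2] [Finite F]
  {Y : Type} [Group Y] [Finite Y] [QS Y] {G : Type u} [Group G] [Finite G] {ι : XU n F →* Y}
  {τ : MulAut Y} {Gd Go : XU n F → Prop} {U : Subgroup Y} {e : XU n F →* G} {t : G} {Φ : Y →* G}
  {K₀ : Subgroup G} {r : Y} {Z Q : Subgroup Y}

theorem ns_conj {A : Subgroup G} {g a : G} (hg : g ∈ Ns A) (ha : a ∈ A) : g * a * g⁻¹ ∈ A :=
  (mem_normalizer_iff.1 hg a).1 ha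

/-- An element of `M` that centralises `Φ r` induces an automorphism that fixes `r`. -/
theorem ind_r (h : E1 ι τ Gd Go U e t Φ K₀) (hr : RD ι τ Go U r Z Q) {m : G}
    (hm : m ∈ Ns Φ.range) (hc : m ∈ Cz (Φ r)) : ∃ β, Ind Φ m β ∧ β ∈ St Z ∧ β ∈ St Q := by
  obtain ⟨β, hβ⟩ := exists_ind h.ker hm
  have := hr.str β ((ind_comm_iff h.ker hβ (is2_of_sq hr.inv.1)).1 (mem_Cz.1 hc).symm)
  exact ⟨β, hβ, this, hr.stq β this⟩

theorem cs_le (h : E1 ι τ Gd Go U e t Φ K₀) (hr : RD ι τ Go U r Z Q) :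
    (Cs Z).map Φ ≤ K₀ ⊓ Cz (Φ r) := by
  rintro _ ⟨p, hp, rfl⟩
  exact ⟨h.le ⟨p, rfl⟩, mem_Cz.2 (by rw [← map_mul, ← map_mul, mem_Cs.1 hp r hr.rz])⟩

theorem t_mem (h : E1 ι τ Gd Go U e t Φ K₀) (hr : RD ι τ Go U r Z Q) :
    t ∈ Ns (K₀ ⊓ Cz (Φ r)) := by
  have hn := h.nor
  have ht : t ∈ Cz (Φ r) := mem_Cz.2 (h.act.comm hr.tr).symm
  refine mem_normalizer_iff.2 fun g => ⟨fun hg => ⟨hn.conj_mem g hg.1 t, ?_⟩, fun hg => ⟨?_, ?_⟩⟩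
  · exact (Cz (Φ r)).mul_mem (mul_mem ht hg.2) (inv_mem ht)
  · have := hn.conj_mem _ hg.1 t⁻¹
    rwa [show t⁻¹ * (t * g * t⁻¹) * t⁻¹⁻¹ = g by group] at this
  · have := mul_mem (mul_mem (inv_mem ht) hg.2) ht
    rwa [show t⁻¹ * (t * g * t⁻¹) * t = g by group] at this

theorem case2 (h : E1 ι τ Gd Go U e t Φ K₀) (hr : RD ι τ Go U r Z Q) (hz : RZ τ r Z Q)
    (hN : K₀ ⊓ Ns (Z.map Φ) ≤ Ns Φ.range) {N B : Subgroup G}
    (g : GD (Ns Φ.range) (K₀ ⊓ Cz (Φ r)) (U.map Φ) ((zpowers r).map Φ) (Z.map Φ) N B) : False := by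
  have hU := h.syl.2.1
  have hQ : IsPGroup 2 Q := hU.to_le hr.qu
  have hZ : IsPGroup 2 Z := hQ.to_le hr.zq
  obtain ⟨a, ha, b, hb, haB, hbB, hab⟩ := g.four
  obtain ⟨d, dN, dZ, -, hd⟩ := g.tr a ha b hb haB hbB
  have dH := g.nh dN
  obtain ⟨β, hβ, -, bQ⟩ := ind_r h hr (hN ⟨dH.1, dZ⟩) dH.2
  have nN : ∀ p ∈ Cs Z, Φ p ∈ Ns N := fun p hp => by
    have hc : ∀ z ∈ Z.map Φ, Φ p * z * (Φ p)⁻¹ = z := by
      rintro _ ⟨z, hz, rfl⟩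
      rw [← map_mul, ← mem_Cs.1 hp z hz, map_mul, mul_inv_cancel_right]
    have hp' : Φ p ∈ Ns (Z.map Φ) :=
      centralizer_le_normalizer _ (mem_Cs.2 fun z hz => (mul_inv_eq_iff_eq_mul.1 (hc z hz)).symm)
    rcases g.cj (Φ p) ⟨cs_le h hr ⟨p, hp, rfl⟩, hp'⟩ with h1 | h1
    · exact h1.1
    · obtain ⟨x, hx, y, hy, rfl⟩ := g.dec a ha
      exact absurd (mul_mem (h1 ⟨x, hx, hc x hx.1⟩) hy) haB
  by_cases hall : ∀ x ∈ Q, β x * x⁻¹ ∈ Z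
  · obtain ⟨a, ha, rfl⟩ := ha
    obtain ⟨b, hb, rfl⟩ := hb
    rw [hβ a, hz.zq β bQ hall a ha] at hd
    refine hab ?_
    rwa [← map_inv, inv_eq_of_mul_eq_one_right (hr.z2 b hb), ← inv_eq_of_mul_eq_one_right (hr.z2 a ha),
      map_inv] at hd
  · push Not at hall
    obtain ⟨x, hx, hxZ⟩ := hall
    have hx1 : β x * x⁻¹ ∈ Q := mul_mem ((bQ x).1 hx) (inv_mem hx)
    have hN1 : Φ (β x * x⁻¹) ∈ N := by
      rw [map_mul, map_inv, ← hβ x, show d * Φ x * d⁻¹ * (Φ x)⁻¹ = d * (Φ x * d⁻¹ * (Φ x)⁻¹) by group]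
      exact mul_mem dN (ns_conj (nN x (hr.uz (hr.qu hx))) (inv_mem dN))
    obtain ⟨p, hp, h1, h2⟩ := hz.qn _ hx1 hxZ
    generalize β x * x⁻¹ = y at *
    have pQ : MulAut.conj p ∈ St Q :=
      hr.stq _ (conj_mem_St.2 (centralizer_le_normalizer _ hp))
    have hyQ : cm p y ∈ Q := mul_mem ((pQ y).1 hx1) (inv_mem hx1)
    have hyN : Φ (cm p y) ∈ N := by
      rw [map_mul, map_mul, map_mul, map_inv, map_inv]
      exact mul_mem (ns_conj (nN p hp) hN1) (inv_mem hN1)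
    have := g.om _ ⟨⟨_, hr.qu hyQ, rfl⟩, hyN⟩ (by rw [← map_mul, h1, map_one]; exact one_mem _)
    exact h2 ((mem_map2 h.ker hZ (is2_of_sq h1)).1 this)

/-- An odd subgroup normalised by `t` and `Φ (C Z)` centralises `Φ Q`. -/
theorem case1 (h : E1 ι τ Gd Go U e t Φ K₀) (hr : RD ι τ Go U r Z Q) (O : Subgroup G)
    (odd : Odd (Nat.card O)) (ht : t ∈ Ns O) (hB : (Cs Z).map Φ ≤ Ns O)
    (hM : O ⊓ Ns Φ.range ≤ Ns (Q.map Φ)) : O ≤ Cs (Q.map Φ) := by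
  have hQ : IsPGroup 2 Q := h.syl.2.1.to_le hr.qu
  have hoo : ∀ o ∈ O, Odd (orderOf o) := fun o ho => odd.of_dvd_nat (O.orderOf_dvd_natCard ho)
  have h1 : ∀ o ∈ O, o ∈ Ns Φ.range → o ∈ Cs Φ.range := fun o ho hm => by
    obtain ⟨β, hβ⟩ := exists_ind h.ker hm
    refine (ind_eq_one_iff h.ker hβ).1 (hr.co β (ind_fix h.ker hβ hQ ?_) (ind_odd h.ker hβ (hoo o ho)))
    refine mem_Cs.2 fun x hx => ?_
    have a1 : o * x * o⁻¹ * x⁻¹ ∈ Q.map Φ := mul_mem (ns_conj (hM ⟨ho, hm⟩) hx) (inv_mem hx)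
    have a2 : o * x * o⁻¹ * x⁻¹ ∈ O := by
      rw [show o * x * o⁻¹ * x⁻¹ = o * (x * o⁻¹ * x⁻¹) by group]
      exact mul_mem ho (ns_conj (hB (map_mono (hr.qu.trans hr.uz) hx)) (inv_mem ho))
    obtain ⟨k, hk⟩ := isPGroup_iff_is2.1 (hQ.map Φ) _ a1
    have a3 : orderOf (o * x * o⁻¹ * x⁻¹) = 1 :=
      Nat.Coprime.eq_one_of_dvd ((Nat.coprime_two_right.2 (hoo _ a2)).pow_right k)
        (orderOf_dvd_of_pow_eq_one hk)
    rw [orderOf_eq_one_iff, mul_inv_eq_one, mul_inv_eq_iff_eq_mul] at a3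
    exact a3.symm
  have h2 : ∀ v, v * v = 1 → Go v → ι v ∈ Cs Z → O ≤ Cz (Φ (ι v)) := fun v hv hg hc => by
    by_cases h0 : Φ (ι v) = 1
    · exact fun o _ => mem_Cz.2 (by rw [h0, one_mul, mul_one])
    have := Fact.mk Nat.prime_two
    have hcm : t * Φ (ι v) = Φ (ι v) * t := by rw [h.res]; exact (h.cen _ ⟨v, rfl⟩).symm
    refine H14.le_of_four (a := t) (b := Φ (ι v))
      (orderOf_eq_prime (by rw [sq, h.inv.1]) h.inv.2)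
      (orderOf_eq_prime (by rw [sq, ← map_mul, ← map_mul, hv, map_one, map_one]) h0) hcm
      (fun e1 => h.nt (e1 ▸ h.le ⟨_, rfl⟩)) (Nat.coprime_two_right.2 odd) ht (hB ⟨_, hc, rfl⟩)
      (fun o ho => mem_Cz.2 (h1 o ho.1 (h.ct ho.2) _ ⟨_, rfl⟩)) inf_le_right
      (fun o ho => mem_Cz.2 (h1 o ho.1 (h.go v hv hg (by rw [← h.res]; exact ho.2)) _ ⟨_, rfl⟩))
  intro o ho
  have : EG ι Go (Cs Z) ≤ (Cz o).comap Φ := (closure_le _).2 (by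
    rintro _ ⟨b, hb, v, hv, hg, hc, rfl⟩
    have a1 := mem_Cz.1 (h2 v hv hg hc (ns_conj (hB ⟨b⁻¹, inv_mem hb, rfl⟩) ho))
    refine mem_Cz.2 ?_
    rw [map_inv] at a1
    rw [map_mul, map_mul, map_inv]
    calc _ = Φ b * ((Φ b)⁻¹ * o * (Φ b)⁻¹⁻¹ * Φ (ι v)) * (Φ b)⁻¹ := by group
      _ = _ := by rw [← a1]; group)
  rintro _ ⟨x, hx, rfl⟩
  exact (mem_Cz.1 (this (hr.gq hx))).symm

theorem core (gc : JobGC.{u}) (h : E1 ι τ Gd Go U e t Φ K₀) (hr : RD ι τ Go U r Z Q)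
    (hz : RZ τ r Z Q) (hs : SC U Φ K₀ (zpowers r) Z) (hN : K₀ ⊓ Ns (Z.map Φ) ≤ Ns Φ.range)
    (c1 : ∀ O : Subgroup G, Odd (Nat.card O) → t ∈ Ns O → (Cs Z).map Φ ≤ Ns O →
      O ⊓ Ns Φ.range ≤ Ns (Q.map Φ) → O ≤ Cs (Q.map Φ)) :
    K₀ ⊓ Cz (Φ r) ≤ Ns Φ.range := by
  have hUH : U.map Φ ≤ K₀ ⊓ Cz (Φ r) := (map_mono hr.uz).trans (cs_le h hr)
  have hV : K₀ ⊓ Cz (Φ r) ≤ Cs ((zpowers r).map Φ) := fun g hg => mem_Cs.2 (by
    rintro _ ⟨_, ⟨k, rfl⟩, rfl⟩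
    rw [map_zpow]
    exact (Commute.zpow_left (mem_Cz.1 hg.2) k))
  rcases gc G (Ns Φ.range) (K₀ ⊓ Cz (Φ r)) (U.map Φ) ((zpowers r).map Φ) (Z.map Φ)
    ⟨hUH, h.sylK.2.1, h.sylK.2.2.of_dvd_nat
      (Dvd.intro _ (relIndex_mul_relIndex _ _ _ hUH inf_le_left))⟩
    (map_mono (zpowers_le.2 hr.rz)) (map_mono (hr.zq.trans hr.qu)) hV
    (by
      rintro _ ⟨z, hz, rfl⟩
      rw [← map_mul, hr.z2 z hz, map_one]
      exact one_mem _)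
    (by
      rintro _ ⟨z, hz, rfl⟩ g hg hu
      exact hs z hz g hg.1 (hV hg) hu)
    (fun m hm => by
      obtain ⟨β, hβ, h1, -⟩ := ind_r h hr hm.1 hm.2.2
      exact hβ.mem_Ns_map h1) with ⟨O, hO, odd, hno, hdec⟩ | ⟨N, B, g⟩
  · have hc := c1 O odd (hno (t_mem h hr)) ((cs_le h hr).trans (le_normalizer.trans hno))
      fun m hm => by
        obtain ⟨β, hβ, -, h1⟩ := ind_r h hr hm.2 (hO hm.1).2
        exact hβ.mem_Ns_map h1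
    intro g hg
    obtain ⟨o, ho, m, hm, rfl⟩ := hdec g hg
    refine mul_mem (hN ⟨(hO ho).1, centralizer_le_normalizer _ ?_⟩) (hN ⟨hm.1.1, hm.2⟩)
    exact centralizer_le (SetLike.coe_subset_coe.2 (map_mono hr.zq)) (hc ho)
  · exact (case2 h hr hz hN g).elim

theorem jobZ1 : H64.YE.JobZ1.{u} := by
  intro gc n F _ _ _ _ _ _ G _ _ e t Y _ _ _ ι τ Gd Go U Φ K₀ h r Z Q hr hz hs hN
  exact core gc h hr hz hs hN (case1 h hr)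

end H87.YeZ1
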