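import Cfsg.Agent.H28.DegSum
import Cfsg.Agent.H29.Codeg
import Cfsg.Agent.H40.GlSolv
import Cfsg.Agent.H40.CopDeg
import Cfsg.Agent.H32.FullyRam
import Cfsg.Agent.H2.CoreFree

/-! Subgroups contained in the kernels of all irreducible characters of `p'`-degree. -/

set_option autoImplicit false

namespace H87
open Cfsg H28

variable {G : Type*} [Group G] [Finite G] {p : ℕ}

/-- `K` lies in the kernel of each irreducible character of degree prime to `p`. -/
def PKer (p : ℕ) (K : Subgroup G) : Prop :=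
  ∀ χ : G → ℂ, IsIrrCharacter G χ → ¬ p ∣ charDegree χ → K ≤ charKer χ

theorem exists_constituent_not_dvd {P : Type*} [Group P] [Fintype P] {η : P → ℂ}
    (hη : IsCharacter P η) (hk : ¬ p ∣ charDegree η) :
    ∃ θ : P → ℂ, IsIrrCharacter P θ ∧ classInner η θ ≠ 0 ∧ ¬ p ∣ charDegree θ := by
  by_contra hc
  push Not at hc
  apply hk
  obtain ⟨a, ha, he⟩ := hη.exists_nat_coeffs
  have h1 : charDegree η = ∑ ψ : IrrCharacter P, a ψ * charDegree (ψ : P → ℂ) := by
    apply charDegree_eq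
    conv_lhs => rw [he]
    simp [Finset.sum_apply, (Subtype.prop _ : IsIrrCharacter P _).cast_charDegree]
  rw [h1]
  refine Finset.dvd_sum fun ψ _ => ?_
  by_cases h0 : a ψ = 0
  · simp [h0]
  exact (hc ψ ψ.2 (by rw [ha]; exact_mod_cast h0)).mul_left _

theorem PKer.subgroupOf (hp : p.Prime) {K H : Subgroup G} (h : PKer p K) (hH : ¬ p ∣ H.index) :
    PKer p (K.subgroupOf H) := by
  intro ξ hξ hd
  have := Fintype.ofFinite G
  have := Fintype.ofFinite H
  obtain ⟨χ, hχ, h1, h2⟩ := exists_constituent_not_dvd (p := p) hξ.isCharacter.indFun (by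
    rw [hξ.isCharacter.charDegree_indFun, hp.dvd_mul]
    tauto)
  rw [H33.classInner_indFun_left _ _ hχ.isClassFunction, Ne, classInner_eq_zero_comm] at h1
  refine le_trans ?_ ((hχ.isCharacter.restrict H).charKer_le_of_constituent hξ h1)
  rw [hχ.isCharacter.charKer_restrict]
  exact Subgroup.subgroupOf_mono _ (h χ hχ h2)

theorem PKer.le_commutator (hp : p.Prime) {K : Subgroup G} (h : PKer p K) : K ≤ commutator G :=
  fun _ hx => mem_of_forall_charKer _ fun χ hχ h1 =>
    h χ hχ (by rw [hχ.charDegree_eq_one_iff.2 h1]; exact hp.not_dvd_one) hx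

theorem charDegree_eq_one_of_index (hp : p.Prime) {K : Subgroup G} [K.Normal] {k : ℕ}
    (hk : K.index = p ^ k) {χ : G → ℂ} (hχ : IsIrrCharacter G χ) (h1 : ¬ p ∣ charDegree χ)
    (h2 : K ≤ charKer χ) : charDegree χ = 1 :=
  Nat.Coprime.eq_one_of_dvd (((Nat.Prime.coprime_iff_not_dvd hp).2 h1).symm.pow_right k)
    (hk ▸ H29.charDegree_dvd_index_of_le_charKer hχ K h2)

theorem PKer.not_dvd_pResidual (hp : p.Prime) {K : Subgroup G} [K.Normal] (h : PKer p K) {k : ℕ}
    (hk : K.index = p ^ k) : ¬ p ∣ Nat.card (pResidual p G) :=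
  not_dvd_card_pResidual_of_degrees hp fun χ hχ h1 => by_contra fun h2 =>
    h1 (charDegree_eq_one_of_index hp hk hχ h2 (h χ hχ h2))

theorem index_eq_pow_of_sup [Fact p.Prime] {K P : Subgroup G} [K.Normal] (hP : IsPGroup p P)
    (htop : K ⊔ P = ⊤) : ∃ k, K.index = p ^ k := by
  obtain ⟨n, hn⟩ := hP.exists_card_eq
  have h1 : K.index ∣ p ^ n := by
    rw [← Subgroup.relIndex_top_right, ← htop, Subgroup.relIndex_sup_left, ← hn]
    exact Subgroup.relIndex_dvd_card _ _
  obtain ⟨k, -, hk⟩ := (Nat.dvd_prime_pow Fact.out).1 h1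
  exact ⟨k, hk⟩

/-- Glauberman's count for a normal `p`-complement. -/
theorem pk_iff_of_compl [hp : Fact p.Prime] {L P : Subgroup G} [L.Normal] (hL : ¬ p ∣ Nat.card L)
    (hP : IsPGroup p P) (htop : L ⊔ P = ⊤) :
    PKer p L ↔ L ⊓ Subgroup.centralizer (P : Set G) = ⊥ := by
  obtain ⟨k, hk⟩ := index_eq_pow_of_sup hP htop
  obtain ⟨n, hn⟩ := hP.exists_card_eq
  have hc : (Nat.card L).Coprime p := ((Nat.Prime.coprime_iff_not_dvd hp.out).2 hL).symm
  have hN : P ≤ Subgroup.normalizer (L : Set G) := by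
    rw [Subgroup.normalizer_eq_top]; exact le_top
  have h1 := H40.card_inv_irr hN (hn ▸ hc.pow_right n)
    (by have := hP.isNilpotent; infer_instance)
  have h0 : H40.InvAll L P (fun _ => (1 : ℂ)) := fun _ _ _ _ _ => rfl
  constructor
  · intro h
    have h2 : Nat.card {χ : IrrCharacter L // H40.InvAll L P χ} = 1 := by
      rw [Nat.card_eq_one_iff_exists]
      refine ⟨⟨⟨_, isIrrCharacter_one⟩, h0⟩, fun θ => Subtype.ext (Subtype.ext ?_)⟩
      have h3 : H32.inertia θ.1.1 = ⊤ := by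
        rw [eq_top_iff, ← htop]
        exact sup_le (H32.le_inertia θ.1.2.isClassFunction) fun x hx =>
          H32.mem_inertia_iff.2 fun m => θ.2 x hx _ _ rfl
      obtain ⟨χ, hχ, h4, -⟩ := H40.exists_canonical_ext_of_coprime L (hk ▸ hc.pow_right k) θ.1.2
        (H32.inertia_eq_top_iff.1 h3)
      have h5 := h χ hχ fun h5 => hL ((charDegree_congr (η := χ) (χ := θ.1.1) (h4 1) ▸ h5).trans
        θ.1.2.charDegree_dvd_card)
      rw [← θ.1.2.charKer_eq_top_iff, eq_top_iff]
      intro m _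
      rw [θ.1.2.mem_charKer, ← h4, ← h4]
      exact apply_of_mem_charKer (h5 m.2)
    rw [h2, card_irr_eq_card_conjClasses, eq_comm, Nat.card_eq_one_iff_unique] at h1
    rw [eq_bot_iff]
    intro x hx
    have h3 := ConjClasses.mk_eq_mk_iff_isConj.1 (h1.1.elim
      (ConjClasses.mk (⟨x, hx⟩ : ↥(L ⊓ Subgroup.centralizer (P : Set G)))) (ConjClasses.mk 1))
    exact congrArg Subtype.val (isConj_one_left.1 h3)
  · intro h χ hχ h2
    rw [h, card_irr_of_comm (fun a b => Subsingleton.elim _ _), Subgroup.card_bot,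
      Nat.card_eq_one_iff_unique] at h1
    have h3 := H32.isIrrCharacter_res_of_coprime (N := L) hχ hχ.cast_charDegree.symm
      (hk ▸ ((Nat.Prime.coprime_iff_not_dvd hp.out).2 h2).symm.pow_right k)
    have h4 := h1.1.elim ⟨⟨_, h3⟩, fun x _ g g' e => by
      change χ g' = χ g
      rw [e, hχ.isClassFunction.apply_conj]⟩ ⟨⟨_, isIrrCharacter_one⟩, h0⟩
    have h5 : ∀ m : L, χ m = 1 := congrFun (congrArg (fun t => t.1.1) h4)
    intro x hx
    rw [hχ.mem_charKer, h5 ⟨x, hx⟩]
    exact (h5 1).symm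

omit [Finite G] in
theorem commutator_le_sup {L P : Subgroup G} [L.Normal] (htop : L ⊔ P = ⊤) :
    commutator G ≤ L ⊔ ⁅P, P⁆ := by
  have h1 : P.map (QuotientGroup.mk' L) = ⊤ := by
    have := congrArg (Subgroup.map (QuotientGroup.mk' L)) htop
    rwa [Subgroup.map_sup, QuotientGroup.map_mk'_self, bot_sup_eq,
      Subgroup.map_top_of_surjective _ (QuotientGroup.mk'_surjective L)] at this
  have h2 : (commutator G).map (QuotientGroup.mk' L) = ⁅P, P⁆.map (QuotientGroup.mk' L) := by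
    rw [commutator_def, Subgroup.map_commutator, Subgroup.map_commutator, h1,
      Subgroup.map_top_of_surjective _ (QuotientGroup.mk'_surjective L)]
  refine (Subgroup.le_comap_map (QuotientGroup.mk' L) _).trans ?_
  rw [h2, Subgroup.comap_map_eq, QuotientGroup.ker_mk', sup_comm]

omit [Finite G] in
theorem subgroupOf_sup_eq_top (K P : Subgroup G) :
    K.subgroupOf (K ⊔ P) ⊔ P.subgroupOf (K ⊔ P) = ⊤ := by
  rw [← Subgroup.subgroupOf_sup le_sup_left le_sup_right, Subgroup.subgroupOf_self]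

omit [Finite G] in
theorem map_inf_centralizer_subgroupOf {H P : Subgroup G} (hP : P ≤ H) (L : Subgroup H) :
    (L ⊓ Subgroup.centralizer (P.subgroupOf H : Set H)).map H.subtype =
      L.map H.subtype ⊓ Subgroup.centralizer (P : Set G) := by
  ext x
  constructor
  · rintro ⟨y, ⟨h1, h2⟩, rfl⟩
    exact ⟨⟨y, h1, rfl⟩, fun g hg => congrArg Subtype.val (h2 ⟨g, hP hg⟩ hg)⟩
  · rintro ⟨⟨y, h1, rfl⟩, h2⟩
    exact ⟨y, ⟨h1, fun g hg => Subtype.ext (h2 g hg)⟩, rfl⟩

/-- Berkovich: structure of a normal subgroup in the kernel of all `p'`-degree characters. -/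
theorem PKer.exists_compl [hp : Fact p.Prime] {K : Subgroup G} [hK : K.Normal] (h : PKer p K)
    (P : Sylow p G) : ∃ L : Subgroup G, L.Normal ∧ L ≤ K ∧ ¬ p ∣ Nat.card L ∧
      L ⊓ Subgroup.centralizer ((P : Subgroup G) : Set G) = ⊥ ∧
      K ≤ L ⊔ ⁅(P : Subgroup G), (P : Subgroup G)⁆ := by
  set H := K ⊔ (P : Subgroup G)
  have hPH : (P : Subgroup G) ≤ H := le_sup_right
  have h1 : PKer p (K.subgroupOf H) := h.subgroupOf hp.out fun hd =>
    P.not_dvd_index (hd.trans (Subgroup.index_dvd_of_le hPH))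
  have hP' : IsPGroup p ((P : Subgroup G).subgroupOf H) := P.isPGroup'.comap_subtype
  obtain ⟨k, hk⟩ := index_eq_pow_of_sup hP' (subgroupOf_sup_eq_top K P)
  have h2 := h1.not_dvd_pResidual hp.out hk
  have h3 : pResidual p H ≤ K.subgroupOf H :=
    H7.pResidual_le_of_isPGroup_quotient (IsPGroup.of_card hk)
  have : (pResidual p H).Normal := H7.pResidual_normal
  have h4 : pResidual p H ⊔ (P : Subgroup G).subgroupOf H = ⊤ :=
    H7.pResidual_sup_sylow (P.subtype hPH)
  have h5 : Nat.card ((pResidual p H).map H.subtype) = Nat.card (pResidual p H) :=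
    Subgroup.card_map_of_injective H.subtype_injective
  have h6 : (pResidual p H).map H.subtype ≤ K := by
    rintro _ ⟨y, hy, rfl⟩
    exact h3 hy
  refine ⟨(pResidual p H).map H.subtype, ⟨fun x hx g => ?_⟩, h6, h5 ▸ h2, ?_, fun x hx => ?_⟩
  · refine ⟨⟨_, (le_sup_left : K ≤ H) (hK.conj_mem x (h6 hx) g)⟩,
      H7.mem_pResidual_of_coprime ?_, rfl⟩
    rw [← Subgroup.orderOf_coe]
    change (orderOf (MulAut.conj g x)).Coprime p
    rw [MulEquiv.orderOf_eq]
    exact (((Nat.Prime.coprime_iff_not_dvd hp.out).2 h2).symm.coprime_dvd_left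
      (h5 ▸ Subgroup.orderOf_dvd_natCard _ hx))
  · rw [← map_inf_centralizer_subgroupOf hPH,
      (pk_iff_of_compl h2 hP' h4).1 fun χ hχ h7 => h3.trans (h1 χ hχ h7), Subgroup.map_bot]
  · have h7 := Subgroup.mem_map_of_mem H.subtype (commutator_le_sup h4
      (h1.le_commutator hp.out (x := ⟨x, (le_sup_left : K ≤ H) hx⟩) hx))
    rwa [Subgroup.map_sup, Subgroup.map_commutator, Subgroup.subgroupOf_map_subtype,
      inf_eq_left.2 hPH] at h7

theorem not_dvd_card_of_inf_centralizer [hp : Fact p.Prime] {N : Subgroup G} [hN : N.Normal]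
    (P : Sylow p G) (h : N ⊓ Subgroup.centralizer ((P : Subgroup G) : Set G) = ⊥) :
    ¬ p ∣ Nat.card N := by
  have h1 := H2.card_modEq_card_inf_centralizer (K := N) P.isPGroup' (by
    rw [Subgroup.normalizer_eq_top]; exact le_top)
  rw [h, Subgroup.card_bot] at h1
  exact fun hd => hp.out.not_dvd_one ((h1.dvd_iff dvd_rfl).1 hd)

theorem pk_normalCore [hp : Fact p.Prime] {N : Subgroup G} [hN : N.Normal]
    (P : Sylow p G) (h : N ⊓ Subgroup.centralizer ((P : Subgroup G) : Set G) = ⊥) :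
    PKer p (N ⊔ ⁅(P : Subgroup G), (P : Subgroup G)⁆).normalCore := by
  intro χ hχ hd
  set H := N ⊔ (P : Subgroup G)
  set R := (N ⊔ ⁅(P : Subgroup G), (P : Subgroup G)⁆).normalCore
  have := Fintype.ofFinite H
  have := Fintype.ofFinite R
  have hPH : (P : Subgroup G) ≤ H := le_sup_right
  have hNH : N ≤ H := le_sup_left
  have hP' : IsPGroup p ((P : Subgroup G).subgroupOf H) := P.isPGroup'.comap_subtype
  obtain ⟨k, hk⟩ := index_eq_pow_of_sup hP' (subgroupOf_sup_eq_top N P)
  have h1 : PKer p (N.subgroupOf H) := (pk_iff_of_compl (by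
      rw [Nat.card_congr (Subgroup.subgroupOfEquivOfLe hNH).toEquiv]
      exact not_dvd_card_of_inf_centralizer P h) hP' (subgroupOf_sup_eq_top N P)).2 (by
    rw [← Subgroup.map_eq_bot_iff_of_injective _ H.subtype_injective,
      map_inf_centralizer_subgroupOf hPH, Subgroup.subgroupOf_map_subtype, inf_eq_left.2 hNH, h])
  obtain ⟨ξ, hξ, h2, h3⟩ := exists_constituent_not_dvd (p := p) (hχ.isCharacter.restrict H) hd
  have h4 := h1 ξ hξ h3
  have h5 := charDegree_eq_one_of_index hp.out hk hξ h3 h4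
  have h6 : N ⊔ ⁅(P : Subgroup G), (P : Subgroup G)⁆ ≤ (charKer ξ).map H.subtype := by
    refine sup_le (fun x hx => ⟨⟨x, hNH hx⟩, h4 hx, rfl⟩) (le_trans ?_
      (Subgroup.map_mono (hξ.charDegree_eq_one_iff.1 h5)))
    rw [commutator_def, Subgroup.map_commutator, ← MonoidHom.range_eq_map,
      Subgroup.range_subtype]
    exact Subgroup.commutator_mono hPH hPH
  have hRH : R ≤ H := (Subgroup.normalCore_le _).trans (h6.trans (Subgroup.map_subtype_le _))
  refine hχ.le_charKer_of_classInner_ne_zero R ?_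
  have := Fintype.ofFinite G
  refine H32.classInner_over_trans hRH hχ.isCharacter hξ h2 isCharacter_one ?_
  have h7 : (fun z : R => ξ ⟨z, hRH z.2⟩) = fun _ => 1 := funext fun z => by
    obtain ⟨y, hy, e⟩ := h6 (Subgroup.normalCore_le _ z.2)
    rw [← hξ.isCharacter.charDegree_eq_one_iff.1 h5, ← apply_of_mem_charKer hy]
    exact congrArg ξ (Subtype.ext e.symm)
  rw [h7, classInner_one_one]
  exact one_ne_zero

end H87
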