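/- Elements on which exactly one non-linear irreducible character does not vanish. -/
import Cfsg.Agent.H87.PKer
import Cfsg.Agent.H40.Values
import Cfsg.Agent.H26.FPBase

set_option autoImplicit false

namespace H87.OneNL

open Cfsg H28 Subgroup ComplexConjugate

universe u
variable {G : Type u} [Group G] [Finite G] {g : G} {χ : IrrCharacter G}

/-- `χ` is the only non-linear irreducible character that does not vanish at `g` -/
structure Hyp (g : G) (χ : IrrCharacter G) : Prop where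
  ne : g ≠ 1
  nl : charDegree (χ : G → ℂ) ≠ 1
  val : (χ : G → ℂ) g ≠ 0
  oth : ∀ ψ : IrrCharacter G, charDegree (ψ : G → ℂ) ≠ 1 → ψ ≠ χ → (ψ : G → ℂ) g = 0

theorem lin_iff (ψ : IrrCharacter G) :
    charDegree (ψ : G → ℂ) = 1 ↔ commutator G ≤ charKer (ψ : G → ℂ) := by
  rw [← ψ.2.degree_one_iff, ← ψ.2.cast_charDegree, Nat.cast_eq_one]

open Classical in
theorem Hyp.split (h : Hyp g χ) (f : IrrCharacter G → ℂ) (hf : ∀ ψ : IrrCharacter G, (ψ : G → ℂ) g = 0 → f ψ = 0) :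
    ∑ ψ, f ψ = ∑ ψ ∈ Finset.univ.filter
      (fun ψ : IrrCharacter G => commutator G ≤ charKer (ψ : G → ℂ)), f ψ + f χ := by
  rw [← Finset.sum_filter_add_sum_filter_not Finset.univ
    (fun ψ : IrrCharacter G => commutator G ≤ charKer (ψ : G → ℂ))]
  congr 1
  refine Finset.sum_eq_single_of_mem χ (by simpa [← lin_iff] using h.nl) fun ψ hψ e => ?_
  exact hf ψ (h.oth ψ (by simpa [← lin_iff] using hψ) e)

theorem Hyp.basic (h : Hyp g χ) :
    g ∈ commutator G ∧ (χ : G → ℂ) g = -(((commutator G).index : ℂ) / (χ : G → ℂ) 1) := by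
  classical
  have h1 := sum_degree_mul_apply_of_ne_one h.ne
  rw [h.split _ fun ψ e => by rw [e, mul_zero], sum_degree_mul_apply_ker] at h1
  have h2 := χ.2.apply_one_ne_zero
  split_ifs at h1 with hg
  · refine ⟨hg, ?_⟩
    field_simp
    linear_combination h1
  · rw [zero_add] at h1
    exact absurd h1 (mul_ne_zero h2 h.val)

theorem Hyp.col (h : Hyp g χ) {x : G} (hx : ¬ IsConj g x) :
    (x ∈ commutator G → (χ : G → ℂ) x = (χ : G → ℂ) 1) ∧ (x ∉ commutator G → (χ : G → ℂ) x = 0) := by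
  classical
  have h1 := column_orthogonality_of_not_isConj (g := x) (h := g) fun e => hx e.symm
  rw [h.split _ fun ψ e => by rw [e, map_zero, mul_zero]] at h1
  rw [Finset.sum_congr rfl (g := fun ψ : IrrCharacter G => (ψ : G → ℂ) 1 * (ψ : G → ℂ) x) fun ψ hψ => by
    have h2 := (Finset.mem_filter.1 hψ).2
    rw [apply_of_mem_charKer (h2 h.basic.1), ψ.2.degree_one_iff.2 h2, map_one, mul_comm],
    sum_degree_mul_apply_ker] at h1
  have h2 := χ.2.apply_one_ne_zero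
  have h3 : conj ((χ : G → ℂ) g) = (χ : G → ℂ) g := by
    rw [h.basic.2, ← χ.2.cast_charDegree]; simp
  have h4 : ((commutator G).index : ℂ) ≠ 0 := Nat.cast_ne_zero.2 index_ne_zero_of_finite
  rw [h3] at h1
  constructor
  · intro hx
    rw [if_pos hx, h.basic.2] at h1
    field_simp at h1
    rw [mul_zero, mul_eq_zero] at h1
    linear_combination -h1.resolve_left h4
  · intro hx
    rw [if_neg hx, zero_add] at h1
    exact (mul_eq_zero.1 h1).resolve_right h.val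

theorem Hyp.mem_of_isConj (h : Hyp g χ) {x : G} (hx : IsConj g x) : x ∈ commutator G := by
  obtain ⟨c, rfl⟩ := isConj_iff.1 hx
  exact (commutator_normal ⊤ ⊤).conj_mem _ h.basic.1 c

theorem Hyp.vanish (h : Hyp g χ) {x : G} (hx : x ∉ commutator G) : (χ : G → ℂ) x = 0 :=
  (h.col fun e => hx (h.mem_of_isConj e)).2 hx

theorem Hyp.ker_le (h : Hyp g χ) : charKer (χ : G → ℂ) ≤ commutator G := fun x hx => by
  by_contra hn
  exact χ.2.apply_one_ne_zero ((apply_of_mem_charKer hx).symm.trans (h.vanish hn))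

theorem Hyp.isConj (h : Hyp g χ) {x : G} (hx : x ∈ commutator G) (hk : x ∉ charKer (χ : G → ℂ)) :
    IsConj g x := by
  by_contra hn
  exact hk (χ.2.mem_charKer.2 ((h.col hn).1 hx))

theorem Hyp.not_mem (h : Hyp g χ) : g ∉ charKer (χ : G → ℂ) := fun hk => by
  refine h.nl ((lin_iff χ).2 fun x hx => ?_)
  by_contra hn
  obtain ⟨c, rfl⟩ := isConj_iff.1 (h.isConj hx hn)
  exact hn (χ.2.charKer_normal.conj_mem _ hk c)

theorem Hyp.eq_of_ker_le (h : Hyp g χ) (ψ : IrrCharacter G) (h1 : charDegree (ψ : G → ℂ) ≠ 1)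
    (hk : ∀ x : G, (χ : G → ℂ) x = (χ : G → ℂ) 1 → (ψ : G → ℂ) x = (ψ : G → ℂ) 1) : ψ = χ := by
  classical
  by_contra hne
  have h0 := h.oth ψ h1 hne
  have := Fintype.ofFinite (commutator G)
  refine h1 ((lin_iff ψ).2 (ψ.2.le_charKer_of_classInner_ne_zero (commutator G) ?_))
  rw [classInner_one_right]
  refine mul_ne_zero (inv_ne_zero (Nat.cast_ne_zero.2 Nat.card_pos.ne')) ?_
  rw [Finset.sum_congr rfl (g := fun x : commutator G =>
    if (x : G) ∈ charKer (χ : G → ℂ) then (ψ : G → ℂ) 1 else 0) fun x _ => by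
      split_ifs with hx
      · exact hk x (apply_of_mem_charKer hx)
      · obtain ⟨c, e⟩ := isConj_iff.1 (h.isConj x.2 hx)
        rw [← e, ψ.2.isClassFunction, h0],
    ← Finset.sum_filter, Finset.sum_const, nsmul_eq_mul]
  refine mul_ne_zero (Nat.cast_ne_zero.2 (Finset.card_pos.2 ⟨1, ?_⟩).ne') ψ.2.apply_one_ne_zero
  simp [one_mem]

theorem Hyp.exists_prime (h : Hyp g χ) : ∃ p : ℕ, p.Prime ∧
    (∀ x ∈ commutator G, x ^ p ∈ charKer (χ : G → ℂ)) ∧ ∃ k, g ^ p ^ k = 1 := by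
  have := χ.2.charKer_normal
  set K := charKer (χ : G → ℂ) with hK
  have hn : orderOf (g : G ⧸ K) ≠ 1 := fun e =>
    h.not_mem ((QuotientGroup.eq_one_iff g).1 (orderOf_eq_one_iff.1 e))
  obtain ⟨p, hp, hd⟩ := Nat.exists_prime_and_dvd hn
  have h1 : orderOf ((g ^ (orderOf (g : G ⧸ K) / p) : G) : G ⧸ K) = p := by
    rw [QuotientGroup.mk_pow]; exact orderOf_pow_orderOf_div (orderOf_pos _).ne' hd
  have h2 : g ^ p ∈ K := by
    obtain ⟨c, e⟩ := isConj_iff.1 (h.isConj (pow_mem h.basic.1 (orderOf (g : G ⧸ K) / p)) fun hk => by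
      rw [(QuotientGroup.eq_one_iff _).2 hk, orderOf_one] at h1
      exact hp.ne_one h1.symm)
    have h3 : (c * g * c⁻¹) ^ p ∈ K := by
      rw [← QuotientGroup.eq_one_iff, QuotientGroup.mk_pow, e]
      exact orderOf_dvd_iff_pow_eq_one.1 h1.dvd
    rw [conj_pow] at h3
    simpa [mul_assoc] using this.conj_mem _ h3 c⁻¹
  refine ⟨p, hp, fun x hx => ?_, ?_⟩
  · by_cases hk : x ∈ K
    · exact pow_mem hk p
    · obtain ⟨c, rfl⟩ := isConj_iff.1 (h.isConj hx hk)
      rw [conj_pow]; exact this.conj_mem _ h2 c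
  · obtain ⟨k, m, hm, e⟩ := Nat.exists_eq_pow_mul_and_not_dvd (orderOf_pos g).ne' p hp.ne_one
    obtain ⟨c, e2⟩ := isConj_iff.1 (h.isConj (pow_mem h.basic.1 m) fun hk => by
      have h3 : orderOf (g : G ⧸ K) ∣ m := orderOf_dvd_of_pow_eq_one (by
        rw [← QuotientGroup.mk_pow]; exact (QuotientGroup.eq_one_iff _).2 hk)
      exact hm (hd.trans h3))
    refine ⟨k, ?_⟩
    have h3 : (c * g * c⁻¹) ^ p ^ k = 1 := by
      rw [e2, ← pow_mul, mul_comm, ← e, pow_orderOf_eq_one]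
    rw [conj_pow] at h3
    simpa [mul_assoc] using congrArg (fun y => c⁻¹ * y * c) h3

theorem Hyp.pker (h : Hyp g χ) {p k : ℕ} (hp : p.Prime) (hk : g ^ p ^ k = 1) :
    PKer p (charKer (χ : G → ℂ)) := fun ψ hψ hd => by
  by_cases h1 : charDegree ψ = 1
  · exact h.ker_le.trans ((lin_iff ⟨ψ, hψ⟩).1 h1)
  by_cases h2 : (⟨ψ, hψ⟩ : IrrCharacter G) = χ
  · rw [← h2]
  exact (hd (H40.dvd_degree_of_vanish hp hψ.isCharacter hk (h.oth ⟨ψ, hψ⟩ h1 h2)
    hψ.cast_charDegree.symm)).elim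

omit [Finite G] in
theorem sol_of_normal (N : Subgroup G) [N.Normal] (h1 : Group.IsSolvable N)
    (h2 : Group.IsSolvable (G ⧸ N)) : Group.IsSolvable G :=
  Group.isSolvable_of_ker_le_range N.subtype (QuotientGroup.mk' N) (by simp)

/-- solvability, given the solvability of the `p'`-part of the kernel -/
theorem Hyp.sol_of (h : Hyp g χ) (hs : ∀ (p : ℕ) [Fact p.Prime] (P : Sylow p G) (L : Subgroup G),
    L.Normal → ¬ p ∣ Nat.card L → L ⊓ centralizer ((P : Subgroup G) : Set G) = ⊥ →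
      Group.IsSolvable L) : Group.IsSolvable G := by
  obtain ⟨p, hp, h1, k, hk⟩ := h.exists_prime
  have := Fact.mk hp
  have := χ.2.charKer_normal
  obtain ⟨P⟩ : Nonempty (Sylow p G) := inferInstance
  obtain ⟨L, hL, -, hd, hc, hle⟩ := (h.pker hp hk).exists_compl P
  refine sol_of_normal L (hs p P L hL hd hc) (sol_of_normal (commutator (G ⧸ L)) ?_
    (Group.isSolvable_of_comm fun a b => (Abelianization.commGroup (G ⧸ L)).mul_comm a b))
  have h3 : IsPGroup p ((charKer (χ : G → ℂ)).map (QuotientGroup.mk' L)) := by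
    refine (P.isPGroup'.map (QuotientGroup.mk' L)).to_le ((map_mono hle).trans ?_)
    rw [Subgroup.map_sup, (map_eq_bot_iff L).2 (by simp), bot_sup_eq]
    exact map_mono (H98.commutator_le_right' le_normalizer)
  have h2 : IsPGroup p (commutator (G ⧸ L)) := by
    have e : commutator (G ⧸ L) = (commutator G).map (QuotientGroup.mk' L) := by
      rw [map_commutator_eq, MonoidHom.range_eq_top.2 (QuotientGroup.mk'_surjective L), _root_.commutator_def]
    rw [e]
    refine H98.isPGroup_of_forall_pow_mem h3 ?_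
    rintro _ ⟨x, hx, rfl⟩
    exact ⟨1, x ^ p, h1 x hx, by rw [pow_one, map_pow]⟩
  have := h2.isNilpotent
  infer_instance

theorem Hyp.sol (h : Hyp g χ) (thm : H26.FP.Thm.{u}) : Group.IsSolvable G :=
  h.sol_of fun p hp P L hL hd hc => thm G L P ⟨le_normalizer_of_normal, by
    obtain ⟨k, hk⟩ := IsPGroup.iff_card.1 P.isPGroup'
    rw [hk]
    exact ((Nat.Prime.coprime_iff_not_dvd hp.out).2 hd).pow_left k, fun x hx y _ _ _ => by
    rw [hc, mem_bot] at hx
    rw [hx, one_mul, mul_one]⟩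

theorem s4805_of (thm : H26.FP.Thm.{u}) (g : G) (hg : g ∉ Subgroup.center G) (χ : Cfsg.IrrCharacter G) (hχ1 : Cfsg.charDegree (χ : G → ℂ) ≠ 1) (hχg : (χ : G → ℂ) g ≠ 0) (hother : ∀ ψ : Cfsg.IrrCharacter G, Cfsg.charDegree (ψ : G → ℂ) ≠ 1 → ψ ≠ χ → (ψ : G → ℂ) g = 0) : g ∈ commutator G ∧ (χ : G → ℂ) g = -(((commutator G).index : ℂ) / (χ : G → ℂ) 1) ∧ ((commutator G : Set G) = {x : G | (χ : G → ℂ) x = (χ : G → ℂ) 1} ∪ {h : G | IsConj g h}) ∧ (∀ x : G, x ∉ commutator G → (χ : G → ℂ) x = 0) ∧ (∀ ψ : Cfsg.IrrCharacter G, Cfsg.charDegree (ψ : G → ℂ) ≠ 1 → (∀ x : G, (χ : G → ℂ) x = (χ : G → ℂ) 1 → (ψ : G → ℂ) x = (ψ : G → ℂ) 1) → ψ = χ) ∧ Group.IsSolvable G := by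
  have h : Hyp g χ := ⟨fun e => hg (e ▸ one_mem _), hχ1, hχg, hother⟩
  refine ⟨h.basic.1, h.basic.2, ?_, fun x hx => h.vanish hx, h.eq_of_ker_le, h.sol thm⟩
  ext x
  refine ⟨fun hx => ?_, ?_⟩
  · by_cases hc : IsConj g x
    · exact Or.inr hc
    · exact Or.inl ((h.col hc).1 hx)
  · rintro (hx | hx)
    · exact h.ker_le (χ.2.mem_charKer.2 hx)
    · exact h.mem_of_isConj hx

end H87.OneNL
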