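/- Camina pairs. -/
import Cfsg.Agent.H87.OneNL
import Cfsg.Agent.H30.Vanish
import Cfsg.Agent.H28.Blichfeldt
import Cfsg.Agent.H5.CK
import Cfsg.Agent.H61.SmallId
import Cfsg.Agent.H46.Coprime

set_option autoImplicit false

namespace H87

open Cfsg hiding pRank
open H28 Subgroup H46

universe u
variable {G : Type u} [Group G] {N M : Subgroup G} {p q : ℕ} {g x : G}

/-- the classes outside `N` are unions of cosets of `N` -/
def Cam (N : Subgroup G) : Prop := ∀ g : G, g ∉ N → ∀ n ∈ N, ∃ x : G, x * g * x⁻¹ = g * n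

theorem Cam.quot (h : Cam N) (M : Subgroup G) [M.Normal] : Cam (N.map (QuotientGroup.mk' M)) := by
  rintro g hg _ ⟨n, hn, rfl⟩
  obtain ⟨g, rfl⟩ := QuotientGroup.mk'_surjective M g
  obtain ⟨x, e⟩ := h g (fun e => hg (mem_map_of_mem _ e)) n hn
  exact ⟨QuotientGroup.mk' M x, by rw [← map_inv, ← map_mul, ← map_mul, e, map_mul]⟩

theorem Cam.pow_eq_one (h : Cam N) (hg : g ∉ N) {n : ℕ} (hn : g ^ n = 1) (hx : x ∈ N)
    (hc : Commute g x) : x ^ n = 1 := by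
  obtain ⟨y, e⟩ := h g hg x hx
  have := conj_pow (a := y) (b := g) (i := n)
  rwa [e, hn, mul_one, mul_inv_cancel, hc.mul_pow, hn, one_mul] at this

variable [Finite G]

theorem Cam.semiregular (h : Cam N) {A : Subgroup G} (hc : (Nat.card A).Coprime (Nat.card N)) :
    Semiregular N A := fun a ha h1 => eq_bot_iff.2 fun x hx => by
  have h2 : a ∉ N := fun e => h1 (by
    have : a ∈ A ⊓ N := ⟨ha, e⟩
    rwa [inf_eq_bot_of_coprime' hc, mem_bot] at this)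
  have h3 := h.pow_eq_one h2 (pow_orderOf_eq_one a) hx.1 (mem_cent1.1 hx.2).symm
  exact mem_bot.2 (orderOf_eq_one_iff.1 (Nat.eq_one_of_dvd_coprimes hc
    ((orderOf_dvd_of_pow_eq_one h3).trans (orderOf_dvd_card ha)) (orderOf_dvd_card hx.1)))

theorem Cam.card_cent (h : Cam N) [M.Normal] (hM : M ≤ N) (hg : g ∉ N) :
    Nat.card (Cent1 g) = Nat.card (Cent1 (g : G ⧸ M)) := by
  have e : {a | IsConj g a} = QuotientGroup.mk ⁻¹' {a : G ⧸ M | IsConj (g : G ⧸ M) a} := by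
    ext a
    refine ⟨fun ha => (QuotientGroup.mk' M).map_isConj ha, fun ha => ?_⟩
    obtain ⟨c, e⟩ := isConj_iff.1 ha
    obtain ⟨c, rfl⟩ := QuotientGroup.mk_surjective c
    have h1 : g⁻¹ * (c⁻¹ * a * c) ∈ M := by
      rw [← QuotientGroup.eq, QuotientGroup.mk_mul, QuotientGroup.mk_mul, QuotientGroup.mk_inv, ← e]
      group
    obtain ⟨y, e2⟩ := h g hg _ (hM h1)
    refine isConj_iff.2 ⟨c * y, ?_⟩
    calc c * y * g * (c * y)⁻¹ = c * (y * g * y⁻¹) * c⁻¹ := by group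
      _ = a := by rw [e2]; group
  have h1 := H61.ncard_isConj_mul_card g
  have h2 := H61.ncard_isConj_mul_card (g : G ⧸ M)
  rw [e, ← Nat.card_coe_set_eq, QuotientGroup.card_preimage_mk, Nat.card_coe_set_eq,
    card_eq_card_quotient_mul_card_subgroup M, ← h2] at h1
  have h3 : 0 < Nat.card M * {a : G ⧸ M | IsConj (g : G ⧸ M) a}.ncard :=
    Nat.mul_pos Nat.card_pos ((Set.ncard_pos (Set.toFinite _)).2 ⟨_, IsConj.refl _⟩)
  exact Nat.eq_of_mul_eq_mul_left h3 (h1.trans (by ring))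

theorem Cam.exists_max [N.Normal] (h : Cam N) (h0 : N ≠ ⊥) (hp : p.Prime) (h1 : ¬ p ∣ Nat.card N)
    (h2 : p ∣ Nat.card G) : ∃ y : G, y ≠ 1 ∧ (∃ k, y ^ p ^ k = 1) ∧ ¬ p ∣ (zpowers y).relIndex (Cent1 y) := by
  have := Fact.mk hp
  obtain ⟨y, ⟨k, hk⟩, hmax⟩ := Set.exists_max_image {y : G | ∃ k, y ^ p ^ k = 1} orderOf
    (Set.toFinite _) ⟨1, 0, by simp⟩
  obtain ⟨y0, h3⟩ := exists_prime_orderOf_dvd_card' p h2
  have h4 := hmax y0 ⟨1, by rw [pow_one, ← h3, pow_orderOf_eq_one]⟩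
  refine ⟨y, ?_, ⟨k, hk⟩, ?_⟩
  · rintro rfl
    rw [orderOf_one, h3] at h4
    exact absurd hp.one_lt (not_lt.2 h4)
  obtain ⟨T, hT, hyT⟩ := H98.exists_isSyl_le (H98.isPGroup_zpowers hk) (zpowers_le.2 (self_mem_cent1 y))
  suffices e : T = zpowers y by rw [← e]; exact hT.not_dvd_relIndex
  refine le_antisymm (fun w hw => ?_) hyT
  have hA : zpowers y ⊔ zpowers w ≤ T := sup_le hyT (zpowers_le.2 hw)
  have hpA := hT.isPGroup.to_le hA
  obtain ⟨j, hj⟩ := IsPGroup.iff_card.1 hpA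
  have hcyc := (h.semiregular (A := zpowers y ⊔ zpowers w) (by
    rw [hj]; exact ((Nat.Prime.coprime_iff_not_dvd hp).2 h1).pow_left j)).cyclic_of_comm
    le_normalizer_of_normal h0 (comm_sup inferInstance inferInstance (by
      rw [cent_zpowers]; exact zpowers_le.2 (hT.le hw)))
  obtain ⟨c, hc⟩ := cyclic_iff_exists_zpowers.1 hcyc
  have h5 := hmax c (H98.isPGroup_iff_forall.1 hpA c (hc ▸ mem_zpowers c))
  have h6 : zpowers y = zpowers y ⊔ zpowers w := eq_of_le_of_card_ge le_sup_left (by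
    rw [← hc, card_zpowers', card_zpowers']; exact h5)
  rw [h6]; exact mem_sup_right (mem_zpowers w)

theorem Cam.not_dvd [N.Normal] [M.Normal] (h : Cam N) (hM : M ≤ N) (hne : ¬ N ≤ M) (hp : p.Prime)
    (h1 : ¬ p ∣ M.relIndex N) (h2 : p ∣ Nat.card M) : ¬ p ∣ N.index := fun h3 => by
  have := Fact.mk hp
  have hk : (QuotientGroup.mk' M).ker = M := QuotientGroup.ker_mk' M
  have e1 : ∀ B : Subgroup G, Nat.card (B.map (QuotientGroup.mk' M)) = M.relIndex B := fun B => by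
    rw [← relIndex_ker, hk]
  have := Normal.map ‹N.Normal› _ (QuotientGroup.mk'_surjective M)
  obtain ⟨y, hy1, ⟨k, hy⟩, hrel⟩ := (h.quot M).exists_max (fun e => hne (hk ▸ (map_eq_bot_iff N).1 e)) hp
    (by rwa [e1]) (h3.trans (index_dvd_of_le hM))
  obtain ⟨g, rfl, hg⟩ := H18.exists_lift_primePow _ (QuotientGroup.mk'_surjective M) hp
    ((H18.exists_orderOf_eq_pow_iff hp).2 ⟨k, hy⟩)
  obtain ⟨j, hj⟩ := (H18.exists_orderOf_eq_pow_iff hp).1 hg
  have hgN : g ∉ N := fun e => by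
    obtain ⟨i, -, hi⟩ := (Nat.dvd_prime_pow hp).1 (orderOf_dvd_of_pow_eq_one hy)
    have h4 := orderOf_dvd_card (mem_map_of_mem (QuotientGroup.mk' M) e)
    rw [e1, hi] at h4
    rcases i with _ | i
    · exact hy1 (orderOf_eq_one_iff.1 hi)
    · exact h1 ((dvd_pow_self p i.succ_ne_zero).trans h4)
  obtain ⟨P, hP, hgP⟩ := H98.exists_isSyl_le (H98.isPGroup_zpowers hj) le_top
  have h4 : M ⊓ P ≠ ⊥ := fun e => by
    have h5 := hP.inf_of_le_normalizer (N := M) le_top le_normalizer_of_normal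
    rw [inf_comm, e] at h5
    exact h5.eq_bot_iff.1 rfl h2
  obtain ⟨z, hz, hz1⟩ := exists_ne_one_of_ne_bot
    (nil_meet_cent (nil_of_isPGroup hp hP.isPGroup) le_normalizer_of_normal h4)
  have hB : IsPGroup p ↥(P ⊓ Cent1 g) := hP.isPGroup.to_le inf_le_left
  obtain ⟨i, hi⟩ := IsPGroup.iff_card.1 hB
  have h5 : Nat.card ↥(P ⊓ Cent1 g) ∣ Nat.card (zpowers (QuotientGroup.mk' M g)) := by
    have h6 := card_dvd_of_le (inf_le_right : P ⊓ Cent1 g ≤ _)
    rw [h.card_cent hM hgN, ← card_mul_relIndex (zpowers_le.2 (self_mem_cent1 (g : G ⧸ M))), hi] at h6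
    rw [hi]
    exact (((Nat.Prime.coprime_iff_not_dvd hp).2 hrel).pow_left i).dvd_of_dvd_mul_right h6
  have h6 : Nat.card (zpowers (QuotientGroup.mk' M g)) ∣ M.relIndex (P ⊓ Cent1 g) := by
    rw [← e1]
    exact card_dvd_of_le (zpowers_le.2 (mem_map_of_mem _ ⟨hgP (mem_zpowers g), self_mem_cent1 g⟩))
  have h7 := h5.trans h6
  rw [← card_inf_mul_relIndex M] at h7
  have h8 : Nat.card ↥(M ⊓ (P ⊓ Cent1 g)) = 1 :=
    Nat.dvd_one.1 (Nat.dvd_of_mul_dvd_mul_right (relIndex_pos _ _) (by rwa [one_mul]))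
  have h9 : z ∈ M ⊓ (P ⊓ Cent1 g) := ⟨hz.1.1, hz.1.2, cent_le_cent1 (hgP (mem_zpowers g)) hz.2⟩
  rw [card_eq_one.1 h8, mem_bot] at h9
  exact hz1 h9

theorem exists_pelt_not_mem_of_dvd [N.Normal] (hp : p.Prime) (h : p ∣ N.index) :
    ∃ g, g ∉ N ∧ ∃ k, g ^ p ^ k = 1 := by
  have := Fact.mk hp
  obtain ⟨y, hy⟩ := exists_prime_orderOf_dvd_card' (G := G ⧸ N) p h
  obtain ⟨g, rfl, hg⟩ := H18.exists_lift_primePow _ (QuotientGroup.mk'_surjective N) hp
    (y := y) ⟨1, by rw [hy, pow_one]⟩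
  refine ⟨g, fun e => ?_, (H18.exists_orderOf_eq_pow_iff hp).1 hg⟩
  rw [QuotientGroup.mk'_apply, (QuotientGroup.eq_one_iff g).2 e, orderOf_one] at hy
  exact hp.ne_one hy.symm

theorem Cam.pker [N.Normal] (h : Cam N) (hp : p.Prime) (h1 : p ∣ N.index) : PKer p N := fun χ hχ hd => by
  obtain ⟨g, hg, k, hk⟩ := exists_pelt_not_mem_of_dvd hp h1
  by_contra hn
  have := Fintype.ofFinite N
  have h2 := H30.sum_coset_eq_zero hχ N hn g
  rw [Finset.sum_congr rfl (g := fun _ => χ g) fun n _ => by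
    obtain ⟨x, e⟩ := h g hg n n.2
    rw [show (n : G) * g = g⁻¹ * (g * n) * g⁻¹⁻¹ by group, hχ.isClassFunction, ← e, hχ.isClassFunction],
    Finset.sum_const, nsmul_eq_mul, mul_eq_zero] at h2
  rcases h2 with h2 | h2
  · exact Finset.card_univ (α := N) ▸ Nat.cast_ne_zero.2 Fintype.card_ne_zero <| h2
  · exact hd (H40.dvd_degree_of_vanish hp hχ.isCharacter hk h2 hχ.cast_charDegree.symm)

theorem Cam.exists_compl [N.Normal] (h : Cam N) [hp : Fact p.Prime] (h1 : p ∣ N.index) (P : Sylow p G) :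
    ∃ L : Subgroup G, L.Normal ∧ L ≤ N ∧ ¬ p ∣ Nat.card L ∧ L ⊓ Cent P = ⊥ ∧
      ∃ k, L.relIndex N = p ^ k := by
  obtain ⟨L, hL, h2, h3, h4, h5⟩ := (h.pker hp.out h1).exists_compl P
  refine ⟨L, hL, h2, h3, h4, ?_⟩
  obtain ⟨j, hj⟩ := IsPGroup.iff_card.1 P.isPGroup'
  have h6 : L.relIndex N ∣ p ^ j := by
    refine (NormalIn.relIndex_dvd (normalIn_sup_left le_normalizer_of_normal)
      (h5.trans (sup_le_sup_left (der_le _) L))).trans ?_
    rw [relIndex_sup_of_nrm le_normalizer_of_normal, ← hj]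
    exact relIndex_dvd_card _ _
  obtain ⟨k, -, hk⟩ := (Nat.dvd_prime_pow hp.out).1 h6
  exact ⟨k, hk⟩

theorem Cam.ck [N.Normal] (h : Cam N) (hc : (Nat.card N).Coprime N.index) : H5.CK N := fun x hx h1 g hg => by
  by_contra hn
  obtain ⟨p, hp, -, y, hy, a, ha, hyN⟩ := exists_pelt_not_mem (A := zpowers g) (Z := N)
    fun e => hn (e (mem_zpowers g))
  have h2 := h.pow_eq_one hyN ha hx (mem_cent1.1 (zpowers_le.2 (mem_cent1.2 hg) hy))
  have key : ∀ n : ℕ, n ∣ p ^ a → n ≠ 1 → p ∣ n := fun n hn h1 => by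
    obtain ⟨i, -, rfl⟩ := (Nat.dvd_prime_pow hp).1 hn
    rcases i with _ | i
    · exact absurd rfl h1
    · exact dvd_pow_self p i.succ_ne_zero
  refine hp.ne_one (Nat.eq_one_of_dvd_coprimes hc ((key _ (orderOf_dvd_of_pow_eq_one h2)
    (mt orderOf_eq_one_iff.1 h1)).trans (orderOf_dvd_card hx)) ((key (orderOf (y : G ⧸ N)) ?_ ?_).trans
      (orderOf_dvd_natCard _)))
  · exact orderOf_dvd_of_pow_eq_one (by rw [← QuotientGroup.mk_pow, ha, QuotientGroup.mk_one])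
  · exact fun e => hyN ((QuotientGroup.eq_one_iff y).1 (orderOf_eq_one_iff.1 e))

theorem Cam.tri [N.Normal] (h : Cam N) (h0 : N ≠ ⊥) :
    H5.CK N ∨ IsPrimePow (Nat.card N) ∨ IsPrimePow N.index := by
  by_cases hc : (Nat.card N).Coprime N.index
  · exact Or.inl (h.ck hc)
  obtain ⟨p, hp, h1, h2⟩ := Nat.Prime.not_coprime_iff_dvd.1 hc
  have := Fact.mk hp
  right
  by_contra hn
  push Not at hn
  obtain ⟨q, hq, h3, hqp⟩ : ∃ q : ℕ, q.Prime ∧ q ∣ N.index ∧ q ≠ p := by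
    by_contra h3
    push Not at h3
    exact hn.2 (isPrimePow_iff_unique_prime_dvd.2 ⟨p, ⟨hp, h2⟩, fun q hq => h3 q hq.1 hq.2⟩)
  have := Fact.mk hq
  obtain ⟨P⟩ : Nonempty (Sylow p G) := inferInstance
  obtain ⟨L, hL, hLN, h4, -, k, hk⟩ := h.exists_compl h2 P
  have h5 : ¬ q ∣ L.relIndex N := fun e =>
    hqp ((Nat.prime_dvd_prime_iff_eq hq hp).1 (hq.dvd_of_dvd_pow (hk ▸ e)))
  have h6 : ¬ q ∣ Nat.card N := fun e => by
    rw [← card_mul_relIndex hLN, hq.dvd_mul] at e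
    exact h.not_dvd hLN (fun e => h4 (h1.trans (card_dvd_of_le e))) hq h5 (e.resolve_right h5) h3
  obtain ⟨y, hy⟩ := exists_prime_orderOf_dvd_card' q (h3.trans N.index_dvd_card)
  have hnil := (h.semiregular (A := zpowers y) (by
    rw [card_zpowers', hy]; exact (Nat.Prime.coprime_iff_not_dvd hq).2 h6)).nil le_normalizer_of_normal
    (ne_bot_of_card_prime (by rw [card_zpowers', hy]; exact hq))
  have hH := nil_piCoreOf_hall {p} hnil
  have : (Op p N).Normal := normalIn_top_iff.1 ((normalIn_top_iff.2 ‹N.Normal›).piCoreOf {p})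
  have h7 : ¬ p ∣ (Op p N).relIndex N := hH.2.2 p hp rfl
  refine h.not_dvd (piCoreOf_le _ N) (fun e => hn.1 ?_) hp h7 ?_ h2
  · exact isPrimePow_iff_unique_prime_dvd.2 ⟨p, ⟨hp, h1⟩, fun q hq =>
      (isPi_piCoreOf {p} N).of_le e q hq.1 hq.2⟩
  · rw [← card_mul_relIndex (piCoreOf_le {p} N), hp.dvd_mul] at h1
    exact h1.resolve_right h7

theorem Cam.sol [N.Normal] (h : Cam N) (thm : H26.FP.Thm.{u}) (h1 : N ≠ ⊤) :
    Group.IsSolvable N := by
  obtain ⟨p, hp, h2⟩ := Nat.exists_prime_and_dvd (mt index_eq_one.1 h1)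
  have := Fact.mk hp
  obtain ⟨P⟩ : Nonempty (Sylow p G) := inferInstance
  obtain ⟨L, hL, hLN, h3, h4, k, hk⟩ := h.exists_compl h2 P
  have hs : Group.IsSolvable L := thm G L P ⟨le_normalizer_of_normal, by
    obtain ⟨k, hk⟩ := IsPGroup.iff_card.1 P.isPGroup'
    rw [hk]
    exact ((Nat.Prime.coprime_iff_not_dvd hp).2 h3).pow_left k, fun x hx y _ _ _ => by
    rw [h4, mem_bot] at hx
    rw [hx, one_mul, mul_one]⟩
  refine sol_of_quo le_normalizer_of_normal hs (IsPi.sol (p := p) (isPi_of_card_pow hp (n := k) ?_))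
  rw [card_quo le_normalizer_of_normal, hk]

theorem s4141_of (thm : H26.FP.Thm.{u}) (N : Subgroup G) [N.Normal] (hN2 : N ≠ ⊤)
    (hcam : ∀ g : G, g ∉ N → ∀ n ∈ N, ∃ x : G, x * g * x⁻¹ = g * n) :
    (Group.IsSolvable (G ⧸ N) → Group.IsSolvable G) ∧ Group.IsSolvable N :=
  ⟨OneNL.sol_of_normal N (Cam.sol hcam thm hN2), Cam.sol hcam thm hN2⟩

end H87
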