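import Cfsg.Agent.H24.CxKit

/-! Tower CX, slot ThmO: the Thompson filtration. -/

set_option autoImplicit false

namespace H87.CxO

open Subgroup Cfsg H98 H24.Cx

universe u

variable {G : Type u} [Group G] {p : ℕ}

/-- An abelian subgroup of `P`. -/
def Ab (P A : Subgroup G) : Prop := A ≤ P ∧ A ≤ centralizer (A : Set G)

/-- The largest order of an abelian subgroup. -/
noncomputable def mo (P : Subgroup G) : ℕ := sSup {n | ∃ A, Ab P A ∧ Nat.card A = n}

/-- The Thompson subgroup for orders. -/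
def JT (P : Subgroup G) : Subgroup G := sSup {A | Ab P A ∧ Nat.card A = mo P}

noncomputable def tau (P : Subgroup G) : ℕ := mo P * (Nat.card G + 1) + Nat.card (JT P)

theorem Ab.cj {P A : Subgroup G} (h : Ab P A) (g : G) : Ab (cj g P) (cj g A) :=
  ⟨cj_mono g h.1, cj_centralizer g A ▸ cj_mono g h.2⟩

theorem Ab.mono {P Q A : Subgroup G} (h : Ab P A) (e : P ≤ Q) : Ab Q A := ⟨h.1.trans e, h.2⟩

theorem JT_le (P : Subgroup G) : JT P ≤ P := sSup_le fun _ h => h.1.1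

theorem le_JT {P A : Subgroup G} (h : Ab P A) (e : Nat.card A = mo P) : A ≤ JT P := le_sSup ⟨h, e⟩

theorem isP_zpowers {P : Subgroup G} (hP : IsPGroup p P) {a : G} (ha : a ∈ P) :
    IsPGroup p (zpowers a) := hP.to_le (zpowers_le_of_mem ha)

theorem cen_mono {P Q : Subgroup G} (h : P ≤ Q) (c : Cen p P) : Cen p Q :=
  fun g hg hp => h (c g (centralizer_le h hg) hp)

theorem cen_cj {P : Subgroup G} (c : Cen p P) (g : G) : Cen p (cj g P) := fun x hx hp => by
  rw [← cj_centralizer, mem_cj] at hx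
  refine mem_cj.2 (c _ hx ?_)
  obtain ⟨k, hk⟩ := isPGroup_iff_forall.1 hp x (mem_zpowers x)
  exact isPGroup_zpowers (k := k) (by
    have := conj_pow (a := g⁻¹) (b := x) (i := p ^ k)
    rw [inv_inv] at this
    rw [this, hk]; simp)

theorem secH : SecH p (⊤ : Subgroup G) ⊥ (Cen p) ZZ fun _ => ⊥ where
  up := ⟨fun _ _ _ _ => cen_mono, fun g _ _ _ c => cen_cj c g⟩
  le1 := fun _ _ _ => bot_le
  le2 := fun _ _ _ => inf_le_left
  com := fun _ _ _ g hg a ha => by rw [ha.2 g hg]; simp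
  antiA := fun _ _ _ hQ h c a ha =>
    ⟨c a (centralizer_le h ha.2) (isP_zpowers hQ.isP ha.1), centralizer_le h ha.2⟩
  antiB := fun _ _ _ _ _ _ => le_rfl
  eqA := fun g _ P _ _ => by rw [ZZ, ZZ, cj_inf, cj_centralizer]
  eqB := fun g _ _ _ _ => (cj_bot g).le

variable [Finite G]

theorem bdd (P : Subgroup G) : BddAbove {n | ∃ A, Ab P A ∧ Nat.card A = n} :=
  ⟨Nat.card G, fun _ ⟨A, _, e⟩ => e ▸ card_le_card_group A⟩

theorem le_mo {P A : Subgroup G} (h : Ab P A) : Nat.card A ≤ mo P := le_csSup (bdd P) ⟨A, h, rfl⟩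

theorem ex_mo (P : Subgroup G) : ∃ A, Ab P A ∧ Nat.card A = mo P :=
  Nat.sSup_mem (s := {n | ∃ A, Ab P A ∧ Nat.card A = n}) ⟨_, ⊥, ⟨bot_le, bot_le⟩, rfl⟩ (bdd P)

theorem mo_mono {P Q : Subgroup G} (h : P ≤ Q) : mo P ≤ mo Q := by
  obtain ⟨A, hA, e⟩ := ex_mo P
  exact e ▸ le_mo (hA.mono h)

theorem mo_cj_le (g : G) (P : Subgroup G) : mo P ≤ mo (cj g P) := by
  obtain ⟨A, hA, e⟩ := ex_mo P
  exact e ▸ card_cj g A ▸ le_mo (hA.cj g)

theorem mo_cj (g : G) (P : Subgroup G) : mo (cj g P) = mo P :=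
  le_antisymm (by simpa only [cj_inv_cj] using mo_cj_le g⁻¹ (cj g P)) (mo_cj_le g P)

theorem cj_JT_le (g : G) (P : Subgroup G) : cj g (JT P) ≤ JT (cj g P) :=
  cj_le_iff.2 (sSup_le fun A h => cj_le_iff.1 (le_JT (h.1.cj g) (by rw [card_cj, mo_cj, h.2])))

theorem JT_cj (g : G) (P : Subgroup G) : JT (cj g P) = cj g (JT P) :=
  le_antisymm (le_cj_iff.2 (by simpa only [cj_inv_cj] using cj_JT_le g⁻¹ (cj g P))) (cj_JT_le g P)

theorem tau_cj (g : G) (P : Subgroup G) : tau (cj g P) = tau P := by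
  rw [tau, tau, mo_cj, JT_cj, card_cj]

omit [Finite G] in
theorem JT_le_JT {P Q : Subgroup G} (h : JT P ≤ Q) (e : mo P = mo Q) : JT P ≤ JT Q :=
  sSup_le fun _ hA => le_JT ⟨(le_JT hA.1 hA.2).trans h, hA.1.2⟩ (hA.2.trans e)

theorem tau_lt {P Q : Subgroup G} (h : mo P < mo Q) : tau P < tau Q := by
  have h1 := card_le_card_group (JT P)
  have h2 := Nat.mul_le_mul_right (Nat.card G + 1) (Nat.succ_le_of_lt h)
  rw [tau, tau]
  rw [Nat.succ_mul] at h2
  omega

theorem tau_mono {P Q : Subgroup G} (h : P ≤ Q) : tau P ≤ tau Q := by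
  rcases (mo_mono h).lt_or_eq with e | e
  · exact (tau_lt e).le
  · have := card_le_of_le (JT_le_JT ((JT_le P).trans h) e)
    rw [tau, tau, e]
    omega

theorem JT_eq {P Q : Subgroup G} (h : JT P ≤ Q) (e : tau P = tau Q) : JT Q = JT P := by
  have h1 : mo P = mo Q := le_antisymm (not_lt.1 fun a => (tau_lt a).ne' e)
    (not_lt.1 fun a => (tau_lt a).ne e)
  rw [tau, tau, h1] at e
  exact (eq_of_le_of_card_ge (JT_le_JT h h1) (by omega)).symm

theorem mo_JT (P : Subgroup G) : mo (JT P) = mo P := by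
  refine le_antisymm (mo_mono (JT_le P)) ?_
  obtain ⟨A, hA, e⟩ := ex_mo P
  exact e ▸ le_mo ⟨le_JT hA e, hA.2⟩

theorem JT_JT (P : Subgroup G) : JT (JT P) = JT P :=
  le_antisymm (JT_le _) (JT_le_JT le_rfl (mo_JT P).symm)

theorem tau_JT (P : Subgroup G) : tau (JT P) = tau P := by rw [tau, tau, mo_JT, JT_JT]

theorem lt_iff {E P : Subgroup G} (hE : JT E = E) (h : E ≤ P) : tau E < tau P ↔ UT (mo E) E P := by
  constructor
  · intro hl
    by_contra hn
    have key : ∀ A, Ab P A → Nat.card A = mo P → A ≤ E := fun A hA e => by_contra fun a =>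
      hn ⟨A, hA.1, hA.2, e ▸ mo_mono h, a⟩
    obtain ⟨A, hA, e⟩ := ex_mo P
    exact hl.not_ge (tau_JT P ▸ tau_mono (sSup_le fun A hA => key A hA.1 hA.2))
  · rintro ⟨A, h1, h2, h3, h4⟩
    refine (tau_mono h).lt_of_ne fun e => h4 ?_
    have h5 : mo P ≤ mo E := not_lt.1 fun a => (tau_lt a).ne e
    exact (le_JT ⟨h1, h2⟩ (le_antisymm (le_mo ⟨h1, h2⟩) (h5.trans h3))).trans
      ((JT_eq (hE.le.trans h) e).trans hE).le

theorem cen_JT {P : Subgroup G} {g : G} (hg : g ∈ P) (hc : g ∈ centralizer (JT P : Set G)) :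
    g ∈ JT P := by
  obtain ⟨A, hA, e⟩ := ex_mo P
  have h1 : zpowers g ≤ centralizer (A : Set G) :=
    zpowers_le_of_mem (centralizer_le (le_JT hA e) hc)
  have h2 : zpowers g ≤ centralizer (zpowers g : Set G) := by
    rintro _ ⟨i, rfl⟩ _ ⟨k, rfl⟩
    exact ((Commute.refl g).zpow_zpow k i).eq
  have h3 : Ab P (A ⊔ zpowers g) := ⟨sup_le hA.1 (zpowers_le_of_mem hg), sup_le
    (le_centralizer_iff.1 (sup_le hA.2 h1))
    (le_centralizer_iff.1 (sup_le (le_centralizer_iff.1 h1) h2))⟩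
  exact le_JT h3 (le_antisymm (le_mo h3) (e ▸ card_le_of_le le_sup_left))
    (mem_sup_right (mem_zpowers g))

theorem up_tau (j : ℕ) : Up p (⊤ : Subgroup G) ⊥ fun P => j ≤ tau P :=
  ⟨fun _ _ _ _ h a => a.trans (tau_mono h), fun g _ P _ a => (tau_cj g P).symm ▸ a⟩

theorem jobThmO : JobThmO.{u} := by
  intro hAV hK hL p _ G X _ _ _ n hX
  have hp : Pair p (⊤ : Subgroup G) ⊥ := ⟨IsPGroup.of_bot, le_top, (normalizer_eq_top _).ge⟩
  have hs := (hK G ⊥ ⊥).2.2.2.2 p ⊤ ⊥ _ _ _ hp secH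
  set U := secU (G := G) (Cen p) ZZ with hU
  set V := secV (G := G) (Cen p) ZZ fun _ => ⊥ with hV
  refine van_filt hX hp hs tau (fun _ _ _ _ => tau_mono) (fun g _ P _ => tau_cj g P) fun j => ?_
  have hj := Sys.cut2 hp hs (up_tau j) (up_tau (j + 1)) fun _ _ a => Nat.le_of_succ_le a
  change Sys p ⊤ ⊥ (cut (fun P => j < tau P) U V) _ at hj
  have supp : ∀ P, ¬ cut (fun P => j < tau P) U V P ≤ cut (fun P => j ≤ tau P) U V P →
      tau P = j ∧ ¬ U P ≤ V P := fun P h => by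
    rcases lt_trichotomy j (tau P) with e | e | e
    · rw [cut_pos (C := fun P => j < tau P) e, cut_pos (C := fun P => j ≤ tau P) e.le] at h
      exact absurd le_rfl h
    · rw [cut_neg (C := fun P => j < tau P) e.not_lt, cut_pos (C := fun P => j ≤ tau P) e.le] at h
      exact ⟨e.symm, h⟩
    · rw [cut_neg (C := fun P => j < tau P) e.not_gt, cut_neg (C := fun P => j ≤ tau P) e.not_ge] at h
      exact absurd le_rfl h
  refine van_loc hX hp hj JT (fun P _ _ => ⟨bot_le, JT_le P⟩) (fun g _ P _ _ => JT_cj g P)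
    (fun P Q _ _ a b h => JT_eq h ((supp P a).1.trans (supp Q b).1.symm)) fun P₀ h0 a0 => ?_
  have hE : Rel p ⊤ ⊥ (JT P₀) := ⟨bot_le, le_top, h0.isP.to_le (JT_le P₀)⟩
  have e1 := JT_JT P₀
  have e2 : tau (JT P₀) = j := (tau_JT P₀).trans (supp P₀ a0).1
  generalize JT P₀ = E at hE e1 e2
  subst e2
  have hpE := hE.pair
  have hjE := hj.res (Γ' := ⊤ ⊓ normalizer (E : Set G)) (Y' := E) le_top bot_le
  by_cases c : Cen p E
  · have hUT : Up p (⊤ ⊓ normalizer (E : Set G)) E (UT (mo E) E) :=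
      ⟨fun P Q hP hQ h a => (lt_iff e1 hQ.ge).1 (((lt_iff e1 hP.ge).2 a).trans_le (tau_mono h)),
        fun g hg P hP a => (lt_iff e1 (hP.cj hpE hg).ge).1
          ((tau_cj g P).symm ▸ (lt_iff e1 hP.ge).2 a)⟩
    refine (van_congr hX hpE hjE (Sys.cutL hpE (hs.res le_top bot_le) hUT) fun P hP =>
      Or.inr ⟨?_, cut_pos (C := fun P => tau E ≤ tau P) (tau_mono hP.ge)⟩).2 ?_
    · by_cases a : tau E < tau P
      · rw [cut_pos (C := fun P => tau E < tau P) a, cut_pos ((lt_iff e1 hP.ge).1 a)]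
      · rw [cut_neg (C := fun P => tau E < tau P) a, cut_neg (mt (lt_iff e1 hP.ge).2 a)]
    · rw [top_inf_eq]
      exact hL p G X E (mo E) n hX hE.isP c fun A h1 h2 => le_mo ⟨h1, h2⟩
  refine hAV p G X _ _ _ _ _ hX hpE hjE (fun P hP a => ?_) _
  obtain ⟨e3, a1⟩ := supp P a
  have cP : Cen p P := by_contra fun h => a1 (by
    rw [hU, hV, secU, secV, cut_neg h, cut_neg h])
  rw [cut_neg (C := fun P => tau E < tau P) e3.not_gt, cut_pos (C := fun P => tau E ≤ tau P) e3.ge,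
    hU, hV, secU, secV, cut_pos cP, cut_pos cP]
  have e4 : JT P = E := (JT_eq (e1.le.trans hP.ge) e3.symm).trans e1
  have e5 : P ⊓ centralizer (E : Set G) ≤ E := fun g hg => e4 ▸ cen_JT hg.1 (e4.symm ▸ hg.2)
  have nE : (⊤ ⊓ normalizer (E : Set G) : Subgroup G) ≤
      normalizer (centralizer (E : Set G) : Set G) := le_normalizer_centralizer inf_le_right
  refine ⟨centralizer (E : Set G) ⊓ normalizer (P : Set G),
    inf_le_inf_right _ (le_inf le_top (centralizer_le_normalizer _)),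
    le_normalizer_inf (inf_le_left.trans nE) (inf_le_right.trans le_normalizer),
    dvd_relIndex_nor hP.isP (hP.le.trans nE) (by_contra fun h => c fun g hg hg' =>
      e5 ⟨mem_of_not_dvd ((centralizer_le e5).trans (centralizer_le_normalizer _)) h hg hg', hg⟩),
    fun k hk w hw _ => (hK G (ZZ P) ⊥).2.2.1 bot_le k (fun a ha => ?_) w hw, ?_⟩
  · rw [← hk.1 a (e5 ⟨ha.1, centralizer_le hP.ge ha.2⟩)]
    simp
  · obtain ⟨e, he⟩ := IsPGroup.iff_card.1 hP.isP
    exact ⟨e, (hK G (ZZ P) ⊥).2.2.2.1 _ fun a ha =>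
      orderOf_dvd_iff_pow_eq_one.1 (he ▸ orderOf_dvd_natCard _ ha.1)⟩

end H87.CxO
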