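import Cfsg.Agent.H40.E8GSpec
import Cfsg.Agent.H66.SzInst
import Cfsg.Agent.S2238
import Cfsg.Agent.S1163
import Cfsg.Agent.S0333

/-! Tower E8G, slot Sz. -/

set_option autoImplicit false

namespace H87.E8Sz

open Matrix Module H40.E8G H40.E8F H14.E8 Cfsg.Lie H63 H64 H65

universe u

theorem count_le {Γ : Type u} [Group Γ] [Finite Γ] {p : ℕ} [Fact p.Prime] (P : Finset (Subgroup Γ))
    {c : ℕ} (hc : c = p ^ (Nat.card Γ).factorization p) :
    (P.filter (fun K : Subgroup Γ => Nat.card K = c)).card ≤ Nat.card (Sylow p Γ) := by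
  rw [← Nat.card_eq_finsetCard]
  refine Nat.card_le_card_of_injective
    (fun K => Sylow.ofCard K.1 ((Finset.mem_filter.mp K.2).2.trans hc)) (fun K L h => ?_)
  exact Subtype.ext (congrArg (fun S : Sylow p Γ => (S : Subgroup Γ)) h)

theorem card_sylow {Γ : Type u} [Group Γ] [Finite Γ] {p : ℕ} [Fact p.Prime] {U : Subgroup Γ}
    (hU : Nat.card U = p ^ (Nat.card Γ).factorization p) :
    Nat.card (Subgroup.normalizer (U : Set Γ)) * Nat.card (Sylow p Γ) = Nat.card Γ := by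
  rw [(Sylow.ofCard U hU).card_eq_index_normalizer]
  exact Subgroup.card_mul_index _

theorem fx_le {Γ : Type u} [Group Γ] [Finite Γ] {k V : Type} [Field k] [AddCommGroup V] [Module k V]
    [FiniteDimensional k V] (ρ : Γ →* End k V) (K : Subgroup Γ) (hK : IsCyclic K) :
    ∃ g : Γ, orderOf g = Nat.card K ∧ finrank k (fx (ρ g)) ≤ finrank k (Fx ρ (K : Set Γ)) := by
  obtain ⟨g, hg⟩ := IsCyclic.exists_monoid_generator (α := K)
  refine ⟨g, ?_, Submodule.finrank_mono (fun v hv => mem_Fx.mpr (fun h hh => ?_))⟩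
  · rw [Subgroup.orderOf_coe]
    exact orderOf_eq_card_of_forall_mem_powers hg
  · obtain ⟨i, hi⟩ := hg ⟨h, hh⟩
    have h1 : h = (g : Γ) ^ i := (congrArg Subtype.val hi).symm
    rw [h1, map_pow]
    exact (End.pow_apply _ _ _).trans (Function.IsFixedPt.iterate (mem_fx.mp hv) i).eq

theorem arith {ι : Type u} (P : Finset ι) (c : ι → ℕ) (d : ι → ℕ) (D : ℕ)
    (hc : ∀ K ∈ P, c K = 64 ∨ (c K = 7 ∧ 38 ≤ d K) ∨ (c K = 13 ∧ 20 ≤ d K) ∨ (c K = 5 ∧ 48 ≤ d K))
    (h1 : ∑ K ∈ P, ((c K : ℤ) - 1) = 29119) (h2 : (P.filter (fun K => c K = 64)).card ≤ 65)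
    (h13 : (P.filter (fun K => c K = 13)).card ≤ 560)
    (h5 : (P.filter (fun K => c K = 5)).card ≤ 1456)
    (h : ∑ K ∈ P, ((c K : ℤ) * d K - 248) + 248 = 29120 * D) : 0 < D := by
  have h3 : ∑ K ∈ P, (3 * ((c K : ℤ) - 1) - 437 * (if c K = 64 then 1 else 0) -
      24 * (if c K = 13 then 1 else 0) - 20 * (if c K = 5 then 1 else 0)) ≤
      ∑ K ∈ P, ((c K : ℤ) * d K - 248) := by
    refine Finset.sum_le_sum (fun K hK => ?_)
    rcases hc K hK with h | ⟨h, h'⟩ | ⟨h, h'⟩ | ⟨h, h'⟩ <;> rw [h] <;> norm_num <;> omega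
  simp only [Finset.sum_sub_distrib, ← Finset.mul_sum, Finset.sum_boole] at h3
  rw [Finset.sum_sub_distrib] at h h1
  omega

attribute [local instance] H65.tabE8 H65.commE8

theorem jobSz (hP : JobPart.{u}) (hD : JobDim2) : JobSz.{u} := by
  intro F _ _ hF ψ hψ
  classical
  have h5 : Fact (Nat.Prime 5) := ⟨by norm_num⟩
  have h13 : Fact (Nat.Prime 13) := ⟨by norm_num⟩
  have hF' : Fintype.card F = 2 ^ (2 * 1 + 1) := hF
  have hT := H66.titsOf_isFin F le_rfl hF'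
  let e : Cfsg.Lie.Sz F 4 ≃* Cfsg.Sz F 1 := (H66.modelB hT).equiv (H66.modelA hT)
  obtain ⟨hc, S, -, hS, -⟩ := Cfsg.Agent.S1163.result le_rfl hF'
  have hcB : Nat.card (Cfsg.Lie.Sz F 4) = 29120 := hc
  have hcA : Nat.card (Cfsg.Sz F 1) = 29120 := (Nat.card_congr e.toEquiv).symm.trans hcB
  have hfB : Finite (Cfsg.Lie.Sz F 4) := Nat.finite_of_card_ne_zero (by rw [hcB]; norm_num)
  have hfA : Finite (Cfsg.Sz F 1) := Nat.finite_of_card_ne_zero (by rw [hcA]; norm_num)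
  have f2 : 64 = 2 ^ (Nat.card (Cfsg.Sz F 1)).factorization 2 := by
    rw [hcA]
    decide +kernel
  have f5 : 5 = 5 ^ (Nat.card (Cfsg.Sz F 1)).factorization 5 := by
    rw [hcA]
    decide +kernel
  have f13 : 13 = 13 ^ (Nat.card (Cfsg.Sz F 1)).factorization 13 := by
    rw [hcA]
    decide +kernel
  have n2 : Nat.card (Sylow 2 (Cfsg.Sz F 1)) ≤ 65 := by
    have h1 : Nat.card (Sylow 2 (Cfsg.Lie.Sz F 4)) = 65 := S.card_eq_index_normalizer.trans hS
    rw [← h1]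
    exact Nat.card_le_card_of_surjective _
      (Sylow.mapSurjective_surjective (f := e.toMonoidHom) e.surjective 2)
  have n5 : Nat.card (Sylow 5 (Cfsg.Sz F 1)) ≤ 1456 := by
    obtain ⟨U, -, h1, -, h2⟩ := Cfsg.Agent.S0333.result le_rfl hF' 5 (.inr rfl)
    have := card_sylow (h1.trans f5)
    rw [h2, hcA] at this
    omega
  have n13 : Nat.card (Sylow 13 (Cfsg.Sz F 1)) ≤ 560 := by
    obtain ⟨U, -, h1, -, h2⟩ := Cfsg.Agent.S0333.result le_rfl hF' 13 (.inl rfl)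
    have := card_sylow (h1.trans f13)
    rw [h2, hcA] at this
    omega
  have := Fintype.ofFinite (Cfsg.Sz F 1)
  have := Fintype.ofFinite (Subgroup (Cfsg.Sz F 1))
  let P : Finset (Subgroup (Cfsg.Sz F 1)) := Finset.univ.filter (fun U =>
    (∃ Q : Sylow 2 (Cfsg.Sz F 1), U = (Q : Subgroup (Cfsg.Sz F 1))) ∨
      (IsCyclic U ∧ Nat.card U ∈ ({7, 13, 5} : Set ℕ)))
  have hPu : ∀ g : Cfsg.Sz F 1, g ≠ 1 → ∃! K, K ∈ P ∧ g ∈ K := by
    intro g hg
    simp only [P, Finset.mem_filter, Finset.mem_univ, true_and]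
    exact Cfsg.Agent.S2238.result le_rfl hF' g hg
  let ψ' : Cfsg.Sz F 1 →* G8 := ψ.comp e.symm.toMonoidHom
  have hψ' : Function.Injective ψ' := hψ.comp e.symm.injective
  have h1 := hP _ ψ' (by rw [hcA]; norm_num) P hPu
  rw [hcA] at h1
  have h2 := arith P (fun K => Nat.card K)
    (fun K => finrank K3 (Fx (fun g => ad (ψ' g)) (K : Set (Cfsg.Sz F 1)))) _ (by
      intro K hK
      rcases (Finset.mem_filter.mp hK).2 with ⟨Q, rfl⟩ | ⟨hK1, hK2⟩
      · exact .inl (Q.card_eq_multiplicity.trans f2.symm)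
      · obtain ⟨g, hg1, hg2⟩ := fx_le (ad.comp ψ') K hK1
        rw [← orderOf_injective ψ' hψ' g] at hg1
        obtain ⟨-, d5, d7, d13⟩ := hD (ψ' g)
        rcases hK2 with h | h | h
        · exact .inr (.inl ⟨h, (d7 (hg1.trans h)).trans hg2⟩)
        · exact .inr (.inr (.inl ⟨h, (d13 (hg1.trans h)).trans hg2⟩))
        · exact .inr (.inr (.inr ⟨h, (d5 (hg1.trans h)).trans hg2⟩))) (by
      have h3 : ∀ K : Subgroup (Cfsg.Sz F 1), (Nat.card K : ℤ) - 1 =
          ∑ g ∈ Finset.univ.erase 1, if g ∈ K then 1 else 0 := by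
        intro K
        rw [Finset.sum_erase_eq_sub (Finset.mem_univ _), if_pos (one_mem K), Finset.sum_boole,
          Nat.card_eq_fintype_card, Fintype.card_subtype]
      have h4 := h3 ⊤
      rw [Subgroup.card_top, hcA] at h4
      simp only [h3]
      rw [Finset.sum_comm, show (29119 : ℤ) = ((29120 : ℕ) : ℤ) - 1 by norm_num, h4]
      refine Finset.sum_congr rfl (fun g hg => ?_)
      obtain ⟨K, ⟨hK1, hK2⟩, hK3⟩ := hPu g (Finset.ne_of_mem_erase hg)
      rw [Finset.sum_eq_single_of_mem K hK1 (fun L hL hne => if_neg (fun h => hne (hK3 L ⟨hL, h⟩))),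
        if_pos hK2, if_pos (Subgroup.mem_top g)])
    ((count_le P f2).trans n2) ((count_le P f13).trans n13) ((count_le P f5).trans n5) h1
  obtain ⟨⟨v, hv⟩, hv0⟩ := Module.finrank_pos_iff_exists_ne_zero.mp h2
  refine ⟨v, fun h => hv0 (Subtype.ext h), fun g => ?_⟩
  have := mem_Fx.mp hv (e g) (Set.mem_univ _)
  rwa [show ψ' (e g) = ψ g from congrArg ψ (e.symm_apply_apply g)] at this

end H87.E8Sz
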