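import Cfsg.Agent.H68.EaSpec
import Cfsg.Agent.H84.OlsA
import Cfsg.Agent.H98.KbAB1

/-! Tower EA, slot G16: odd automorphism groups of abelian groups of order sixteen. -/

set_option autoImplicit false

namespace H87.EaG16

open Subgroup H24.KB H84.Ols H68.EA

universe u

theorem free_prime {E : Type*} [CommGroup E] [Finite E] {J : Subgroup (MulAut E)} {p : ℕ}
    (hp : p.Prime) (hJ : Nat.card J ∣ p) (hZ : ∀ x, (∀ α ∈ J, α x = x) → x = 1) : FreeOn J := by
  intro α hα x x1 e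
  by_contra a1
  have h := (eq_zpowers hp hJ hα a1).1
  exact x1 (hZ x (mem_Fx.1 (h ▸ mem_Fz.2 e)))

theorem core {E : Type*} [CommGroup E] [Finite E] (h2 : ∀ x : E, x ^ 2 = 1) (hn : Nat.card E = 16)
    {J : Subgroup (MulAut E)} (hJ : Odd (Nat.card J)) (hZ : ∀ x, (∀ α ∈ J, α x = x) → x = 1) :
    Nat.card J ∣ 3 ∨ Nat.card J = 9 ∨ FreeOn J ∧ (Nat.card J = 5 ∨ Nat.card J = 15) := by
  have pw : ∀ W : Subgroup E, ∃ k ≤ 4, Nat.card W = 2 ^ k := fun W => by
    obtain ⟨k, e⟩ := pow2 h2 W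
    exact ⟨k, (Nat.pow_le_pow_iff_right one_lt_two).1 (e ▸ (card_le_card_group W).trans hn.le), e⟩
  have lt : ∀ W : Subgroup E, W ≠ ⊤ → Nat.card W < Nat.card E := fun W h =>
    lt_of_le_of_ne (card_le_card_group W) fun e => h (eq_top_of_card_eq W e)
  have fx : ∀ {s : MulAut E} {p : ℕ}, p.Prime → orderOf s = p →
      Nat.card (Fx (zpowers s)) < Nat.card E ∧ Nat.card E % p = Nat.card (Fx (zpowers s)) % p :=
    fun {s p} hp o => ⟨lt _ fun e => hp.ne_one (by rw [← o, fx_ne e, orderOf_one]), by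
      simpa using card_mod hp o (W := ⊤) fun _ _ => trivial⟩
  have hd : Nat.card J ∣ 315 := dk h2 4 (W := ⊥) hJ bot_le (by rw [card_bot, hn]; rfl)
  have h7 : ¬ 7 ∣ Nat.card J := fun h => by
    obtain ⟨s, hs, o⟩ := exists_order (by norm_num) h
    obtain ⟨f1, f2⟩ := fx (by norm_num) o
    obtain ⟨k, k4, hk⟩ := pw (Fx (zpowers s))
    have f3 : Nat.card (Fx (zpowers s)) = 2 := by
      rw [hn, hk] at f1 f2
      rw [hk]
      interval_cases k <;> omega
    obtain ⟨f, f1, fu⟩ := (Nat.card_eq_two_iff' (1 : Fx (zpowers s))).1 f3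
    refine f1 (Subtype.ext (hZ f fun α hα => ?_))
    have h1 : α⁻¹ * s * α⁻¹⁻¹ ∈ zpowers s := lift_uniq (fun h1 h2 => uniq7' hd h1 h2) hs
      (mul_mem (mul_mem (inv_mem hα) hs) (inv_mem (inv_mem hα))) o (by rw [orderOf_cj, o])
    have h3 : α f ∈ Fx (zpowers s) := mem_Fz.2 (by
      have := mem_Fx.1 f.2 _ h1
      rw [inv_inv, MulAut.mul_apply, MulAut.mul_apply] at this
      simpa using congrArg α this)
    exact congrArg Subtype.val (fu ⟨_, h3⟩ fun e => f1 (Subtype.ext (by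
      simpa using congrArg Subtype.val e)))
  have c7 := ((Nat.Prime.coprime_iff_not_dvd (by norm_num)).2 h7).symm
  have h45 : Nat.card J ∣ 5 * 9 := c7.dvd_of_dvd_mul_left hd
  by_cases h5 : 5 ∣ Nat.card J
  swap
  · obtain ⟨i, i2, e⟩ := (Nat.dvd_prime_pow (m := 2) Nat.prime_three).1
      (((Nat.Prime.coprime_iff_not_dvd (by norm_num)).2 h5).symm.dvd_of_dvd_mul_left h45)
    interval_cases i
    exacts [.inl (by simp [e]), .inl (by simp [e]), .inr (.inl e)]
  have fr : FreeOn J := fun α hα x x1 e => by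
    obtain ⟨σ, hσ, o⟩ := exists_order (by norm_num) h5
    obtain ⟨f, cf, hf'⟩ := exists_aut (J := J) (a := σ) fun g hg =>
      lift_uniq (fun h1 h2 => uniq0 (by norm_num) h45 (by norm_num) (by decide) h1 h2) hσ
        (mul_mem (mul_mem hg hσ) (inv_mem hg)) o (by rw [orderOf_cj, o])
    have cm := hf' ⟨α, hα⟩ (by
      rw [← orderOf_eq_one_iff]
      refine Nat.eq_one_of_dvd_coprimes (show Nat.Coprime 45 4 by norm_num)
        ((orderOf_map_dvd _ _).trans ((_root_.orderOf_dvd_natCard _).trans h45)) ?_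
      have := _root_.orderOf_dvd_natCard (f ⟨α, hα⟩)
      rwa [cf, o, show Nat.totient 5 = 4 by decide] at this)
    have h1 := card_mod (by norm_num) o (W := Fx (zpowers α)) fun x hx => mem_Fz.2 (by
      have := DFunLike.congr_fun cm x
      rwa [MulAut.mul_apply, MulAut.mul_apply, mem_Fz.1 hx] at this)
    obtain ⟨f1, f2⟩ := fx (by norm_num) o
    obtain ⟨k, k4, hk⟩ := pw (Fx (zpowers σ))
    have f3 : Fx (zpowers σ) = ⊥ := card_eq_one.1 (by
      rw [hn, hk] at f1 f2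
      rw [hk]
      interval_cases k <;> omega)
    rw [f3, inf_bot_eq, card_bot] at h1
    obtain ⟨r, r4, hr⟩ := pw (Fx (zpowers α))
    refine fx_ne (eq_top_of_card_eq _ ?_)
    have h3 : Nat.card (Fx (zpowers α)) ≠ 1 := fun e' =>
      x1 (mem_bot.1 ((card_eq_one.1 e').le (mem_Fz.2 e)))
    rw [hr] at h1 h3 ⊢
    interval_cases r <;> omega
  have h15 := dvd_mul_ncard (J := J) (X := {1}ᶜ) (m := 1) (fun α _ x hx => by simpa using hx)
    fun x hx => by
      rw [Nat.dvd_one, card_eq_one, eq_bot_iff]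
      exact fun α hα => mem_bot.2 (fr α (mem_St.1 hα).1 x hx (mem_St.1 hα).2)
  rw [Set.ncard_compl, hn, Set.ncard_singleton] at h15
  obtain ⟨m, hm⟩ := h5
  have h3 : m ∣ 3 := Nat.dvd_of_mul_dvd_mul_left (by norm_num : 0 < 5) (hm ▸ h15)
  refine .inr (.inr ⟨fr, ?_⟩)
  rcases (Nat.dvd_prime Nat.prime_three).1 h3 with rfl | rfl
  exacts [.inl hm, .inr hm]

theorem jobG16 : JobG16.{u} := by
  intro GD GW P g _ I hc h16 hI
  have hP : IsPGroup 2 P := .of_card (n := 4) h16
  obtain ⟨Z, V, d⟩ := GD P I hc hP hI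
  have hV := V.card_mul_index
  by_cases hT : V = ⊤
  swap
  · have i1 : V.index ≠ 1 := mt index_eq_one.1 hT
    have i0 : V.index ≠ 0 := index_ne_zero_of_finite
    have h8 : Nat.card V ≤ 8 := by
      have : Nat.card V * 2 ≤ Nat.card V * V.index := Nat.mul_le_mul_left _ (by omega)
      omega
    rcases GW P I Z V hc hP hI d h8 with h | ⟨u, hu, h | h⟩
    · exact .inl h
    · exact .inr (.inl ⟨Z, V, u, hu, .inl h⟩)
    · refine .inr (.inl ⟨Z, V, u, hu, .inr ⟨h, ?_⟩⟩)
      have : V.Normal := ⟨fun x hx y => by rwa [hc y x, mul_inv_cancel_right]⟩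
      have h1 := relIndex_dvd_index_of_normal V Z
      rw [← inf_relIndex_right, inf_comm, d.inf, relIndex_bot_left,
        show V.index = 2 by rw [h] at hV; omega] at h1
      obtain ⟨z, hz⟩ := (Subgroup.isCyclic_iff_exists_zpowers_eq_top Z).1
        (isCyclic_of_card_dvd_prime (hp := ⟨Nat.prime_two⟩) h1)
      exact ⟨z, hz.symm⟩
  have hZ : ∀ x, (∀ α ∈ I, α x = x) → x = 1 := fun x hx =>
    mem_bot.1 (d.inf.le ⟨(d.fix x).2 hx, hT ▸ mem_top x⟩)
  let _ : CommGroup P := { g with mul_comm := hc }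
  have three : Nat.card I ∣ 3 → I = ⊥ ∨ FreeOn I ∧ Nat.card I = 3 := fun h =>
    ((Nat.dvd_prime Nat.prime_three).1 h).imp card_eq_one.1
      fun e => ⟨free_prime Nat.prime_three h hZ, e⟩
  by_cases h2 : ∀ x : P, x ^ 2 = 1
  · rcases core h2 h16 hI hZ with h | h
    · exact (three h).imp_right fun e => .inr (.inl e)
    · exact .inr (.inr (.inr ⟨h2, h⟩))
  · have h3 := H98.Kb.jobAB1 P I hc hP hI h16.le (not_forall.1 h2)
    refine (three ?_).imp_right fun e => .inr (.inl e)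
    obtain ⟨k, hk⟩ := hI
    rw [hk] at h3 ⊢
    have : k ≤ 1 := by omega
    interval_cases k <;> decide

end H87.EaG16
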