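/- Sectional rank three: the torus, and the local structure in case alpha. -/
import Cfsg.Agent.H87.F3L

set_option autoImplicit false
set_option linter.unusedSectionVars false

namespace H87.F3
open Cfsg H92 H93 Subgroup H92.Es H92.P5
open scoped commutatorElement

universe u

theorem jobTor : JobTor.{u} := by
  intro Ω _ _ p hp E N L G A P B k l h hx s sA sP nP nL sole hkl
  have lA := s.lE.trans h.sp.le
  have t1 : N ≤ Tv A P := fun _ hg => sA.tv h.pg lA hg (s.nA (h.le hg)) (nP hg)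
  have t2 : N ≤ Tv P B := fun _ hg => sP.tv h.pg (sA.le.trans lA) hg (nP hg) (s.nB (h.le hg))
  obtain ⟨x, hx1, hx2⟩ := h.sp.ex
  have t3 : x ∉ Tv A B := fun r => nL (h.nm_of_pMod s.lE s.nA s.nB
    (h.pl (fun _ hg => mem_Nm_Tv (s.nA hg) (s.nB hg)) (h.ct_le s.le s.lE) hx1 hx2 r).2 sP.le sA.le nP)
  obtain ⟨a, ha, ha'⟩ := SetLike.not_le_iff_exists.1 nL
  have eA := cj_eq_of_Nm (s.nA ha)
  have eB := cj_eq_of_Nm (s.nB ha)
  have sP' : Sp p (cj a P) B := eB ▸ sP.cj a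
  have sA' : Sp p A (cj a P) := eA ▸ sA.cj a
  have ne : ¬ cj a P ≤ P := fun r => ha' (mem_Nm_of_le r)
  obtain ⟨τ, hτ, w0, w1⟩ := torus (x := x) (x' := a * x * a⁻¹) sP sP' sA sA' ne (t1 hx1) (t2 hx1) t3
    (by have := conj_mem_Tv a (t1 hx1); rwa [eA] at this)
    (by have := conj_mem_Tv a (t2 hx1); rwa [eB] at this)
    (fun r => t3 (by simpa [mul_assoc] using conj_mem_Tv_of_Nm (inv_mem (s.nA ha)) (inv_mem (s.nB ha)) r))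
    hkl
  have τL : τ ∈ L := (closure_le L).2 (by
    rintro _ (rfl | rfl)
    · exact h.le hx1
    · exact mul_mem (mul_mem ha (h.le hx1)) (inv_mem ha)) hτ
  have τP : τ ∈ Nm P := W.nm sP.le w0
  have lJ : N ⊔ (L ⊓ Ct E) ≤ L ⊓ (Tv A P ⊓ Tv P B) := sup_le (le_inf h.le (le_inf t1 t2))
    (le_inf inf_le_left (le_inf (h.ct_le sA.le s.lE) (h.ct_le sP.le (sA.le.trans s.lE))))
  have eJ := (h.syl.mono_right lJ inf_le_left).eq_of_pMod (inf_le_left.trans h.nmC) le_sup_right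
    (PMod.inf (PMod.of_le inf_le_left) ((PMod.inf (PMod.of_le inf_le_left)
      ((pMod_Tv sP.pg).mono inf_le_right le_rfl)).trans sole))
  obtain ⟨g, hg, e⟩ := hx.ext τ τL (eJ ▸ mem_Nm_inf (le_Nm L τL)
    (mem_Nm_inf (mem_Nm_Tv (s.nA τL) τP) (mem_Nm_Tv τP (s.nB τL))))
  obtain ⟨n, hc, hw⟩ := exists_cop (p := p) g
  have hg' := pow_mem hg (p ^ n)
  have nB : A ≤ Nm B := s.lE.trans (h.lE.trans s.nB)
  have v0 : ∀ y ∈ P, W (g ^ p ^ n) y B k := fun y hy =>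
    hw y B k ((w0 y hy).congr (s.lE (sA.le hy)) e) (s.nB hg.1) (nB (sA.le hy)) (sP.pow hy)
  have v1 : ∀ y ∈ cj a P, W (g ^ p ^ n) y B l := fun y hy =>
    hw y B l ((w1 y hy).congr (s.lE (sA'.le hy)) e) (s.nB hg.1) (nB (sA'.le hy)) (sP'.pow hy)
  obtain ⟨y, hy, hy'⟩ := SetLike.not_le_iff_exists.1 ne
  have v2 : ∀ y ∈ A, W (g ^ p ^ n) y P l := fun _ hy₁ =>
    ((v1 y hy).mono sP.le).same sA (W.nm sP.le v0) (sA'.le hy) hy' hy₁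
  refine ⟨_, hg', hc, v0, v2, fun x' hx' => ?_, ?_⟩
  · obtain ⟨j, hj⟩ := h.sp.wt (hx.nm hg'.2) hx1 hx2
    have c := com_of_tv (t1 hx1) (sA'.le hy)
    have w := hj.comm (v2 y (sA'.le hy)) hx1 (sA'.le hy) sA.le (s.nB (h.le hx1)) (nB (sA'.le hy))
      s.tv (tv_symm (sA.le.trans nB) t2) (com_of_tv (t2 hx1) c) (com_of_tv (t2 (lA (sA'.le hy))) c)
    have e1 := w.uniq (v0 _ c) (fun r => t3 (sA.tv_of (t2 hx1) nB (sA'.le hy) hy' r)) (sP.pow c)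
    refine (hj.of_eq (h.sp.pow hx1) ?_).same h.sp (h.nm hg'.1) hx1 hx2 hx'
    push_cast at e1 ⊢
    linear_combination (k : ZMod p) * e1 - (j : ZMod p) * hkl
  · rintro rfl rfl y hy
    exact neg_all sA sA'.le ne (s.lE.trans s.tv) v0 v1 hy

variable {Ω : Type u} [Group Ω] {A A₀ A₁ A₂ B B₀ E G H L M N P T : Subgroup Ω} {x y : Ω} {p : ℕ}
  {k l : ℤ} [hp : Fact p.Prime] [Finite Ω]

theorem Cub.mem (c : Cub p E N A A₂ A₁ B) (hx : x ∈ N) (hx' : x ∉ E) (hy : y ∈ A)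
    (e : ⁅x, y⁆ ∈ B) : y ∈ A₁ :=
  by_contra fun r => c.n2 x hx hx' y (by_contra fun q => c.n3 x hx hx' y hy q (c.s1.le e)) r e

theorem Cub.card (c : Cub p E N A A₂ A₁ B) : Nat.card A = p ^ 3 * Nat.card B :=
  Sp.three c.s3 c.s2 c.s1

theorem Cub.eq2 (c : Cub p E N A A₂ A₁ B) (hx : x ∈ N) (hx' : x ∉ E) (hy : y ∈ A) (hy' : y ∉ A₂) :
    A₂ = A₁ ⊔ zpowers ⁅x, y⁆ := c.s2.sup (com_of_tv (c.t3 hx) hy) (c.n3 x hx hx' y hy hy')

theorem Cub.eq1 (c : Cub p E N A A₂ A₁ B) (hx : x ∈ N) (hx' : x ∉ E) (hy : y ∈ A₂) (hy' : y ∉ A₁) :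
    A₁ = B ⊔ zpowers ⁅x, y⁆ := c.s1.sup (com_of_tv (c.t2 hx) hy) (c.n2 x hx hx' y hy hy')

namespace Qd
variable (q : Qd p E N L A B A₀ P H B₀)
include q

theorem inf_B : P ⊓ B₀ = B := q.s1.eq_of' (le_inf q.s1.le q.lB) inf_le_left
  fun r => q.nP (r.trans inf_le_right)

theorem inf_H : A₀ ⊓ H = P := q.s0.eq_of' (le_inf q.s0.le q.lP) inf_le_left
  fun r => q.nH (r.trans inf_le_right)

theorem eqP (hx : x ∈ N) (hx' : x ∉ E) (hy : y ∈ A) (hy' : y ∉ H) : P = B ⊔ zpowers ⁅x, y⁆ :=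
  q.s1.sup (com_of_tv (q.t1 hx) hy) fun r => q.ne x hx hx' y hy hy' (q.lB r)

theorem nA₀ : L ≤ Nm A₀ := fun _ hg => (q.tA hg).1

theorem nB₀ : L ≤ Nm B₀ := fun _ hg => Nm_of_Tv (q.tB hg) q.lB le_rfl

theorem tvHP : L ⊓ Nm H ≤ Tv H P := fun _ hg =>
  q.inf_H ▸ mem_Tv_inf (Tv_anti q.sH.le _ (q.tA hg.1)) (mem_Tv_self hg.2)

end Qd

theorem Loc.not_el (h : Loc p E N L) (pT : PMod p L (Ct T)) (lT : T ≤ E) : ¬ PMod p L (Tv E T) :=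
  fun r => h.nn (PMod.tvct (h.pgE.to_le lT) r pT)

/-- case alpha: `E / T` is natural plus trivial with axis `M` -/
theorem alpha_loc (SC : JobSC.{u}) (h2 : p ≠ 2) (hs : SR p 3 N) (h : Loc p E N L) (nT : L ≤ Nm T)
    (pT : PMod p L (Ct T)) (el : El p E T) (sM : Sp p E M) (tM : N ≤ Tv M T) :
    ∃ A₀ P B₀, Qd p E N L E T A₀ P M B₀ := by
  obtain ⟨x, hx, hx'⟩ := h.sp.ex
  rcases SC Ω p E N L E T h2 hs h ⟨el.le, le_rfl, h.nm, nT, el.ab, el.pw⟩ (h.not_el pT el.le) with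
    ⟨A₀, P, H, B₀, q⟩ | ⟨A₂, A₁, c, -⟩
  · obtain rfl : M = H := Sp.eq_of_le sM q.sH fun y hy => by_contra fun r =>
      q.ne x hx hx' y (sM.le hy) r (q.lB (com_of_tv (tM hx) hy))
    exact ⟨A₀, P, B₀, q⟩
  · have l : M ≤ A₁ := fun y hy => c.mem hx hx' (sM.le hy) (com_of_tv (tM hx) hy)
    exact absurd ((Sp.eq_of_le sM c.s3 (l.trans c.s2.le)).ge.trans l) c.s2.not_le

theorem Qd.eq_com (q : Qd p E N L E T A₀ P M B₀) (h : Loc p E N L) : P = T ⊔ ⁅N, N⁆ := by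
  obtain ⟨x, hx, hx'⟩ := h.sp.ex
  obtain ⟨y, hy, hy'⟩ := q.sH.ex
  refine le_antisymm ((q.eqP hx hx' hy hy').le.trans (sup_le_sup_left
    (zpowers_le.2 (commutator_mem_commutator hx (h.sp.le hy))) T)) (sup_le q.s1.le ?_)
  exact le_of_tv (h.sp.cyc (fun _ hg => (q.t1 hg).1) q.t1)

/-- the torus in case alpha -/
theorem alpha_tor (q : Qd p E N L E T A₀ P M B₀) (h : Loc p E N L) (hx : Ext E N L G)
    (pT : PMod p L (Ct T)) (el : El p E T) (hkl : (k * l : ZMod p) = 1) :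
    ∃ z ∈ L ⊓ G, (orderOf z).Coprime p ∧ z ∈ Ct B₀ ∧ z ∈ Tv M P ∧ (∀ y ∈ M, W z y B₀ k) ∧
      (∀ y ∈ P, W z y T k) ∧ (∀ y ∈ E, W z y M l) ∧ (∀ y ∈ N, W z y E (k * k)) ∧
      (k = -1 → l = -1 → ∀ y ∈ E, W z y B₀ (-1)) := by
  have lB := q.sB.le.trans q.sH.le
  have e0 := el.mono q.lB lB
  have pB : PMod p L (Ct B₀) := PMod.tvct (h.pgE.to_le el.le) (PMod.of_le q.tB) pT
  obtain ⟨a, ha, ha'⟩ := q.ex
  obtain ⟨z, hz, hc, w0, w1, w2, w3⟩ := jobTor Ω p E N L G E M B₀ k l h hx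
    ⟨lB, le_rfl, h.nm, q.nB₀, e0.ab, e0.pw⟩ q.sH q.sB
    (fun _ hg => Nm_of_Tv (q.t1 hg) q.lP q.sH.le)
    (fun r => ha' (cj_eq_of_Nm (r ha) ▸ cj_mono a q.lP))
    (PMod.tvct (h.pgE.to_le lB) (PMod.of_le inf_le_right) (pB.mono inf_le_left le_rfl)) hkl
  have t := q.tvHP ⟨hz.1, W.nm q.sB.le w0⟩
  refine ⟨z, hz, hc, PMod.mem pB hz.1 hc, t, w0, fun y hy => ?_, w1, w2, w3⟩
  have := W.inf (w0 y (q.lP hy)) t.1 hy
  rwa [inf_comm, q.inf_B] at this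

end H87.F3
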