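/- Sectional rank three: case II set-up, case IIa, and the liftings. -/
import Cfsg.Agent.H87.F3A

set_option autoImplicit false
set_option linter.unusedSectionVars false

namespace H87.F3
open Cfsg H92 H93 Subgroup H92.Es H92.P5
open scoped commutatorElement

universe u

theorem jobR2 : JobR2.{u} := by
  intro SC Ω _ _ p hp N 𝓔 L f cr E₂ h₂ hc
  have h := f.loc E₂ h₂
  have all : ∀ U ≤ OZ p N, L E₂ ≤ Nm U → U = ⊥ := fun U h1 h2 => le_bot_iff.1 (cr.max U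
    (h1.trans (OZ_le p N)) fun E hE => by
      by_cases e : E = E₂
      · exact e ▸ h2
      · exact fun _ hg => Ct_le_Nm _ (Ct_anti h1 (hc E hE e hg)))
  have z0 : OZ p N ≠ ⊥ := fun r => inf_OZ_ne_bot h.pg le_rfl (le_Nm N)
    (fun q => h.sp.not_le (q.le.trans bot_le)) (by rw [r, inf_bot_eq])
  have c2 : ¬ L E₂ ≤ Nm (OZ p N) := fun r => z0 (all _ le_rfl r)
  have s := h.sec_OZ
  have n : ¬ PMod p (L E₂) (Tv (OZ p E₂) ⊥) := fun r =>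
    c2 (h.nm_of_pMod s.lE s.nA s.nB r bot_le h.OZ_le fun _ hg => nm_OZ (le_Nm N hg))
  obtain ⟨E₁, h₁, y1⟩ : ∃ E₁ ∈ 𝓔, ¬ L E₁ ≤ Nm (OZ p E₂) := by
    by_contra! r
    exact z0 (le_bot_iff.1 (h.OZ_le.trans (cr.max _ (s.lE.trans h.sp.le) r)))
  have ne : E₁ ≠ E₂ := fun r => y1 (r ▸ r ▸ s.nA)
  obtain ⟨x, hx, hx'⟩ := h.sp.ex
  have fix : ∀ U ≤ OZ p E₂, N ≤ Tv U ⊥ → U ≤ OZ p N := fun U h1 h2 =>
    le_OZ (h1.trans (s.lE.trans h.sp.le)) (fun _ hg => tv_bot.1 (h2 hg)) fun y hy => s.pw y (h1 hy)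
  have cz : ∀ y ∈ OZ p N, ⁅x, y⁆ ∈ (⊥ : Subgroup Ω) := fun y hy => com_symm (com_ct hy.2.1 hx)
  refine ⟨E₁, h₁, ?_⟩
  rcases SC Ω p E₂ N (L E₂) _ ⊥ f.odd f.sr h s n with ⟨A₀, P, H, B₀, q⟩ | ⟨A₂, A₁, c, ir⟩
  · obtain rfl : B₀ = ⊥ := all B₀ (fix _ (q.sB.le.trans q.sH.le) (h.le.trans q.tB)) q.nB₀
    obtain rfl : H = OZ p N := le_antisymm (fix _ q.sH.le q.t2) fun y hy => by_contra fun r =>
      q.ne x hx hx' y (h.OZ_le hy) r (cz y hy)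
    exact ⟨f.odd, f.sr, f.loc E₁ h₁, h, ne, f.lk E₁ h₁ E₂ h₂ ne, hc E₁ h₁ ne, c2, y1, q.sB,
      h.irr_two s.lE s.nA s.nB (Sp.two q.sH q.sB) n, Or.inl q.sH⟩
  · obtain rfl : A₁ = OZ p N := le_antisymm (fix _ (c.s2.le.trans c.s3.le) c.t1) fun y hy =>
      c.mem hx hx' (h.OZ_le hy) (cz y hy)
    exact ⟨f.odd, f.sr, f.loc E₁ h₁, h, ne, f.lk E₁ h₁ E₂ h₂ ne, hc E₁ h₁ ne, c2, y1, c.s1, ir,
      Or.inr ⟨A₂, c⟩⟩

theorem jobR2a : JobR2a.{u} := by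
  intro Ω _ _ p hp N E₁ L₁ E₂ L₂ c n
  obtain ⟨s1, s2, -, -⟩ := two_max c.l1.sp c.l2.sp c.ne
  have nP : L₂ ≤ Nm (H9.phi E₂) := fun _ hg => nm_phi (c.l2.nm hg)
  have e0 : OZ p E₂ ⊓ H9.phi E₂ = ⊥ := (c.irr _ bot_le inf_le_left fun _ hg =>
    mem_Nm_inf (nm_OZ (c.l2.nm hg)) (nP hg)).resolve_right fun r =>
      n (r.ge.trans (inf_le_right.trans ((phi_le_of_sp s2).trans inf_le_left)))
  have e1 : H9.phi E₂ = ⊥ := by_contra fun r => inf_OZ_ne_bot c.l2.pg ((H9.phi_le E₂).trans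
    c.l2.sp.le) (c.l2.le.trans nP) r (le_bot_iff.1 (e0 ▸ le_inf (inf_le_right.trans c.l2.OZ_le)
      inf_le_left))
  have el : El p E₂ ⊥ := e1 ▸ el_phi c.l2.pgE
  have e2 : OZ p E₂ = E₂ := le_antisymm (OZ_le p E₂) (le_OZ le_rfl el.ct el.pw)
  have z1 : OZ p N ≤ E₁ := c.l1.OZ_le.trans (OZ_le p E₁)
  have nZ : L₁ ≤ Nm (OZ p N) := fun _ hg => Ct_le_Nm _ (c.c1 hg)
  have e3 : Nat.card E₁ = Nat.card E₂ :=
    Nat.eq_of_mul_eq_mul_left hp.out.pos (c.l1.sp.card.symm.trans c.l2.sp.card)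
  have ir := c.irr
  rcases c.sY with s | ⟨A₂, s⟩ <;> rw [e2] at s ir
  · exact absurd (PMod.tvct c.sZ.pg (PMod.of_le (c.l1.small z1 le_rfl c.l1.nm nZ
      (e3.trans s.card).le)) (PMod.of_le c.c1)) c.l1.nn
  obtain ⟨x, hx, hx'⟩ := s1.ex
  replace hx' : x ∉ E₂ := fun r => hx' ⟨hx, r⟩
  obtain ⟨y, hy, hy'⟩ := s.s3.ex
  have eM : A₂ = E₁ ⊓ E₂ := Sp.eq_of_le s.s3 s2 ((s.eq2 (c.l1.sp.le hx) hx' hy hy').le.trans
    (sup_le (le_inf z1 (s.s2.le.trans s.s3.le)) (zpowers_le.2 ⟨com_symm (com_of_tv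
      (mem_Tv_self (c.l1.sp.nm (c.l2.sp.le hy))) hx), s.s3.le (com_of_tv (s.t3 (c.l1.sp.le hx)) hy)⟩)))
  rw [← eM] at s1
  have t : E₁ ≤ Tv E₁ (OZ p N) := s1.cyc (c.l1.lE.trans nZ) (c.l1.sp.le.trans s.t2)
  obtain ⟨U, hU⟩ := exists_om c.odd c.l1.OZ_le
  have l1 : A₂ ≤ U := fun e he => (hU e).2 ⟨s1.le he, t (s1.le he), el.pw e (s.s3.le he)⟩
  have l2 : E₁ ≤ U := by_contra fun r => by
    have nA : L₁ ≤ Nm A₂ := fun _ hg =>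
      s1.eq_of' l1 (fun e he => ((hU e).1 he).1) r ▸ nm_om hU (c.l1.nm hg) (nZ hg)
    exact c.l1.nn (PMod.tvct c.sZ.pg (PMod.tv2 s.s2.pg (PMod.of_le (c.l1.small' s1 le_rfl c.l1.nm nA))
      (PMod.of_le (c.l1.small' s.s2 s1.le nA nZ))) (PMod.of_le c.c1))
  obtain ⟨w, hw, hw'⟩ := s.s2.ex
  exact ⟨A₂, _, s, el, ir, fun r => s.n2 x (c.l1.sp.le hx) hx' w hw hw' (com_of_tv (r hx) (s1.le hw)),
    fun e he => ((hU e).1 (l2 he)).2.2⟩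

variable {Ω : Type u} [Group Ω] {A B C D E N T X : Subgroup Ω} {r x y z : Ω} {p : ℕ}

theorem tv3 (nA : A ≤ Nm D) (nB : B ≤ Nm D) (nC : C ≤ Nm D) (h1 : ⁅⁅B, C⁆, A⁆ ≤ D)
    (h2 : ⁅⁅C, A⁆, B⁆ ≤ D) : ⁅A, B⁆ ≤ Tv C D :=
  tv_of_le ((commutator_le_sup A B).trans (sup_le nA nB)) (H98.three_subgroups nA nB nC h1 h2)

/-- commutators with an automorphism of an abelian group -/
theorem com_pow (hE : E ≤ Ct E) (hr : r ∈ Nm E) (hy : y ∈ E) (n : ℕ) : ⁅r, y⁆ ^ n = ⁅r, y ^ n⁆ := by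
  have c : Commute (r * y * r⁻¹) y⁻¹ := mem_Ct'.1 (hE (inv_mem hy)) _ (conj_mem_of_Nm hr hy)
  rw [commutatorElement_def, commutatorElement_def, c.mul_pow, conj_pow, inv_pow]

theorem com_mem (hr : r ∈ Nm E) (hy : y ∈ E) : ⁅r, y⁆ ∈ E := com_of_tv (mem_Tv_self hr) hy

theorem com_mem_ct (hr : r ∈ Ct T) (hy : y ∈ Nm T) : ⁅r, y⁆ ∈ Ct T :=
  com_symm (com_mem (mem_Nm_Ct hy) hr)

theorem jobLB : JobLB.{u} := by
  intro Ω _ _ p hp E N L A₂ A₁ T hs h nT pT el c ir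
  have pT' := h.pgE.to_le el.le
  have key : ∀ U ≤ E, L ≤ Nm U → (∀ r ∈ L, (orderOf r).Coprime p → ∀ y ∈ E, ⁅r, y⁆ ∈ U) →
      T = H9.phi E → E ≤ U := fun U h1 h2 h3 e => by
    rcases ir (U ⊔ T) le_sup_right (sup_le h1 el.le) (fun _ hg => mem_Nm_sup (h2 hg) (nT hg)) with r | r
    · exact absurd (pMod_of_cop fun g hg hc => tv_of_com (nT hg) fun y hy =>
        r.le (mem_sup_left (h3 g hg hc y hy))) (h.not_el pT el.le)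
    · exact le_of_sup_phi (e ▸ r.ge) h1
  have eT := eq_phi hs h.sp.le h.pgE el c.card
  have cT : E ≤ Ct T := (key (E ⊓ Ct T) inf_le_left (fun _ hg => mem_Nm_inf (h.nm hg)
    (mem_Nm_Ct (nT hg))) (fun r hr hc y hy => ⟨com_mem (h.nm hr) hy,
      com_mem_ct (PMod.mem pT hr hc) (nT (h.lE hy))⟩) eT).trans inf_le_right
  have ab : E ≤ Ct E := by
    by_contra n
    have l1 : ⁅E, E⁆ ≤ T := le_of_tv el.ab
    have nE : L ≤ Nm ⁅E, E⁆ := fun _ hg => mem_Nm_commutator (h.nm hg) (h.nm hg)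
    obtain ⟨T₀, -, s, t, n0⟩ := exists_top h.pg (l1.trans (el.le.trans h.sp.le)) bot_le
      (h.le.trans nE) (fun g _ => nm_bot g) fun r => n fun _ hg =>
        tv_bot.1 (tv_of_le (fun g _ => nm_bot g) r hg)
    have n1 := h.nm_of_pMod_ct el.le nT pT (s.le.trans l1) n0
    have nE0 : E ≤ Nm T₀ := h.sp.le.trans n0
    have l2 := c.s3.le
    have l3 := c.s2.le.trans l2
    have tT : ∀ X ≤ E, T ≤ Tv X T₀ := fun X hX _ hg =>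
      mem_Tv_of_Ct (Ct_anti hX (le_Ct_comm.1 cT hg)) (nE0 (el.le hg))
    have k1 : ∀ X ≤ E, ⁅⁅X, E⁆, N⁆ ≤ T₀ := fun X hX => by
      rw [commutator_comm]
      exact (commutator_mono le_rfl (commutator_mono hX le_rfl)).trans (le_of_tv t)
    obtain ⟨x, hx, hx'⟩ := h.sp.ex
    obtain ⟨y, hy, hy'⟩ := c.s3.ex
    obtain ⟨w, hw, hw'⟩ := c.s2.ex
    have a1 : A₁ ≤ Tv A₁ T₀ := c.s1.cyc (l3.trans nE0) (tv_symm (l3.trans nE0) (tT A₁ l3))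
    have a2 : ⁅E, N⁆ ≤ Tv A₁ T₀ := tv3 nE0 n0 (l3.trans nE0)
      ((commutator_mono (le_of_tv c.t1) le_rfl).trans (le_of_tv (tT E le_rfl))) (k1 A₁ l3)
    have a3 : A₂ ≤ Tv A₂ T₀ := c.s2.cyc (l2.trans nE0) ((c.eq2 hx hx' hy hy').le.trans (sup_le a1
      (zpowers_le.2 (a2 (com_symm (commutator_mem_commutator hy hx))))))
    have a4 : ⁅N, A₂⁆ ≤ Tv E T₀ := tv3 n0 (l2.trans nE0) nE0 (k1 A₂ l2)
      ((commutator_mono (by rw [commutator_comm]; exact le_of_tv c.t3) le_rfl).trans (le_of_tv a3))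
    have a5 : A₁ ≤ E ⊓ Tv E T₀ := le_inf l3 ((c.eq1 hx hx' hw hw').le.trans (sup_le (tT E le_rfl)
      (zpowers_le.2 (a4 (commutator_mem_commutator hx hw)))))
    rcases ir _ (c.s1.le.trans a5) inf_le_left (fun _ hg => mem_Nm_inf (h.nm hg)
      (mem_Nm_Tv (h.nm hg) (n1 hg))) with r | r
    · exact c.s1.not_le (a5.trans r.le)
    · exact s.not_le (le_of_tv (r.ge.trans inf_le_right))
  have e1 := key (OZ p E) (OZ_le p E) (fun _ hg => nm_OZ (h.nm hg)) (fun r hr hc y hy =>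
    ⟨com_mem (h.nm hr) hy, ab (com_mem (h.nm hr) hy), by
      rw [com_pow ab (h.nm hr) hy, com_ct (PMod.mem pT hr hc) (el.pw y hy)]⟩) eT
  have := hs.el h.sp.le (el_bot ab fun y hy => (e1 hy).2.2)
  rw [c.card] at this
  exact card_le_one_iff_eq_bot T |>.1 (Nat.le_of_mul_le_mul_left (by simpa using this)
    (pow_pos hp.out.pos 3))

theorem neg_ne [hp : Fact p.Prime] (h2 : p ≠ 2) : ((-1 : ℤ) : ZMod p) ≠ 1 := fun r =>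
  two_ne h2 (by push_cast at r ⊢; linear_combination -r)

theorem jobA0 : JobA0.{u} := by
  intro SC _ Ω _ _ p hp N G 𝓔 L f hx cr ⟨e, el⟩ pp
  rw [Tv_bot] at e
  have nG : ∀ E ∈ 𝓔, G ≤ Nm N := fun E hE => (hx E hE).nm
  have key : ∀ E ∈ 𝓔, ∃ B, ∃ z ∈ G, L E ≤ Nm B ∧ Sp p (N ⊓ Ct N) B ∧ B = (N ⊓ Ct N) ⊓ Ct (zpowers z) ∧
      z ∈ Tv (N ⊓ Ct N) ⁅N, N⁆ ∧ (∀ y ∈ ⁅N, N⁆, W z y ⊥ (-1)) ∧ ⁅N, N⁆ ≤ N ⊓ Ct N := fun E hE => by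
    have h := f.loc E hE
    have lM : N ⊓ Ct N ≤ E := fun _ hg => h.cent hg.1 (Ct_anti h.sp.le hg.2)
    have sM : Sp p E (N ⊓ Ct N) := ⟨lM, h.pgE, Nat.eq_of_mul_eq_mul_left hp.out.pos
      (by rw [← h.sp.card, e]; ring)⟩
    have pT : PMod p (L E) (Ct ⊥) := PMod.of_le (by simp)
    obtain ⟨A₀, P, B₀, q⟩ := alpha_loc SC f.odd f.sr h (fun g _ => nm_bot g) pT (el E hE) sM
      (le_tv_bot (le_Ct_comm.1 inf_le_right))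
    obtain ⟨z, hz, -, c, t, w0, w1, -⟩ := alpha_tor (k := -1) (l := -1) q h (hx E hE) pT (el E hE)
      (by simp)
    have eP := q.eq_com h
    rw [bot_sup_eq] at eP
    subst eP
    refine ⟨B₀, z, hz.2, q.nB₀, q.sB, le_antisymm (le_inf q.sB.le (le_Ct_comm.1 (zpowers_le.2 c)))
      fun y hy => W.fix (w0 y hy.1) (neg_ne f.odd) ?_ (q.sB.pow hy.1), t, w1, q.lP⟩
    exact W.of_ct (le_Ct_comm.1 (zpowers_le.2 hy.2) (mem_zpowers z)) (mem_zpowers y) _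
  obtain ⟨E₁, h₁, -⟩ := f.two
  obtain ⟨B, z, hz, n, s, eB, t, w, l⟩ := key E₁ h₁
  have h := f.loc E₁ h₁
  have nM : G ≤ Nm (N ⊓ Ct N) := fun _ hg => mem_Nm_inf (nG E₁ h₁ hg) (mem_Nm_Ct (nG E₁ h₁ hg))
  have b0 : B = ⊥ := le_bot_iff.1 (cr.max B (s.le.trans inf_le_left) fun E hE => by
    obtain ⟨B', z', hz', n', -, eB', t', w', -⟩ := key E hE
    have g1 : z⁻¹ * z' ∈ Ct ⁅N, N⁆ := conj_eq_iff_Ct.1 fun y hy => by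
      have a := w y hy
      have b := w' y hy
      rw [W, mem_bot, inv_mul_eq_one] at a b
      rw [← a, ← b]
    obtain ⟨u, v, hu, hv, ⟨m, hm⟩, hc, e1⟩ := exists_parts p (z⁻¹ * z')
    have g0 := mul_mem (inv_mem hz) hz'
    have v1 : v ∈ Ct (N ⊓ Ct N) := ct_of_tv (h.pg.to_le (l.trans inf_le_left)) hc
      (mem_of_mem_zpowers hv (mul_mem (inv_mem t) t')) (mem_of_mem_zpowers hv g1)
    obtain ⟨a, ha, e2⟩ := pp.exists_cj_le (Y := zpowers u) (fun g => ⟨m, Subtype.ext (by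
      obtain ⟨_, i, rfl⟩ := g
      show (u ^ i) ^ p ^ m = 1
      rw [← zpow_natCast, ← zpow_mul, mul_comm, zpow_mul, zpow_natCast, hm, one_zpow])⟩)
      (zpowers_le.2 (mem_of_mem_zpowers hu g0))
    have u1 : u ∈ Ct (N ⊓ Ct N) := by
      have := sup_le (le_Ct_comm.1 inf_le_right) (Ct_anti inf_le_left)
        (e2 (conj_mem_cj a (mem_zpowers u)))
      simpa [mul_assoc] using conj_mem_Ct_of_Nm (inv_mem (nM ha)) this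
    have g2 := conj_eq_iff_Ct.2 (e1 ▸ mul_mem u1 v1 : z⁻¹ * z' ∈ Ct (N ⊓ Ct N))
    have : B = B' := by
      rw [eB, eB']
      ext y
      refine and_congr_right fun hy => ?_
      show y ∈ Ct (zpowers z) ↔ y ∈ Ct (zpowers z')
      rw [ct_zp, ct_zp, ← commutatorElement_inv, inv_eq_one,
        ← commutatorElement_inv z', inv_eq_one, commutatorElement_def, commutatorElement_def,
        g2 y hy]
    exact this ▸ n')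
  obtain ⟨x, hx1, hx2⟩ := h.sp.ex
  refine ⟨by rw [e, s.card, b0, card_bot]; ring, fun r => hx2 (h.cent hx1 (Ct_anti h.sp.le (r hx1)))⟩

theorem El.sup' (h1 : El p A B) (h2 : El p X ⊥) (c : X ≤ Ct A) : El p (A ⊔ X) B := by
  have nA : A ≤ Nm B := fun _ h => (h1.ab h).1
  have nX : X ≤ Nm B := fun _ h => Ct_le_Nm _ (Ct_anti h1.le (c h))
  refine ⟨h1.le.trans le_sup_left, sup_le (fun _ h => mem_Tv_sup (h1.ab h)
    (mem_Tv_of_Ct (le_Ct_comm.1 c h) (nA h)) nA nX) fun _ h =>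
      mem_Tv_of_Ct (mem_Ct_sup.2 ⟨c h, h2.ct h⟩) (nX h), fun y hy => ?_⟩
  obtain ⟨a, ha, b, hb, rfl⟩ := (mem_sup_of_le_Nm' (c.trans (Ct_le_Nm A))).1 hy
  rw [Commute.mul_pow (show Commute a b from mem_Ct'.1 (c hb) a ha), mem_bot.1 (h2.pw b hb), mul_one]
  exact h1.pw a ha

theorem jobLA : JobLA.{u} := by
  intro SC _ Ω _ _ p hp N G E₁ L₁ E₂ L₂ T h2 hs l1 l2 x1 x2 ne g1 g2 n1 n2 p1 p2 e1 e2
  obtain ⟨s1, s2, -, eN⟩ := two_max l1.sp l2.sp ne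
  have tM : N ≤ Tv (E₁ ⊓ E₂) T := eN.le.trans (sup_le (e1.ab.trans (Tv_anti inf_le_left T))
    (e2.ab.trans (Tv_anti inf_le_right T)))
  obtain ⟨A₁, P, B₁, q1⟩ := alpha_loc SC h2 hs l1 n1 p1 e1 s1 tM
  obtain ⟨A₂, P', B₂, q2⟩ := alpha_loc SC h2 hs l2 n2 p2 e2 s2 tM
  obtain rfl : P = P' := (q1.eq_com l1).trans (q2.eq_com l2).symm
  obtain ⟨z₁, hz₁, -, c₁, t₁, w₁, u₁, v₁, y₁, -⟩ := alpha_tor (k := -1) (l := -1) q1 l1 x1 p1 e1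
    (by simp)
  obtain ⟨z₂, hz₂, -, c₂, t₂, -, u₂, v₂, y₂, -⟩ := alpha_tor (k := -1) (l := -1) q2 l2 x2 p2 e2
    (by simp)
  have GM : G ≤ Nm (E₁ ⊓ E₂) := fun _ hg => mem_Nm_inf (g1 hg) (g2 hg)
  obtain ⟨a, ha, ha'⟩ := s2.ex
  obtain ⟨b, hb, hb'⟩ := s1.ex
  have wa : W (z₁ * z₂) a (E₁ ⊓ E₂) (-1 * -1 * -1) :=
    W.mul (W.inf (y₁ a (l2.sp.le ha)) (g2 hz₁.2) ha) (v₂ a ha) (GM hz₁.2) (s2.nm ha)
  have wb : W (z₁ * z₂) b (E₁ ⊓ E₂) (-1 * (-1 * -1)) :=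
    W.mul (v₁ b hb) (inf_comm E₁ E₂ ▸ W.inf (y₂ b (l1.sp.le hb)) (g1 hz₂.2) hb) (GM hz₁.2) (s1.nm hb)
  obtain ⟨n, hc, hw⟩ := exists_cop (p := p) (z₁ * z₂)
  have hG := mul_mem hz₁.2 hz₂.2
  replace wa := hw a _ _ wa (GM hG) (s2.nm ha) (s2.pow ha)
  replace wb := hw b _ _ wb (GM hG) (s1.nm hb) (s1.pow hb)
  have tP : z₁ * z₂ ∈ Tv P T := W.tv (mul_mem (n1 hz₁.1) (n2 hz₂.1)) fun y hy => by
    simpa using W.mul (u₁ y hy) (u₂ y hy) (n1 hz₁.1) (q1.s1.nm hy)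
  have cM := ct_of_tv (l1.pgE.to_le e1.le) hc
    (tv_trans q1.s1.pg hc (pow_mem (mul_mem t₁ t₂) _) (pow_mem tP _))
    (pow_mem (mul_mem (Ct_anti q1.lB c₁) (Ct_anti q2.lB c₂)) _)
  replace hG := pow_mem hG (p ^ n)
  generalize (z₁ * z₂) ^ p ^ n = ζ at *
  have a1 := com_mem_ct cM (s2.nm ha)
  have b1 := com_mem_ct cM (s1.nm hb)
  have a2 := com_mem (g2 hG) ha
  have b2 := com_mem (g1 hG) hb
  have a3 : ⁅ζ, a⁆ ∉ E₁ ⊓ E₂ := fun r =>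
    ha' (W.mem wa (by simpa using neg_ne h2) (s2.nm ha) (s2.pow ha) le_rfl r)
  have b3 : ⁅ζ, b⁆ ∉ E₁ ⊓ E₂ := fun r =>
    hb' (W.mem wb (by simpa using neg_ne h2) (s1.nm hb) (s1.pow hb) le_rfl r)
  generalize ⁅ζ, a⁆ = c at *
  generalize ⁅ζ, b⁆ = d at *
  have m1 := q1.lP (com_of_tv (q1.t1 (l2.sp.le a2)) b2)
  have m2 := q1.ne c (l2.sp.le a2) (fun r => a3 ⟨r, a2⟩) d b2 b3
  have m3 := com_mem (le_Nm _ a1) b1
  generalize ⁅c, d⁆ = m at *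
  have ab : E₁ ⊓ Ct (E₁ ⊓ E₂) ≤ Ct (E₁ ⊓ Ct (E₁ ⊓ E₂)) :=
    (s1.inf inf_le_left fun r => b3 (r ⟨b2, b1⟩)).cyc' (inf_le_right.trans (Ct_anti inf_le_right))
  have nD : z₁ ∈ Nm (E₁ ⊓ Ct (E₁ ⊓ E₂)) := mem_Nm_inf (g1 hz₁.2) (mem_Nm_Ct (GM hz₁.2))
  have oz : ∀ y ∈ E₁ ⊓ Ct (E₁ ⊓ E₂), ⁅z₁, y⁆ ∈ OZ p (E₁ ⊓ Ct (E₁ ⊓ E₂)) := fun y hy =>
    ⟨com_mem nD hy, ab (com_mem nD hy), by
      rw [com_pow ab nD hy, com_ct (Ct_anti q1.lB c₁) (e1.pw y hy.1)]⟩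
  have k1 : ⁅z₁, m⁆ ∉ B₁ := fun r =>
    m2 (W.mem (w₁ m m1) (neg_ne h2) (q1.sB.nm m1) (q1.sB.pow m1) le_rfl r)
  have k2 : ⁅z₁, d⁆ ∉ E₁ ⊓ E₂ := fun r =>
    b3 (W.mem (v₁ d b2) (neg_ne h2) (s1.nm b2) (s1.pow b2) le_rfl r)
  have lB := q1.sB.le.trans s1.le
  have cB : OZ p (E₁ ⊓ Ct (E₁ ⊓ E₂)) ≤ Ct B₁ :=
    (OZ_le p _).trans (inf_le_right.trans (Ct_anti q1.sB.le))
  have el := (el_phi (l1.pgE.to_le lB)).sup' (el_OZ p _) cB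
  have f1 := q1.sB.le_of le_sup_left (com_mem (GM hz₁.2) m1) k1 (mem_sup_right (oz m ⟨m1.1, m3⟩))
  have e3 : B₁ ⊔ OZ p (E₁ ⊓ Ct (E₁ ⊓ E₂)) = E₁ := le_antisymm
    (sup_le lB ((OZ_le p _).trans inf_le_left))
    (s1.le_of f1 (com_mem (g1 hz₁.2) b2) k2 (mem_sup_right (oz d ⟨b2, b1⟩)))
  rw [e3] at el
  have e4 := hs _ _ l1.sp.le el
  rw [Sp.two s1 q1.sB, pow_succ p 2, mul_assoc] at e4
  have abM := q1.sB.cyc' (f1.trans (sup_le (ab_of_phi (l1.pgE.to_le lB)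
    (Nat.le_of_mul_le_mul_left e4 (pow_pos hp.out.pos 2))) cB))
  exact le_Ct_comm.1 (eN.le.trans (sup_le (s1.le_of abM b2 b3 b1) (s2.le_of abM a2 a3 a1)))

end H87.F3
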