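/- Sectional rank three: Lemma K, the reduced theorem, and the local data of a fusion system. -/
import Cfsg.Agent.H87.F3B

set_option autoImplicit false
set_option linter.unusedSectionVars false

namespace H87.F3
open Cfsg H92 H93 Subgroup H92.Es H92.P5
open scoped commutatorElement

universe u

structure Jobs : Prop where
  sc : JobSC.{u}
  k3 : JobK3.{u}
  km : JobKM.{u}
  r1 : JobR1.{u}
  r2b : JobR2b.{u}
  q : JobQ.{u}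
  ca1 : JobCA1.{u}
  ca2 : JobCA2.{u}
  f1 : JobF1.{u}
  sp4 : JobSp4.{u}

theorem Jobs.red (J : Jobs.{u}) : Red.{u} := by
  intro Ω _ _ p _ N 𝓔 L f cr
  by_cases h : ∃ E₂ ∈ 𝓔, ∀ E ∈ 𝓔, E ≠ E₂ → L E ≤ Ct (OZ p N)
  · obtain ⟨E₂, h₂, h⟩ := h
    obtain ⟨E₁, h₁, c⟩ := jobR2 J.sc Ω p N 𝓔 L f cr E₂ h₂ h
    obtain ⟨A₂, A₁, b⟩ := jobR2a Ω p N _ _ _ _ c (J.r2b J.sc Ω p N _ _ _ _ c)
    exact Or.inr ⟨E₁, h₁, E₂, h₂, A₂, A₁, b⟩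
  · push Not at h
    obtain ⟨E, hE, -⟩ := f.two
    obtain ⟨E₁, h₁, -, n₁⟩ := h E hE
    obtain ⟨E₂, h₂, ne, n₂⟩ := h E₁ h₁
    exact Or.inl (J.r1 Ω p N 𝓔 L f cr E₁ h₁ E₂ h₂ ne.symm n₁ n₂)

variable {Ω : Type u} [Group Ω] {E E₁ E₂ G L L₁ L₂ N S T U : Subgroup Ω} {g : Ω} {p : ℕ}
  {𝓔 : Set (Subgroup Ω)} {𝓛 : Subgroup Ω → Subgroup Ω} {F : FusionSystem S}
  [hp : Fact p.Prime] [Finite Ω]

omit hp in
theorem nm_sSup {s : Set (Subgroup Ω)} (h : ∀ U ∈ s, g ∈ Nm U) : g ∈ Nm (sSup s) :=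
  mem_Nm_of_le (cj_le_iff_le_cj.2 (sSup_le fun U hU =>
    (cj_eq_of_Nm (inv_mem (h U hU))).ge.trans (cj_mono _ (le_sSup hU))))

theorem Jobs.lemK (J : Jobs.{u}) (h2 : p ≠ 2) (hs : SR p 3 N) (l1 : Loc p E₁ N L₁)
    (l2 : Loc p E₂ N L₂) (x1 : Ext E₁ N L₁ G) (x2 : Ext E₂ N L₂ G) (ne : E₁ ≠ E₂) (hU : U ≤ N)
    (n1 : L₁ ≤ Nm U) (n2 : L₂ ≤ Nm U) : PMod p L₁ (Ct U) := by
  obtain ⟨K, k0, k1, k2, km⟩ : ∃ K ≤ N, L₁ ≤ Nm K ∧ L₂ ≤ Nm K ∧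
      ∀ U ≤ N, L₁ ≤ Nm U → L₂ ≤ Nm U → U ≤ K :=
    ⟨sSup {U | U ≤ N ∧ L₁ ≤ Nm U ∧ L₂ ≤ Nm U}, sSup_le fun _ h => h.1,
      fun _ hg => nm_sSup fun _ h => h.2.1 hg, fun _ hg => nm_sSup fun _ h => h.2.2 hg,
      fun U a b c => le_sSup ⟨a, b, c⟩⟩
  refine PMod.mono ?_ le_rfl (Ct_anti (km U hU n1 n2))
  have pK := l1.pg.to_le k0
  by_contra n
  obtain ⟨A, B, c1, c2, c3, c4, c5, ir, n'⟩ := exists_chief (H := L₁ ⊔ L₂) pK (H9.phi_le K)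
    (sup_le k1 k2) (fun _ hg => nm_phi (sup_le k1 k2 hg)) fun r => n (r.trans (pMod_phi pK))
  obtain ⟨a1, a2⟩ := sup_le_iff.1 c4
  obtain ⟨b1, b2⟩ := sup_le_iff.1 c5
  by_cases m : PMod p L₂ (Tv A B)
  swap
  · exact J.k3 Ω p N E₁ L₁ E₂ L₂ K A B h2 hs l1 l2 ne k0 k1 k2 km c1 c2 c3 a1 a2 b1 b2 ir n' m
  have K1 := l1.le_of_nm k0 k1
  have K2 := l2.le_of_nm k0 k2
  have lt := l1.lt_of_not c2 (c3.trans K1) a1 b1 n'
  obtain ⟨C, d1, d2, d3, -⟩ := exists_top l1.pgE (c3.trans K1) c2 (l1.lE.trans a1) (l1.lE.trans b1)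
    fun r => absurd ((card_le_of_le r).trans (Nat.le_mul_of_pos_left _ hp.out.pos)) (not_le.2 lt)
  have nU : L₁ ≤ Nm (B ⊔ ⁅E₁, A⁆) := fun _ hg =>
    mem_Nm_sup (b1 hg) (mem_Nm_commutator (l1.nm hg) (a1 hg))
  have lU : B ⊔ ⁅E₁, A⁆ ≤ C := sup_le d1 (le_of_tv d3)
  have t : E₁ ≤ Tv A B := tv_of_le (l1.lE.trans b1) (le_sup_right.trans ((ir _ le_sup_left
    (lU.trans d2.le) (sup_le nU (l2.nm_of_pMod (c3.trans K2) a2 b2 m le_sup_left (lU.trans d2.le)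
      (l1.le.trans nU)))).resolve_right fun r => d2.not_le (r.ge.trans lU)).le)
  have eM : E₁ ⊓ E₂ = E₂ ⊓ Tv A B := le_antisymm (le_inf inf_le_right (inf_le_left.trans t))
    fun x hx => ⟨by_contra fun r => n' (l1.pl (fun _ hg => mem_Nm_Tv (a1 hg) (b1 hg))
      (l1.ct_le c2 (c3.trans K1)) (l2.sp.le hx.1) r hx.2).2, hx.1⟩
  obtain ⟨i, hi⟩ := exists_idx pK c3
  obtain ⟨j, hj⟩ := exists_idx (pK.to_le c3) c2
  obtain ⟨k, hk⟩ := exists_idx (pK.to_le (c2.trans c3)) c1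
  have e1 : i + j + k ≤ 3 := idx_le (p := p) (B := H9.phi K) (by
    have := hs K _ k0 (el_phi pK)
    rwa [hi, hj, hk, ← mul_assoc, ← mul_assoc, ← pow_add, ← pow_add] at this)
  have e2 : 1 < j := idx_lt (p := p) (B := B) (by rwa [pow_one, ← hj])
  have le1 : ∀ {m : ℕ} {X : Subgroup Ω}, m ≤ 1 → p ^ m * Nat.card X ≤ p * Nat.card X := fun h =>
    Nat.mul_le_mul_right _ ((Nat.pow_le_pow_right hp.out.pos h).trans (pow_one p).le)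
  have p2 : PMod p L₂ (Ct K) := (PMod.tv2 (pK.to_le c3)
    (PMod.of_le (l2.small c3 K2 k2 a2 (hi ▸ le1 (by omega)))) (PMod.tv2 (pK.to_le (c2.trans c3)) m
      (PMod.of_le (l2.small c1 ((c2.trans c3).trans K2) b2 (fun _ hg => nm_phi (k2 hg))
        (hk ▸ le1 (by omega)))))).trans (pMod_phi pK)
  exact J.km J.sc jobTor Ω p N G E₁ L₁ E₂ L₂ h2 hs l1 l2 x1 x2 ne
    (fun _ hg => eM ▸ mem_Nm_inf (l2.nm hg) (mem_Nm_Tv (a2 hg) (b2 hg)))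
    fun U a b c => p2.mono le_rfl (Ct_anti (km U a b c))

omit hp in
theorem exists_cr (N : Subgroup Ω) (𝓔 : Set (Subgroup Ω)) (𝓛 : Subgroup Ω → Subgroup Ω) :
    ∃ T, Cr N 𝓔 𝓛 T :=
  ⟨sSup {U | U ≤ N ∧ ∀ E ∈ 𝓔, 𝓛 E ≤ Nm U}, sSup_le fun _ h => h.1,
    fun E hE _ hg => nm_sSup fun _ h => h.2 E hE hg, fun _ a b => le_sSup ⟨a, b⟩⟩

omit hp in
theorem Cr.nm_of (c : Cr N 𝓔 𝓛 T) (hg : g ∈ Nm N) (h : ∀ E ∈ 𝓔, ∃ E' ∈ 𝓔, cj g (𝓛 E') = 𝓛 E) :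
    g ∈ Nm T :=
  mem_Nm_of_le (c.max _ (cj_eq_of_Nm hg ▸ cj_mono g c.le) fun E hE => by
    obtain ⟨E', hE', e⟩ := h E hE
    rw [← e, ← cj_Nm]; exact cj_mono g (c.nm E' hE'))

theorem Fam.pm (f : Fam p N 𝓔 𝓛) (c : Cr N 𝓔 𝓛 T) (hE : E ∈ 𝓔) : PMod p (𝓛 E) (Ct T) := by
  obtain ⟨E₁, h₁, E₂, h₂, ne⟩ := f.two
  by_cases e : E = E₁
  · exact f.lk E hE E₂ h₂ (e ▸ ne) T c.le (c.nm E hE) (c.nm E₂ h₂)
  · exact f.lk E hE E₁ h₁ e T c.le (c.nm E hE) (c.nm E₁ h₁)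

theorem Jobs.fam (J : Jobs.{u}) (h2 : p ≠ 2) (hs : SR p 3 N) (hl : ∀ E ∈ 𝓔, Loc p E N (𝓛 E))
    (hx : ∀ E ∈ 𝓔, Ext E N (𝓛 E) G) (two : ∃ E₁ ∈ 𝓔, ∃ E₂ ∈ 𝓔, E₁ ≠ E₂) : Fam p N 𝓔 𝓛 :=
  ⟨h2, hs, hl, two, fun E₁ h₁ E₂ h₂ ne _ =>
    J.lemK h2 hs (hl E₁ h₁) (hl E₂ h₂) (hx E₁ h₁) (hx E₂ h₂) ne⟩

/-! ### The local data of a fusion system -/

/-- the automorphisms generated by the conjugates of the normalizer -/
def LE (F : FusionSystem S) (E : Subgroup Ω) : Subgroup Ω :=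
  (⨆ a : Aut F E, cj (a : Ω) (S ⊓ Nm E)) ⊔ Ct E

omit hp [Finite Ω] in
theorem cj_le_LE (hg : g ∈ Aut F E) : cj g (S ⊓ Nm E) ≤ LE F E :=
  (le_iSup (fun a : Aut F E => cj (a : Ω) (S ⊓ Nm E)) ⟨g, hg⟩).trans le_sup_left

omit hp [Finite Ω] in
theorem LE_le_of (h1 : ∀ a ∈ Aut F E, cj a (S ⊓ Nm E) ≤ U) (h2 : Ct E ≤ U) : LE F E ≤ U :=
  sup_le (iSup_le fun a => h1 a a.2) h2

omit hp [Finite Ω] in
theorem LE_le (F : FusionSystem S) (E : Subgroup Ω) : LE F E ≤ Aut F E :=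
  LE_le_of (fun _ ha => cj_le_of_mem ha (Nm_le_Aut F E)) (Ct_le_Aut F E)

omit hp [Finite Ω] in
theorem Nm_le_LE (F : FusionSystem S) (E : Subgroup Ω) : S ⊓ Nm E ≤ LE F E :=
  (cj_one _).ge.trans (cj_le_LE (one_mem _))

omit hp in
theorem nm_LE (hg : g ∈ Aut F E) : g ∈ Nm (LE F E) :=
  mem_Nm_of_le (cj_le_iff_le_cj.2 (LE_le_of (fun a ha => cj_le_iff_le_cj.1 (by
    rw [← cj_mul]; exact cj_le_LE (mul_mem hg ha))) (cj_le_iff_le_cj.1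
      ((cj_eq_of_Nm (Aut_le_Nm_Ct F E hg)).le.trans le_sup_right))))

omit hp [Finite Ω] in
theorem cj_LE_le (h : M F E g) (e : cj g (S ⊓ Nm E) = S ⊓ Nm (cj g E)) :
    cj g (LE F E) ≤ LE F (cj g E) :=
  cj_le_iff_le_cj.2 (LE_le_of (fun a ha => cj_le_iff_le_cj.1 (by
    have := cj_le_LE (h.conj_mem_Aut ha)
    rwa [← e, ← cj_mul, inv_mul_cancel_right, cj_mul] at this))
    (cj_le_iff_le_cj.1 ((cj_Ct g E).le.trans le_sup_right)))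

omit hp [Finite Ω] in
theorem cj_LE (h : M F E g) (e : cj g (S ⊓ Nm E) = S ⊓ Nm (cj g E)) :
    cj g (LE F E) = LE F (cj g E) :=
  le_antisymm (cj_LE_le h e) (le_cj_iff_cj_le.2 (by
    have := cj_LE_le h.inv (by rw [← e, cj_inv_cj, cj_inv_cj])
    rwa [cj_inv_cj] at this))

variable (hF : SatA p F)
include hF

theorem ext_fn (hE : F.IsFullyNormalized E) : Ext E (S ⊓ Nm E) (LE F E) (Aut F (S ⊓ Nm E)) where
  nm := Aut_le_Nm F _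
  ext := fun g hg hn => by
    rw [show LE F E ⊓ Ct E = Ct E from inf_eq_right.2 le_sup_right] at hn
    obtain ⟨h, hh, e⟩ := hF.ext_aut (LE_le F E hg) (hF.fc_of_fn hE) le_rfl
      ((cj_mono g le_sup_left).trans (cj_eq_of_Nm hn).le)
    have h1 := hh.mono le_sup_right
    have h2 := h1.cj_Nm_le
    rw [cj_eq_of_Nm (Nm_of_div_Ct (Aut_le_Nm F E (LE_le F E hg)) e)] at h2
    exact ⟨h, ⟨mem_of_div hg e le_sup_right, h1.mem_Aut' h2⟩, e⟩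
  gl := fun _ hg => nm_LE (mem_Aut_of_le hg.1 inf_le_left (le_inf hE.1 (le_Nm E)) hg.2)

theorem loc_ess (J : Jobs.{u}) (hs : SR p 3 S) (hE : F.IsEssential p E) :
    Loc p E (S ⊓ Nm E) (LE F E) := by
  have e : LE F E ⊓ Ct E = Ct E := inf_eq_right.2 le_sup_right
  have pp := (hF.pp_of_fn hE.2.1).mono_right (sup_le (Nm_le_LE F E) le_sup_right) (LE_le F E)
  refine ⟨J.f1 Ω p S F E hF hs hE, Nm_le_LE F E, (LE_le F E).trans (Aut_le_Nm F E), e.symm ▸ pp,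
    fun K h1 h2 => ?_, fun r => ?_⟩
  · rw [e] at h2
    refine LE_le_of (fun a ha => ?_) h2
    obtain ⟨b, hb, h3⟩ := pp.exists_cj_le (isPGroup_cj a (hF.pgl inf_le_left)) (cj_le_LE ha)
    refine (cj_le_iff_le_cj.1 h3).trans ?_
    rw [cj_sup, cj_eq_of_Nm (inv_mem (Aut_le_Nm_Ct F E (LE_le F E hb)))]
    exact sup_le (h1 _ (inv_mem hb)) h2
  · obtain ⟨x, hx, hx'⟩ := exists_Nm hF hE
    exact hx' (mem_of_normal hF hE r (fun _ hg => nm_LE hg) hx (Nm_le_LE F E hx))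

theorem ess_of_loc (hE : F.IsFullyNormalized E) (h : Loc p E (S ⊓ Nm E) (LE F E)) :
    F.IsEssential p E := by
  by_contra n
  have k := aut_le_XE hF (lt_of_le_not_ge hE.1 fun r => h.sp.not_le (inf_le_left.trans r)) hE n
  refine h.nn ((pMod_sup h.pg (inf_le_right.trans (Nm_le_Nm_Ct E))).mono
    (LE_le_of (fun a ha => ?_) le_sup_right) le_rfl)
  obtain ⟨t, ht, e⟩ := ext_XE hF h.sp (k ha)
  refine cj_le_iff.2 fun x hx => ?_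
  have h1 := conj_mem_of_Nm (Aut_le_Nm F _ ht) hx
  have h3 := conj_mem_Ct_of_Nm (Nm_of_div_Ct (Aut_le_Nm F E ha) e) (com_mem_ct (inv_mem e) hx.2)
  convert mul_mem (mem_sup_right h3) (mem_sup_left h1) using 1
  simp only [commutatorElement_def]; group

theorem ess_cj (J : Jobs.{u}) (hs : SR p 3 S) (hE : F.IsEssential p E) (h : M F (S ⊓ Nm E) g) :
    F.IsEssential p (cj g E) := by
  have e := h.cj_Nm_eq hE.2.1
  refine ess_of_loc hF (h.fn_cj hE.2.1) ?_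
  rw [← e, ← cj_LE (h.mono (le_inf hE.1.1 (le_Nm E))) e]
  exact (loc_ess hF J hs hE).cj g

theorem aut_le_nm (hE : F.IsFullyNormalized E) (hU : U ≤ E) (h1 : LE F E ≤ Nm U)
    (h2 : Aut F (S ⊓ Nm E) ≤ Nm U) : Aut F E ≤ Nm U := fun a ha => by
  obtain ⟨n, hn, h, hh, e⟩ := SatA.frattini_ext hF hE (LE_le F E) le_sup_right
    (fun _ hg => nm_LE hg) ha
  have k1 := hh.mono ((le_inf inf_le_left (Nm_le_LE F E)).trans le_sup_right)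
  have k2 := k1.cj_Nm_le
  rw [cj_eq_of_Nm (Nm_of_div_Ct (Aut_le_Nm F E (mul_mem (LE_le F E hn) ha)) e)] at k2
  have := mem_of_div (h2 (k1.mem_Aut' k2)) (div_symm e) ((Ct_anti hU).trans (Ct_le_Nm U))
  exact (mul_mem_cancel_left (h1 hn)).1 this

end H87.F3
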