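/- Sectional rank three: the main theorems, from the steps. -/
import Cfsg.Agent.H87.F3F
import Cfsg.Agent.H3.SecRank
import Cfsg.Agent.H9.Cube

set_option autoImplicit false
set_option linter.unusedSectionVars false

namespace H87.F3
open Cfsg H92 H93 Subgroup H92.Es H92.P5
open scoped commutatorElement

universe u

theorem exists_d {p : ℕ} [hp : Fact p.Prime] (h5 : 5 ≤ p) : ∃ d l : ℤ, (d * l : ZMod p) = 1 ∧
    (d : ZMod p) ≠ 1 ∧ (d : ZMod p) ^ 2 ≠ 1 ∧ (d : ZMod p) ^ 3 ≠ 1 ∧ (d : ZMod p) ^ 5 ≠ 1 := by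
  have k : ∀ n : ℕ, ¬ p ∣ n → (n : ZMod p) ≠ 0 := fun n h => by simpa using cast_ne (p := p) h
  have q : ∀ {r : ℕ}, r.Prime → p ≠ r → ¬ p ∣ r := fun hr h e =>
    h ((Nat.prime_dvd_prime_iff_eq hp.out hr).1 e)
  have k1 := k 1 fun e => absurd (Nat.le_of_dvd one_pos e) (by omega)
  have k2 := k 2 (q Nat.prime_two (by omega))
  have k3 := k 3 (q Nat.prime_three (by omega))
  push_cast at k1 k2 k3
  by_cases h : p = 7 ∨ p = 31
  · have k11 := k 11 (q (by norm_num) (by omega))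
    have k13 := k 13 (q (by norm_num) (by omega))
    push_cast at k11 k13
    obtain ⟨l, hl⟩ := exists_inv (p := p) (k := 3) (by exact_mod_cast k3)
    refine ⟨3, l, hl, ?_, ?_, ?_, ?_⟩ <;> push_cast <;> intro e
    · exact k2 (by linear_combination e)
    · exact pow_ne_zero 3 k2 (by linear_combination e)
    · exact mul_ne_zero k2 k13 (by linear_combination e)
    · exact mul_ne_zero k2 (pow_ne_zero 2 k11) (by linear_combination e)
  · have k7 := k 7 (q (by norm_num) (by omega))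
    have k31 := k 31 (q (by norm_num) (by omega))
    push_cast at k7 k31
    obtain ⟨l, hl⟩ := exists_inv (p := p) (k := 2) (by exact_mod_cast k2)
    refine ⟨2, l, hl, ?_, ?_, ?_, ?_⟩ <;> push_cast <;> intro e
    · exact k1 (by linear_combination e)
    · exact k3 (by linear_combination e)
    · exact k7 (by linear_combination e)
    · exact k31 (by linear_combination e)

section ambient
variable {Ω : Type u} [Group Ω] {A₁ A₂ E E₁ E₂ L S : Subgroup Ω} {p : ℕ} {F : FusionSystem S}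
  [hp : Fact p.Prime] [Finite Ω]

/-- the conclusion in case beta -/
def Out (p : ℕ) [Fact p.Prime] (S E₁ E₂ : Subgroup Ω) : Prop :=
  (∃ P : Sylow p (Matrix.symplecticGroup (Fin 2) (ZMod p)),
    Nonempty (S ≃* (P : Subgroup (Matrix.symplecticGroup (Fin 2) (ZMod p))))) ∧
  IsExtraspecial p E₁ ∧ Nat.card E₁ = p ^ 3 ∧ (∀ x ∈ E₁, x ^ p = 1) ∧
    IsElementaryAbelian p E₂ ∧ Nat.card E₂ = p ^ 3

omit hp [Finite Ω] in
theorem comm_iff : IsMulCommutative E ↔ E ≤ Ct E :=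
  ⟨fun h _ hx => mem_Ct'.2 fun _ hy => congrArg Subtype.val (h.1.1 ⟨_, hy⟩ ⟨_, hx⟩),
    fun h => ⟨⟨fun x y => Subtype.ext (mem_Ct'.1 (h y.2) x x.2)⟩⟩⟩

theorem Be.out (J : Jobs.{u}) (h2 : p ≠ 2) (b : Be p S E₁ E₂ L A₂ A₁ ⊥) (s1 : Sp p S E₁)
    (s2 : Sp p S E₂) : Out p S E₁ E₂ := by
  obtain ⟨x, hx, hx'⟩ := SetLike.not_le_iff_exists.1 fun r : E₁ ≤ E₂ =>
    b.na (Sp.eq_of_le s1 s2 r ▸ b.el.ab)
  have c2 : Nat.card E₂ = p ^ 3 := by simpa using b.cub.card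
  have c1 : Nat.card E₁ = p ^ 3 :=
    (Nat.eq_of_mul_eq_mul_left hp.out.pos (s1.card.symm.trans s2.card)).trans c2
  exact ⟨J.sp4 Ω p S E₂ A₂ A₁ x h2 s2 b.el b.cub (s1.le hx) hx' (b.pw x hx),
    H9.isExtraspecial_of_card_cube c1 fun r => b.na (le_tv_bot (comm_iff.1 r)), c1, b.pw,
    ⟨comm_iff.2 b.el.ct, b.el.pw⟩, c2⟩

variable (J : Jobs.{u}) (hF : SatA p F) (h2 : p ≠ 2) (hs : SR p 3 S)
include J hF h2 hs

omit h2 in
theorem loc_nm (hE : F.IsEssential p E) (n : S ≤ Nm E) :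
    Loc p E S (LE F E) ∧ Ext E S (LE F E) (Aut F S) := by
  have h1 := loc_ess hF J hs hE
  have h2 := ext_fn hF hE.2.1
  rw [inf_eq_left.2 n] at h1 h2
  exact ⟨h1, h2⟩

/-- all essential subgroups are normal -/
theorem all_normal (hO : F.core = ⊥) (h0 : S ≠ ⊥) (n3 : ¬ (Nat.card S = p ^ 3 ∧ ¬ S ≤ Ct S))
    (hn : ∀ E, F.IsEssential p E → S ≤ Nm E) : Beta p S {E | F.IsEssential p E} (LE F) ⊥ := by
  have bot : ∀ Q, (∀ P, P = S ∨ F.IsEssential p P → Q ≤ P ∧ Aut F P ≤ Nm Q) → Q = ⊥ :=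
    fun Q h => le_bot_iff.1 (hO ▸ le_core (normal_of_ess hF h))
  have hl := fun E hE => loc_nm J hF hs hE (hn E hE)
  have mv : ∀ g ∈ Aut F S, ∀ E, F.IsEssential p E → F.IsEssential p (cj g E) ∧
      cj g (LE F E) = LE F (cj g E) := fun g hg E hE => by
    have m := (M.of_Aut hg le_rfl).mono (inf_le_left : S ⊓ Nm E ≤ S)
    exact ⟨ess_cj hF J hs hE m, cj_LE ((M.of_Aut hg le_rfl).mono hE.1.1) (m.cj_Nm_eq hE.2.1)⟩
  have two : ∃ E₁ ∈ {E | F.IsEssential p E}, ∃ E₂ ∈ {E | F.IsEssential p E}, E₁ ≠ E₂ := by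
    by_contra! r
    obtain ⟨E, hE⟩ : ∃ E, F.IsEssential p E := by_contra fun q => h0 (le_bot_iff.1
      (hO ▸ le_core (isNormal_top_of_no_essential hF.pg hF.sat (not_exists.1 q))))
    have := bot E fun P hP => hP.elim (fun e => by
      rw [e]; exact ⟨hE.1.1, fun g hg => mem_Nm.2 (r _ (mv g hg E hE).1 _ hE)⟩) fun hP => r E hE P hP ▸ ⟨le_rfl, Aut_le_Nm F E⟩
    obtain ⟨x, hx, hx'⟩ := (hl E hE).1.sp.ex
    exact hx' ((hl E hE).1.cent hx (by simp [this]))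
  have f := J.fam h2 hs (fun E hE => (hl E hE).1) (fun E hE => (hl E hE).2) two
  obtain ⟨T, c⟩ := exists_cr S {E | F.IsEssential p E} (LE F)
  have nT : Aut F S ≤ Nm T := fun g hg => c.nm_of (Aut_le_Nm F S hg) fun E hE =>
    ⟨_, (mv _ (inv_mem hg) E hE).1, by rw [← (mv _ (inv_mem hg) E hE).2, cj_cj_inv]⟩
  obtain rfl : T = ⊥ := bot T fun P hP => hP.elim (fun e => by rw [e]; exact ⟨c.le, nT⟩) fun hP => by
    have l := (hl P hP).1.le_of_nm c.le (c.nm P hP)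
    exact ⟨l, aut_le_nm hF hP.2.1 l (c.nm P hP) (by rwa [inf_eq_left.2 (hn P hP)])⟩
  exact (J.red Ω p S _ _ f c).resolve_left fun a =>
    n3 (jobA0 J.sc jobTor Ω p S _ _ _ f (fun E hE => (hl E hE).2) c a hF.pp_top)

theorem all_out (hO : F.core = ⊥) (h0 : S ≠ ⊥) (n3 : ¬ (Nat.card S = p ^ 3 ∧ ¬ S ≤ Ct S))
    (hn : ∀ E, F.IsEssential p E → S ≤ Nm E) :
    ∃ E₁ E₂, F.IsEssential p E₁ ∧ E₂ ≤ S ∧ Out p S E₁ E₂ := by
  obtain ⟨E₁, h₁, E₂, h₂, A₂, A₁, b⟩ := all_normal J hF h2 hs hO h0 n3 hn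
  exact ⟨E₁, E₂, h₁, h₂.1.1, b.out J h2 (loc_nm J hF hs h₁ (hn _ h₁)).1.sp
    (loc_nm J hF hs h₂ (hn _ h₂)).1.sp⟩

/-- two invariant essential subgroups -/
theorem two_char (hO : F.core = ⊥) (n3 : ¬ (Nat.card S = p ^ 3 ∧ ¬ S ≤ Ct S)) (ne : E₁ ≠ E₂)
    (h₁ : F.IsEssential p E₁) (h₂ : F.IsEssential p E₂) (c₁ : Aut F S ≤ Nm E₁)
    (c₂ : Aut F S ≤ Nm E₂) : Out p S E₁ E₂ ∨ Out p S E₂ E₁ := by
  obtain ⟨l1, x1⟩ := loc_nm J hF hs h₁ ((le_Aut F le_rfl).trans c₁)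
  obtain ⟨l2, x2⟩ := loc_nm J hF hs h₂ ((le_Aut F le_rfl).trans c₂)
  have hl : ∀ E ∈ ({E₁, E₂} : Set (Subgroup Ω)), Loc p E S (LE F E) ∧ Ext E S (LE F E) (Aut F S) := by
    rintro E (rfl | rfl)
    exacts [⟨l1, x1⟩, ⟨l2, x2⟩]
  have m1 : E₁ ∈ ({E₁, E₂} : Set (Subgroup Ω)) := Or.inl rfl
  have m2 : E₂ ∈ ({E₁, E₂} : Set (Subgroup Ω)) := Or.inr rfl
  have f := J.fam h2 hs (fun E hE => (hl E hE).1) (fun E hE => (hl E hE).2) ⟨E₁, m1, E₂, m2, ne⟩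
  obtain ⟨T, c⟩ := exists_cr S {E₁, E₂} (LE F)
  rcases J.q J.red Ω p S _ _ T f c with ⟨-, a⟩ | ⟨E, hE, E', hE', A₂, A₁, b⟩
  · have z := le_inf (inf_le_left.trans l1.sp.le) (jobLA J.sc jobTor Ω p S _ E₁ _ E₂ _ T h2 hs l1 l2
      x1 x2 ne c₁ c₂ (c.nm _ m1) (c.nm _ m2) (f.pm c m1) (f.pm c m2) (a _ m1) (a _ m2))
    obtain ⟨s1, -, el, -⟩ := two_max l1.sp l2.sp ne
    have hn : ∀ E, F.IsEssential p E → S ≤ Nm E := fun E hE _ hg =>
      Nm_of_Tv (el.ab hg) (z.trans (cen_le hF hE)) hE.1.1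
    obtain ⟨E', -, E, hE, A₂, A₁, b⟩ := all_normal J hF h2 hs hO
      (fun r => l1.sp.not_le (r.le.trans bot_le)) n3 hn
    have s := (loc_nm J hF hs hE (hn _ hE)).1.sp
    obtain ⟨x, hx, hx'⟩ := s.ex
    have l : E₁ ⊓ E₂ ≤ A₁ := fun y hy => b.cub.mem hx hx' (cen_le hF hE (z hy))
      (com_symm (com_ct (z hy).2 hx))
    have e1 := card_le_of_le l
    have e2 := Sp.three s b.cub.s3 b.cub.s2
    rw [Sp.two l1.sp s1, pow_succ p 2, mul_assoc] at e2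
    rw [Nat.eq_of_mul_eq_mul_left (pow_pos hp.out.pos 2) e2] at e1
    exact absurd e1 (not_le.2 ((Nat.lt_mul_iff_one_lt_left Nat.card_pos).2 hp.out.one_lt))
  · obtain rfl := jobLB Ω p E' S _ A₂ A₁ T hs (hl E' hE').1 (c.nm _ hE') (f.pm c hE') b.el b.cub b.irr
    have o := b.out J h2 (hl E hE).1.sp (hl E' hE').1.sp
    have n : E ≠ E' := fun r => b.na (r ▸ b.el.ab)
    rcases hE with rfl | rfl <;> rcases hE' with rfl | rfl
    exacts [absurd rfl n, Or.inl o, Or.inr o, absurd rfl n]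

theorem not_normal' (h5 : 5 ≤ p) (hE : F.IsEssential p E) (n : ¬ S ≤ Nm E)
    (fn : F.IsFullyNormalized (S ⊓ Nm E)) : El p E ⊥ ∧ Nat.card E = p ^ 2 := by
  obtain ⟨N, hN⟩ : ∃ N, N = S ⊓ Nm E := ⟨_, rfl⟩
  have l := loc_ess hF J hs hE
  have x := ext_fn hF hE.2.1
  rw [← hN] at l x fn
  have lN : N ≤ S := hN ▸ inf_le_left
  have mv : ∀ g ∈ Aut F N, S ⊓ Nm (cj g E) = N ∧ cj g (LE F E) = LE F (cj g E) := fun g hg => by
    have m := M.of_Aut hg lN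
    have e := (hN ▸ m).cj_Nm_eq hE.2.1
    exact ⟨by rw [← e, ← hN, cj_eq_of_Aut hg], cj_LE (m.mono l.sp.le) e⟩
  let 𝓔 : Set (Subgroup Ω) := {X | ∃ g ∈ Aut F N, cj g E = X}
  have hl : ∀ X ∈ 𝓔, Loc p X N (LE F X) ∧ Ext X N (LE F X) (Aut F N) := by
    rintro _ ⟨g, hg, rfl⟩
    have h1 := l.cj g
    have h2 := x.cj g
    rw [cj_eq_of_Aut hg, (mv g hg).2] at h1 h2
    rw [cj_eq_of_mem hg] at h2
    exact ⟨h1, h2⟩
  have m0 : E ∈ 𝓔 := ⟨1, one_mem _, cj_one E⟩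
  have lt := lt_Nm hF.pg (hN ▸ inf_lt_left.2 n : N < S)
  obtain ⟨g, hg, hg'⟩ := SetLike.not_le_iff_exists.1 lt.not_ge
  have f := J.fam h2 (hs.mono lN) (fun X hX => (hl X hX).1) (fun X hX => (hl X hX).2)
    ⟨E, m0, _, ⟨g, Nm_le_Aut F N hg, rfl⟩, fun r => hg' (hN ▸ ⟨hg.1, mem_Nm.2 r.symm⟩)⟩
  obtain ⟨T, c⟩ := exists_cr N 𝓔 (LE F)
  have nT : Aut F N ≤ Nm T := fun g hg => c.nm_of (Aut_le_Nm F N hg) (by
    rintro _ ⟨k, hk, rfl⟩
    have hk' := mul_mem (inv_mem hg) hk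
    exact ⟨_, ⟨_, hk', rfl⟩, by
      rw [← (mv _ hk').2, ← (mv _ hk).2, ← cj_mul, mul_inv_cancel_left]⟩)
  rcases J.q J.red Ω p N _ _ T f c with ⟨e, a⟩ | ⟨_, ⟨g₁, k₁, rfl⟩, _, ⟨g₂, k₂, rfl⟩, A₂, A₁, b⟩
  · obtain ⟨d, k, e0, e1, e2, e3, e5⟩ := exists_d h5
    obtain ⟨γ, A, M, D, P, h, ca⟩ := J.ca1 J.sc jobTor Ω p (S ⊓ Nm N) N E _ _ T d k h2
      (hs.mono inf_le_left) (hF.pgl inf_le_left) lt.le lt.not_ge l x (hF.pp_of_fn fn)
      (fun g hg => (inf_le_inf_right _ inf_le_left).trans (mv g hg).1.le) (fun g hg hn => by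
        obtain ⟨h, hh, e⟩ := hF.ext_aut hg (hF.fc_of_fn fn) le_rfl
          ((cj_mono g le_sup_left).trans (cj_eq_of_Nm hn).le)
        have h2 := (hh.mono le_sup_right).cj_Nm_le
        rw [cj_eq_of_Nm (Nm_of_div_Ct (Aut_le_Nm F N hg) e)] at h2
        exact ⟨h, mem_Nm_of_le h2, e⟩)
      nT (c.nm E m0) (f.pm c m0) (a E m0) e e0 e1 e2 e3 e5
    obtain rfl := J.ca2 Ω p _ _ _ _ _ _ _ _ _ _ _ ca
    obtain rfl := le_bot_iff.1 ca.lT
    exact ⟨a E m0, by simpa using Sp.two ca.sM ca.sD⟩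
  · have := (b.el.cj (g₁ * g₂⁻¹)).ab
    rw [← cj_mul, inv_mul_cancel_right, cj_eq_of_Nm (nT (mul_mem k₁ (inv_mem k₂)))] at this
    exact absurd this b.na

/-- an essential subgroup that is not normal is elementary abelian of order `p ^ 2` -/
theorem not_normal (h5 : 5 ≤ p) (hE : F.IsEssential p E) (n : ¬ S ≤ Nm E) :
    El p E ⊥ ∧ Nat.card E = p ^ 2 := by
  obtain ⟨g, hg, fn⟩ := hF.to_fn (inf_le_left : S ⊓ Nm E ≤ S)
  have m := hg.mono (le_inf inf_le_left (le_Nm _) : S ⊓ Nm E ≤ _)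
  have e := m.cj_Nm_eq hE.2.1
  obtain ⟨h1, h3⟩ := not_normal' J hF h2 hs h5 (ess_cj hF J hs hE m) (fun r => n (by
    rw [inf_eq_left.2 r] at e
    exact (eq_of_le_of_card_ge inf_le_left (by rw [← card_cj g (S ⊓ Nm E), e])).ge.trans
      inf_le_right)) (e ▸ fn)
  exact ⟨by simpa using h1.cj g⁻¹, by simpa using h3⟩

end ambient

/-! ### Transport -/

section transport
variable {Ω : Type u} [Group Ω] {S : Subgroup Ω} [Finite S] {p : ℕ} [hp : Fact p.Prime]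
  {F : FusionSystem S}

omit [Finite S] hp in
theorem sr_of [Finite Ω] {k : ℕ} (h : SectionalPRankLE p k S) : SR p k S := fun A B hA el => by
  have := H3.sectionalPRankLE_iff.1 h (A.subgroupOf S) (B.subgroupOf S)
    (fun x hx y hy => mem_subgroupOf.2 (com_of_tv (el.ab (mem_subgroupOf.1 hx))
      (mem_subgroupOf.1 hy))) fun x hx => el.pw x hx
  rw [relIndex_subgroupOf hA] at this
  rw [← H9.relIndex_mul_card_le el.le]
  exact Nat.mul_le_mul_right _ this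

theorem sec_two {G : Type*} [Group G] [Finite G] (h : Nat.card G = p ^ 3)
    (n : ¬ IsMulCommutative G) : SectionalPRankLE p 2 G := by
  refine H3.sectionalPRankLE_iff.2 fun A B h1 h2 => ?_
  have d : B.relIndex A ∣ p ^ 3 := h ▸ (relIndex_dvd_card B A).trans (card_subgroup_dvd_card A)
  obtain ⟨i, hi, e⟩ := (Nat.dvd_prime_pow hp.out).1 d
  by_cases r : i ≤ 2
  · exact e ▸ Nat.pow_le_pow_right hp.out.pos r
  obtain rfl : i = 3 := by omega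
  have e1 := card_mul_index (B.subgroupOf A)
  rw [show (B.subgroupOf A).index = p ^ 3 from e] at e1
  have e2 : Nat.card A ≤ p ^ 3 := h ▸ card_le_card_group A
  have e3 : Nat.card (B.subgroupOf A) = 1 := by
    have : 0 < Nat.card (B.subgroupOf A) := Nat.card_pos
    have := pow_pos hp.out.pos 3
    nlinarith
  obtain rfl : A = ⊤ := eq_top_of_card_eq A (by rw [← e1, e3, h, one_mul])
  exact absurd ⟨⟨fun x y => commutatorElement_eq_one_iff_mul_comm.1 (by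
    have : (⟨⁅x, y⁆, mem_top _⟩ : (⊤ : Subgroup G)) ∈ B.subgroupOf ⊤ := h1 x trivial y trivial
    rw [card_eq_one.1 e3, mem_bot] at this
    exact congrArg Subtype.val this)⟩⟩ n

theorem setup (hS : IsPGroup p S) (hsr : SectionalPRankLE p 3 S ∧ ¬ SectionalPRankLE p 2 S)
    (hF : F.IsSaturated p) : ∃ (a : Ω → Big S) (b : Big S → Ω) (S' : Subgroup (Big S))
      (F' : FusionSystem S'), H94.Tr a b F F' ∧ SatA p F' ∧ SR p 3 S' ∧ S' ≠ ⊥ ∧
        ¬ (Nat.card S' = p ^ 3 ∧ ¬ S' ≤ Ct S') := by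
  obtain ⟨a, b, S', F', h, hA⟩ := exists_satA hS hF
  have e := h.1.equiv le_rfl h.1.img_top
  have k : ¬ SectionalPRankLE p 2 S' := fun r =>
    hsr.2 (H3.sectionalPRankLE_of_injective r e.toMonoidHom e.injective)
  refine ⟨a, b, S', F', h, hA,
    sr_of (H3.sectionalPRankLE_of_injective hsr.1 e.symm.toMonoidHom e.symm.injective),
    fun r => k ?_, fun r => k (sec_two r.1 fun q => r.2 (comm_iff.1 q))⟩
  refine H3.sectionalPRankLE_iff.2 fun A B _ _ => ?_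
  have : Subsingleton S' := r ▸ inferInstance
  rw [relIndex_eq_one.2 fun x _ => Subsingleton.elim 1 x ▸ one_mem B]
  exact pow_pos hp.out.pos 2

variable {Ω' : Type u} [Group Ω'] {S' : Subgroup Ω'} {a : Ω → Ω'} {b : Ω' → Ω} {E E₁ E₂ : Subgroup Ω}

omit [Finite S] hp in
theorem nm_img (h : H94.PIso a b S S') (hE : E ≤ S) : S' ≤ Nm (img E a) ↔ S ≤ Nm E := by
  have e : img (S ⊓ Nm E) a = S' ⊓ Nm (img E a) := h.img_normalizerIn' hE
  rw [← inf_eq_left, ← inf_eq_left (a := S), ← e, h.img_eq_top_iff inf_le_left]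

omit hp in
theorem pw_of {G G' : Type*} [Group G] [Group G'] {A : Subgroup G} {B : Subgroup G'} (e : A ≃* B)
    (h : ∀ y ∈ B, y ^ p = 1) : ∀ x ∈ A, x ^ p = 1 := fun x hx => by
  have : e (⟨x, hx⟩ ^ p) = 1 := by rw [map_pow]; exact Subtype.ext (h _ (e ⟨x, hx⟩).2)
  exact congrArg Subtype.val (e.map_eq_one_iff.1 this)

omit hp in
theorem ea_of {G G' : Type*} [Group G] [Group G'] {A : Subgroup G} {B : Subgroup G'} (e : A ≃* B)
    (h : IsElementaryAbelian p B) : IsElementaryAbelian p A :=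
  ⟨⟨⟨fun x y => e.injective (by rw [map_mul, map_mul, h.1.1.1])⟩⟩, pw_of e h.2⟩

theorem xs_of {A B : Type*} [Group A] [Group B] [Finite A] (e : A ≃* B) (h : IsExtraspecial p B)
    (c : Nat.card B = p ^ 3) : IsExtraspecial p A := by
  have cA := (Nat.card_congr e.toEquiv).trans c
  refine H9.isExtraspecial_of_card_cube cA fun r => ?_
  have : center B = ⊤ := eq_top_iff.2 fun x _ => mem_center_iff.2 fun y =>
    e.symm.injective (by rw [map_mul, map_mul, r.1.1])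
  have h2 := h.2
  rw [this, card_top, c] at h2
  exact absurd (Nat.pow_right_injective hp.out.two_le (h2.trans (pow_one p).symm)) (by norm_num)

theorem Out.tr (h : H94.PIso a b S S') (h1 : E₁ ≤ S) (h2 : E₂ ≤ S)
    (o : Out p S' (img E₁ a) (img E₂ a)) : Out p S E₁ E₂ := by
  obtain ⟨⟨P, ⟨e⟩⟩, o1, o2, o3, o4, o5⟩ := o
  have : Finite E₁ := finite_of_le h1
  exact ⟨⟨P, ⟨(h.equiv le_rfl h.img_top).trans e⟩⟩, xs_of (h.equiv h1 rfl) o1 o2,
    (h.card_img h1).symm.trans o2, pw_of (h.equiv h1 rfl) o3, ea_of (h.equiv h2 rfl) o4,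
    (h.card_img h2).symm.trans o5⟩

variable (J : Jobs.{u}) (hS : IsPGroup p S)
  (hsr : SectionalPRankLE p 3 S ∧ ¬ SectionalPRankLE p 2 S) (hF : F.IsSaturated p)
include J hS hsr hF

theorem s5180 (h5 : 5 ≤ p) (hE : F.IsEssential p E) (hrk : (frattini E).index = p ^ 3) :
    S ≤ Nm E := by
  obtain ⟨a, b, S', F', h, hA, hs, -, -⟩ := setup hS hsr hF
  by_contra n
  have c := (not_normal J hA (by omega) hs h5 (h.isEssential hE)
    fun r => n ((nm_img h.1 hE.1.1).1 r)).2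
  have := index_dvd_card (frattini E)
  rw [hrk, ← h.1.card_img hE.1.1, c] at this
  exact absurd ((Nat.pow_dvd_pow_iff_le_right hp.out.one_lt).1 this) (by norm_num)

theorem s5181' (h2 : p ≠ 2) (hO : F.core = ⊥) (hn : ∀ E, F.IsEssential p E → S ≤ Nm E) :
    ∃ E₁ E₂, F.IsEssential p E₁ ∧ Out p S E₁ E₂ := by
  obtain ⟨a, b, S', F', h, hA, hs, h0, n3⟩ := setup hS hsr hF
  obtain ⟨E₁, E₂, h₁, h₂, o⟩ := all_out J hA h2 hs (h.core_eq_bot hO) h0 n3 fun E hE =>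
    (nm_img h.1.symm hE.1.1).1 (hn _ (h.symm.isEssential hE))
  refine ⟨_, _, h.symm.isEssential h₁, Out.tr h.1 (h.1.symm.img_le h₁.1.1) (h.1.symm.img_le h₂) ?_⟩
  rwa [h.1.symm.img_img h₁.1.1, h.1.symm.img_img h₂]

theorem s5181 (h2 : Odd p) (hO : F.core = ⊥) :
    (∃ P : Sylow p (Matrix.symplecticGroup (Fin 2) (ZMod p)),
      Nonempty (S ≃* (P : Subgroup (Matrix.symplecticGroup (Fin 2) (ZMod p))))) ∨
      ∃ E : Subgroup Ω, F.IsEssential p E ∧ ¬ S ≤ Nm E := by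
  refine or_iff_not_imp_right.2 fun r => ?_
  push Not at r
  obtain ⟨_, _, -, o⟩ := s5181' J hS hsr hF (by rintro rfl; exact absurd h2 (by decide)) hO r
  exact o.1

theorem s5182 (h5 : 5 ≤ p) (hO : F.core = ⊥) : ∃ E : Subgroup Ω, (F.IsEssential p E ∧
    ((IsElementaryAbelian p E ∧ Nat.card E = p ^ 2) ∨
      (IsExtraspecial p E ∧ Nat.card E = p ^ 3 ∧ ∀ x ∈ E, x ^ p = 1))) := by
  by_cases r : ∀ E, F.IsEssential p E → S ≤ Nm E
  · obtain ⟨E, _, hE, o⟩ := s5181' J hS hsr hF (by omega) hO r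
    exact ⟨E, hE, Or.inr ⟨o.2.1, o.2.2.1, o.2.2.2.1⟩⟩
  push Not at r
  obtain ⟨E, hE, n⟩ := r
  obtain ⟨a, b, S', F', h, hA, hs, -, -⟩ := setup hS hsr hF
  obtain ⟨c1, c2⟩ := not_normal J hA (by omega) hs h5 (h.isEssential hE)
    fun r => n ((nm_img h.1 hE.1.1).1 r)
  exact ⟨E, hE, Or.inl ⟨ea_of (h.1.equiv hE.1.1 rfl) ⟨comm_iff.2 c1.ct, c1.pw⟩,
    (h.1.card_img hE.1.1).symm.trans c2⟩⟩

theorem s5189 (h2 : Odd p) (hO : F.core = ⊥) (ne : E₁ ≠ E₂) (h₁ : F.IsEssential p E₁)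
    (h₂ : F.IsEssential p E₂)
    (c₁ : ∀ φ : MulAut S, φ ∈ F.autGroup S → (E₁.subgroupOf S).map φ.toMonoidHom = E₁.subgroupOf S)
    (c₂ : ∀ φ : MulAut S, φ ∈ F.autGroup S → (E₂.subgroupOf S).map φ.toMonoidHom = E₂.subgroupOf S) :
    Out p S E₁ E₂ ∨ Out p S E₂ E₁ := by
  obtain ⟨a, b, S', F', h, hA, hs, -, n3⟩ := setup hS hsr hF
  have k : ∀ E ≤ S, (∀ φ : MulAut S, φ ∈ F.autGroup S →
      (E.subgroupOf S).map φ.toMonoidHom = E.subgroupOf S) → Aut F' S' ≤ Nm (img E a) := by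
    intro E hE c g hg
    obtain ⟨α, hα, e⟩ := mem_lift.1 (show g ∈ lift S' (F'.autGroup S') by
      rw [lift_autGroup le_rfl]; exact hg)
    have m : (h.1.tr le_rfl h.1.img_top).symm α ∈ F.autGroup S :=
      (h.tr_mem_autGroup_iff le_rfl h.1.img_top).1 (by simpa using hα)
    refine mem_Nm_of_conj fun y hy => ?_
    obtain ⟨x, hx, rfl⟩ := (h.1.mem_img hE).1 hy
    have x1 := h.1.a_mem x (hE hx)
    have e1 := h.1.af_tr_symm le_rfl h.1.img_top α (hE hx)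
    have e2 := (c _ m).le (mem_map_of_mem _ (show (⟨x, hE hx⟩ : S) ∈ E.subgroupOf S from hx))
    rw [← e _ x1]
    refine (h.1.mem_img' hE).2 ⟨e _ x1 ▸ conj_mem_of_Nm (Aut_le_Nm _ _ hg) x1, ?_⟩
    rw [← e1, af_of_mem _ (hE hx)]
    exact e2
  exact (two_char J hA (by rintro rfl; exact absurd h2 (by decide)) hs (h.core_eq_bot hO) n3
    (fun r => ne ((h.1.img_inj h₁.1.1 h₂.1.1).1 r)) (h.isEssential h₁) (h.isEssential h₂)
    (k _ h₁.1.1 c₁) (k _ h₂.1.1 c₂)).imp (Out.tr h.1 h₁.1.1 h₂.1.1) (Out.tr h.1 h₂.1.1 h₁.1.1)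

end transport

end H87.F3
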