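/- Sectional rank three: all the steps together. -/
import Cfsg.Agent.H87.F3Z
import Cfsg.Agent.H21.F3F1
import Cfsg.Agent.H21.F3SC
import Cfsg.Agent.H29.F3R1
import Cfsg.Agent.H38.F3CA2
import Cfsg.Agent.H38.F3Q
import Cfsg.Agent.H44.F3Sp4
import Cfsg.Agent.H71.F3K3
import Cfsg.Agent.H71.F3KM
import Cfsg.Agent.H92.F3CA
import Cfsg.Agent.H92.F3RB

namespace H87.F3

universe u

theorem jobs : Jobs.{u} :=
  ⟨H21.F3.jobSC, H71.F3K.jobK3, H71.F3K.jobKM, H29.F3.jobR1, H92.F3.jobR2b, H38.F3.jobQ,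
    H92.F3.jobCA1, H38.F3.jobCA2, H21.F3.jobF1, H44.F3.jobSp4⟩

end H87.F3
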