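import Cfsg.Agent.H34.GGKit

/-! Tower GG, slots W5a and W5b. -/

set_option autoImplicit false

namespace H87.GGW

open H34.GG

universe u

theorem exists_pinv {K V : Type*} [Field K] [AddCommGroup V] [Module K V] (f : Module.End K V) :
    ∃ s : Module.End K V, ∀ x, f (s (f x)) = f x := by
  obtain ⟨g, hg⟩ := f.rangeRestrict.exists_rightInverse_of_surjective f.range_rangeRestrict
  obtain ⟨s, hs⟩ := g.exists_extend
  refine ⟨s, fun x => ?_⟩
  have h1 := LinearMap.congr_fun hs ⟨f x, x, rfl⟩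
  have h2 := congrArg Subtype.val (LinearMap.congr_fun hg ⟨f x, x, rfl⟩)
  exact (congrArg f h1).trans h2

theorem mem_of_inj {K V : Type*} [Field K] [AddCommGroup V] [Module K V] [Finite V]
    {f : Module.End K V} (hf : Function.Injective f) {Z I : Submodule K V} (hI : I ≤ Z)
    (h : ∀ x ∈ Z, f x ∈ I) : Z ≤ I := by
  have h1 : Nat.card Z ≤ Nat.card I := Nat.card_le_card_of_injective
    (fun x : Z => (⟨f x, h x x.2⟩ : I)) fun a b e => Subtype.ext (hf (congrArg Subtype.val e))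
  exact (AddSubgroup.eq_of_le_of_card_ge (H := I.toAddSubgroup) (K := Z.toAddSubgroup) hI h1).ge

theorem jobW5a : JobW5a.{u} := by
  intro V _ _ _ h h' k k' ν φ₀ φ₁ φ₂ L
  have t2 := two_eq_v (V := V)
  have hh : ∀ x, h (h' x) = x := LinearMap.congr_fun L.hh
  have hh' : ∀ x, h' (h x) = x := LinearMap.congr_fun L.hh'
  have νν : ∀ x, ν (ν x) = 0 := LinearMap.congr_fun L.νν
  have st : ∀ x, h (ν (h x)) = ν x := LinearMap.congr_fun L.star
  have hν : ∀ x, h (ν x) = ν (h' x) := fun x => by rw [← st (h' x), hh]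
  have νh : ∀ x, ν (h x) = h' (ν x) := fun x => by rw [← st x, hh']
  have h0 : ∀ x, φ₀ (h x) = h (φ₀ x) := LinearMap.congr_fun L.c0.1.symm
  have k0 : ∀ x, φ₀ (k x) = k (φ₀ x) := LinearMap.congr_fun L.c0.2.1.symm
  have n0 : ∀ x, φ₀ (ν x) = ν (φ₀ x) := LinearMap.congr_fun L.c0.2.2.symm
  have h1 : ∀ x, φ₁ (h x) = h (φ₁ x) := LinearMap.congr_fun L.c1.1.symm
  have nn1 : ∀ x, φ₁ (ν x) = ν (φ₁ x) := LinearMap.congr_fun L.c1.2.2.symm
  have h0' : ∀ x, φ₀ (h' x) = h' (φ₀ x) := fun x => by rw [← hh' (φ₀ (h' x)), ← h0, hh]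
  have h1' : ∀ x, φ₁ (h' x) = h' (φ₁ x) := fun x => by rw [← hh' (φ₁ (h' x)), ← h1, hh]
  have z00 : ∀ x, φ₀ (φ₀ x) = 0 := LinearMap.congr_fun L.z.1
  have z01 : ∀ x, φ₀ (φ₁ x) = 0 := LinearMap.congr_fun L.z.2.1
  have z10 : ∀ x, φ₁ (φ₀ x) = 0 := LinearMap.congr_fun L.z.2.2.1
  have n1 : ∀ x, ν (φ₁ x) = h (h (ν (φ₀ x))) := fun x => by
    simpa [pow_two] using LinearMap.congr_fun L.n1 x
  have b1 : ∀ x, k (ν x + φ₀ x + ν (φ₀ x)) = h (h (ν x)) + φ₁ x + h (h (ν (φ₁ x))) := fun x => by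
    simpa [pow_two] using LinearMap.congr_fun L.b1 x
  have b1' : ∀ x, h (h (ν (k x))) + φ₁ (k x) + h (h (ν (φ₁ (k x)))) = ν x + φ₀ x + ν (φ₀ x) :=
    fun x => by simpa [pow_two] using LinearMap.congr_fun L.b1' x
  have ex : ∀ y, φ₀ y = 0 → ∃ w, φ₀ w = y := fun y hy => (L.ex0.le hy : y ∈ LinearMap.range φ₀)
  obtain ⟨s, hs⟩ := exists_pinv φ₀
  have A : ∀ y, φ₀ y = 0 → φ₀ (s y) = y := fun y hy => by obtain ⟨w, rfl⟩ := ex y hy; exact hs w
  set I := LinearMap.range (ν * φ₀) with hI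
  have B : ∀ y, φ₀ y = 0 → ν y ∈ I := fun y hy => by obtain ⟨w, rfl⟩ := ex y hy; exact ⟨w, rfl⟩
  have C : ∀ x ∈ I, h x ∈ I := by
    rintro _ ⟨w, rfl⟩
    exact ⟨h' w, by simp only [Module.End.mul_apply, hν, h0']⟩
  have D : ∀ T : Module.End (ZMod 2) V, (∀ x, φ₀ (T x) = T (φ₀ x)) → ∀ y, φ₀ y = 0 →
      ∃ e, φ₀ e = 0 ∧ s (T y) = T (s y) + e := fun T hT y hy =>
    ⟨s (T y) - T (s y), by rw [map_sub, A _ (by rw [hT, hy, map_zero]), hT, A y hy, sub_self],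
      by abel⟩
  have E : ∀ e, φ₀ e = 0 → φ₁ e = 0 := fun y hy => by obtain ⟨w, rfl⟩ := ex y hy; exact z10 w
  have F : ∀ x ∈ I, φ₁ (s x) ∈ I := by
    rintro _ ⟨w, rfl⟩
    obtain ⟨e, e1, e2⟩ := D ν n0 _ (z00 w)
    rw [Module.End.mul_apply, e2, map_add, E e e1, add_zero, nn1, n1, hs]
    exact C _ (C _ ⟨w, rfl⟩)
  have ω : ∀ T : Module.End (ZMod 2) V, (∀ x, φ₀ (T x) = T (φ₀ x)) → (∀ x, φ₁ (T x) = T (φ₁ x)) →
      ∀ y, φ₀ y = 0 → φ₁ (s (T y)) = T (φ₁ (s y)) := fun T a b y hy => by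
    obtain ⟨e, e1, e2⟩ := D T a y hy
    rw [e2, map_add, E e e1, add_zero, b]
  have c1 : ∀ z, ν z = 0 → φ₀ z = 0 → φ₁ (s (φ₁ (s z))) + z +
      (h (h (ν (s (φ₁ (s z))))) + φ₁ (s (h (h (ν (s z)))))) ∈ I := fun z z1 z2 => by
    have hv := A z z2
    have y1 : φ₀ (ν (s z)) = 0 := by rw [n0, hv, z1]
    have y0 : φ₀ (ν (s z) + z) = 0 := by rw [map_add, y1, z2, add_zero]
    have e0 := b1 (s z)
    rw [n1, hv, z1] at e0
    simp only [map_zero, add_zero] at e0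
    obtain ⟨e, e1, e2⟩ := D k k0 _ y0
    obtain ⟨e', e1', e2'⟩ := D (h * h) (fun x => by simp only [Module.End.mul_apply, h0]) _ y1
    simp only [Module.End.mul_apply] at e2'
    have ya : φ₀ (h (h (ν (s z))) + φ₁ (s z)) = 0 := by
      rw [map_add, h0, h0, y1, z01, map_zero, map_zero, add_zero]
    have e3 := b1' (s (ν (s z) + z))
    have e4 : k (s (ν (s z) + z)) = s (h (h (ν (s z))) + φ₁ (s z)) + e := by
      rw [← e0, e2, add_assoc, t2, add_zero]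
    rw [e4, n1, A _ y0, map_add φ₀, A _ ya, e1, add_zero] at e3
    have m1 := C _ (C _ (C _ (C _ (B _ ya))))
    have m2 := C _ (C _ (B _ e1))
    have m3 := C _ (C _ (B _ e1'))
    have e5 : h (h (ν (s (h (h (ν (s z))))))) = ν (s (ν (s z))) + h (h (ν e')) := by
      rw [e2', map_add, map_add, map_add, st, st]
    generalize h (h (h (h (ν (h (h (ν (s z))) + φ₁ (s z)))))) = w at m1 e3
    simp only [map_add, E e e1, e5, νν, z1, add_zero] at e3
    convert add_mem (add_mem m1 m2) m3 using 1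
    linear_combination (norm := abel) e3 + t2 (ν (s z)) + t2 z - t2 w - t2 (h (h (ν e))) -
      t2 (h (h (ν e')))
  have c2 : ∀ z, ν z = 0 → φ₀ z = 0 → φ₁ (s (φ₁ (s z))) + z ∈ I := fun z z1 z2 => by
    have m1 := c1 (h z) (by rw [νh, z1, map_zero]) (by rw [h0, z2, map_zero])
    have m2 := c1 z z1 z2
    have y1 : φ₀ (ν (s z)) = 0 := by rw [n0, A z z2, z1]
    obtain ⟨e, e1, e2⟩ := D h h0 _ (z01 (s z))
    obtain ⟨e', e1', e2'⟩ := D h h0 _ z2
    rw [ω h h0 h1 z z2, ω h h0 h1 _ (z01 _), e2, e2'] at m1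
    simp only [map_add, st] at m1
    rw [ω h h0 h1 _ y1] at m1
    rw [ω h h0 h1 _ (by rw [h0, y1, map_zero]), ω h h0 h1 _ y1] at m2
    have m3 := C _ (C _ (C _ (B _ e1)))
    have m4 := C _ (F _ (C _ (C _ (B _ e1'))))
    have m5 : (h ^ 2 + 1 : Module.End (ZMod 2) V) (φ₁ (s (φ₁ (s z))) + z) ∈ I := by
      have := add_mem (add_mem (add_mem (C _ m1) m2) m3) m4
      simp only [map_add] at this
      convert this using 1
      simp only [pow_two, LinearMap.add_apply, Module.End.mul_apply, Module.End.one_apply, map_add]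
      linear_combination (norm := abel) - t2 (h (h (ν (s (φ₁ (s z)))))) - t2 (h (h (h (ν e)))) -
        t2 (h (h (φ₁ (s (ν (s z)))))) - t2 (h (φ₁ (s (h (h (ν e'))))))
    refine mem_of_inj L.i2 (Z := I.comap (h ^ 2 + 1 : Module.End (ZMod 2) V)) (fun x hx => ?_)
      (fun _ hx => hx) m5
    simpa [pow_two] using add_mem (C _ (C _ hx)) hx
  have inj : ∀ y, φ₀ y = 0 → φ₁ (s y) + y = 0 → y = 0 := fun y hy e => by
    have := L.ex1 (show (φ₀ + φ₁) (s y) = 0 by rw [LinearMap.add_apply, A y hy, add_comm, e])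
    rwa [LinearMap.mem_ker, A y hy] at this
  intro z z1 z2
  let Z : Submodule (ZMod 2) V := LinearMap.ker ν ⊓ LinearMap.ker φ₀
  have hZ : Nat.card Z ≤ Nat.card I := Nat.card_le_card_of_injective
    (fun x : Z => (⟨_, c2 x x.2.1 x.2.2⟩ : I)) fun a b e => by
      have e1 := congrArg Subtype.val e
      have z3 : φ₀ (a - b : Z) = 0 := (a - b).2.2
      refine sub_eq_zero.1 (Subtype.ext (inj _ z3 (inj _ (by rw [map_add, z01, z3, add_zero]) ?_)))
      simp only [Submodule.coe_sub, map_add, map_sub] at e1 ⊢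
      linear_combination (norm := abel) e1 + t2 (φ₁ (s a)) - t2 (φ₁ (s b))
  have hle : I ≤ Z := by
    rintro _ ⟨w, rfl⟩
    exact ⟨νν _, by rw [SetLike.mem_coe, LinearMap.mem_ker, Module.End.mul_apply, n0, z00, map_zero]⟩
  obtain ⟨v, hv⟩ := (AddSubgroup.eq_of_le_of_card_ge (H := I.toAddSubgroup) (K := Z.toAddSubgroup)
    hle hZ).ge (show z ∈ Z from ⟨z1, z2⟩)
  exact ⟨v, hv.symm⟩

end H87.GGW
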