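/- Assembly of the tower HM. -/
import Cfsg.Agent.H87.HMK2

set_option autoImplicit false
set_option linter.unusedSectionVars false

namespace H87.HM
open Cfsg Cfsg.FusionSystem H92 H93 Subgroup H92.Es
open H87.S4 (Co)
open scoped commutatorElement

universe u

variable {Ω : Type u} [Group Ω] [Finite Ω] {S B A A' : Subgroup Ω} {F E : FusionSystem S} {g n t : Ω}
  {K : Type} [Field K] [Finite K] [CharP K 2] {σ ρ : RingAut K} {G : Type} [Group G] [Finite G]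
  {T : Sylow 2 G} {B' : Subgroup G} {t' : G}

theorem div_mem_Ct {P : Subgroup Ω} {k : Ω} (h : ∀ x ∈ P, k * x * k⁻¹ = g * x * g⁻¹) : g⁻¹ * k ∈ Ct P :=
  conj_eq_iff_Ct.1 h

theorem conj_mul' (a b x : Ω) : a * b * x * (a * b)⁻¹ = a * (b * x * b⁻¹) * a⁻¹ := by group

theorem in_of_sc (hEn : JobEn.{u}) (hE : SatA 2 E) (h : Tw S B A A' t) (t2 : t * t = 1)
    (ng : Ng (A ⊓ A') t) (s : ∀ P g, M E P g → ∀ x ∈ P, x ∈ B → g * x * g⁻¹ ∈ B) : In E B := fun P hP => by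
  rcases hEn Ω S B A A' E t hE h t2 ng P hP with r | ⟨-, -, y, hy, r, g, hg, e⟩
  · exact r
  · have := s P g⁻¹ (M.of_Aut (inv_mem hg) (ess_lt hE hP).le) _ (conj_mem_of_Nm hg.1 hy) (h.ZB e)
    exact (r (by simpa [mul_assoc] using this)).elim

section three
variable {m : K → K → K → Ω} {m' : K → K → K → G} {c c' : K}

theorem Dg3.div (h : He B m) {k : Ω} (h1 : Dg3 m g c c' ρ) (h2 : Dg3 m k c c' ρ) : g⁻¹ * k ∈ Ct B :=
  div_mem_Ct fun x hx => by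
    obtain ⟨a, b, z, rfl⟩ := h.surj x hx
    rw [h1, h2]

theorem Std3.top (hFr : JobFr3.{u}) (hK : 2 < Nat.card K) (s : Std3 F B m t σ) : Top F B (X3 m) t := by
  have := Fact.mk Nat.prime_two
  have h := s.t3.tw hK
  have k := s.t3.he
  by_cases hσ : σ = 1
  swap
  · exact top_of_ng s.sat h s.t3.t2 (s.t3.ng hσ)
  intro g hg r cm
  obtain ⟨c, c', ρ, -, -, d⟩ := (hFr K Ω S B F m t σ hK s.toSt3).2.2 g r
  obtain ⟨w, hw, e⟩ := h.extS s.sat hg (mem_sup_right cm)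
  refine ⟨w, hw, e, ?_⟩
  have h1 : ⁅w, t⁆ ∈ A3 m ⊓ A3' m := h.cenB.le <| mem_inf.2 ⟨mul_mem (conj_mem_of_Nm hw.1 h.tS) (S.inv_mem h.tS), by
    have := mul_mem (mul_mem (conj_mem_Ct_of_Nm hg.1 e) cm) (conj_mem_Ct_of_Nm (mul_mem h.t_Nm hg.1) (inv_mem e))
    convert this using 1
    simp only [commutatorElement_def]; group⟩
  obtain ⟨ζ, hζ⟩ := k.exZ (k.inf_eq ▸ h1)
  obtain ⟨v, v0, v1⟩ : ∃ v : K, v ≠ 0 ∧ v ≠ 1 := by
    by_contra! hc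
    have := Fintype.ofFinite K
    classical
    have : (Finset.univ : Finset K) ⊆ {0, 1} := fun x _ => by by_cases e : x = 0 <;> simp [e, hc x]
    have := (Finset.card_le_card this).trans Finset.card_le_two
    rw [Nat.card_eq_fintype_card] at hK
    exact hK.not_ge this
  have d' : Dg3 m w c c' ρ := fun a b z => (conj_eq_of_Ct_div e (k.mem ..)).trans (d a b z)
  obtain ⟨p, mp, dp, cp⟩ := s.fix hσ v v0
  obtain ⟨p', mp', dp', cp'⟩ := s.fix hσ (ρ v) (by simpa using v0)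
  have aS : ∀ {x}, M F S x → x ∈ Aut F S := fun r => r.mem_Aut (mem_Nm.2 (cj_eq_of_le_of_card r.cj_le le_rfl))
  obtain ⟨z, hz, e2⟩ := s.sat.eq_of_centric (h.centricB s.sat) h.BS (M.of_Aut (mul_mem hw (aS mp)) le_rfl)
    (M.of_Aut (mul_mem (aS mp') hw) le_rfl) (div_mem_Ct fun x hx => by
      obtain ⟨a, b, z, rfl⟩ := k.surj x hx
      rw [conj_mul', conj_mul', dp, d', d', dp']
      simp only [map_mul, RingAut.one_apply]; congr 1 <;> ring)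
  obtain ⟨y, rfl⟩ := k.exZ (k.inf_eq ▸ h.cenB.le ⟨h.BS hz.1, hz.2⟩)
  have e3 := conj_eq_of_Ct_div e2 h.tS
  have e4 : m 0 0 y * t * (m 0 0 y)⁻¹ = t := by
    have := s.t3.actZ y
    rw [hσ, RingAut.one_apply, mul_inv_eq_iff_eq_mul] at this
    rw [← this, mul_inv_cancel_right]
  have e5 : w * t * w⁻¹ = m 0 0 ζ * t := by rw [← hζ, commutatorElement_def, inv_mul_cancel_right]
  rw [conj_mul', conj_mul' (w * p), e4, conj_mul', cp.eq, mul_inv_cancel_right, e5, ← conj_mul, dp', cp'.eq,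
    mul_inv_cancel_right, mul_left_inj] at e3
  have e6 := (k.inj e3).2.2
  have : ζ = 0 := by
    by_contra r
    rw [RingAut.one_apply, mul_left_eq_self₀, or_iff_left r, mul_self_eq_one_iff, CharTwo.neg_eq, or_self] at e6
    exact v1 (by simpa using e6)
  rw [this, k.one, one_mul] at e5
  exact mul_inv_eq_iff_eq_mul.1 e5

theorem core3 (hK : 2 < Nat.card K) (hF : SatA 2 F) (s : T3 S B m t σ) (s' : T3 T B' m' t' σ)
    (hn : ∃ n, Sw3 m' n) (fx : σ = 1 → ∀ s, s ≠ 0 → ∃ g, Dg3 m' g s s 1 ∧ Commute g t') :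
    ∃ (ι : S →* G) (E : FusionSystem S), Rl E ι T ∧ Std3 E B m t σ ∧
      (∀ c c' ρ, P3 E B m c c' ρ ↔ c ≠ 0 ∧ c' ≠ 0 ∧ ∃ g, Dg3 m' g c c' ρ) ∧
      (Sc (T : Subgroup G) B' ↔ ∀ P g, M E P g → ∀ x ∈ P, x ∈ B → g * x * g⁻¹ ∈ B) := by
  have h := s.tw hK
  have k := s.he
  have k' := s'.he
  obtain ⟨f, mul, hf⟩ := k.exists_hom k'
  obtain ⟨ι, i1, i2, i3, i4⟩ := hom2 h s.t2 mul (B' := B') (fun x hx e => by
      obtain ⟨a, b, z, rfl⟩ := k.surj x hx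
      exact k.eq_one.2 (k'.eq_one.1 (hf a b z ▸ e))) (fun y => ⟨fun hy => by
      obtain ⟨a, b, z, rfl⟩ := k'.surj y hy
      exact ⟨_, k.mem .., hf ..⟩, by
      rintro ⟨x, hx, rfl⟩
      obtain ⟨a, b, z, rfl⟩ := k.surj x hx
      exact hf a b z ▸ k'.mem ..⟩) s'.BS s'.tS s'.idx s'.t2 (s'.tw hK).t_not fun x hx => by
    obtain ⟨a, b, z, rfl⟩ := k.surj x hx
    rw [s.act, hf, hf, s'.act]
  obtain ⟨E, e⟩ := exists_rl hF i1 T i2
  have i5 : ∀ a b z, ext1 ι (m a b z) = m' a b z := fun a b z => (i3 _ (k.mem ..)).trans (hf ..)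
  have mS : ∀ a b z, m a b z ∈ S := fun a b z => h.BS (k.mem ..)
  have mT : ∀ a b z, m' a b z ∈ (T : Subgroup G) := fun a b z => s'.BS (k'.mem ..)
  refine ⟨ι, E, e, ⟨⟨e.sat, s, ?_⟩, fun hσ v v0 => ?_⟩, fun c c' ρ => and_congr_right fun _ =>
    and_congr_right fun _ => ⟨fun ⟨g, hg, d⟩ => ?_, fun ⟨γ, d⟩ => ?_⟩, e.sc_iff h.BS (fun x hx => ?_) s'.BS⟩
  · obtain ⟨n, hn⟩ := hn
    obtain ⟨g, hg, r⟩ := e.lift h.AS n fun x hx => by
      obtain ⟨a, z, rfl⟩ := k.exA hx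
      rw [i5, hn]; exact mT ..
    exact ⟨g, hg, fun a z => e.inj (hg.mem (k.mem_A.2 rfl)) (mS ..) (by rw [r _ (k.mem_A.2 rfl), i5, i5, hn])⟩
  · obtain ⟨γ, d, cm⟩ := fx hσ v v0
    have c1 : γ * t' * γ⁻¹ = t' := by rw [cm.eq, mul_inv_cancel_right]
    have c2 : ∀ x ∈ B, γ * ext1 ι x * γ⁻¹ ∈ (T : Subgroup G) := fun x hx => by
      obtain ⟨a, b, z, rfl⟩ := k.surj x hx
      rw [i5, d]; exact mT ..
    obtain ⟨g, hg, r⟩ := e.lift le_rfl γ fun x hx => by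
      by_cases r : x ∈ B
      · exact c2 x r
      obtain ⟨y, hy, rfl⟩ := h.out hx r
      rw [mulOn_ext1 ι y (h.BS hy) t h.tS, ← conj_mul, i4, c1]
      exact mul_mem (c2 y hy) s'.tS
    exact ⟨g, hg, fun a b z => e.inj (hg.mem (mS ..)) (mS ..) (by rw [r _ (mS ..), i5, i5, d]),
      mul_inv_eq_iff_eq_mul.1 (e.inj (hg.mem h.tS) h.tS (by rw [r _ h.tS, i4, c1]))⟩
  · obtain ⟨γ, r⟩ := e.down hg
    exact ⟨γ, fun a b z => by rw [← i5, ← r _ (k.mem ..), d, i5]⟩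
  · obtain ⟨g, hg, r⟩ := e.lift h.BS γ fun x hx => by
      obtain ⟨a, b, z, rfl⟩ := k.surj x hx
      rw [i5, d]; exact mT ..
    exact ⟨g, hg, fun a b z => e.inj (hg.mem (k.mem ..)) (mS ..) (by rw [r _ (k.mem ..), i5, i5, d])⟩
  · refine ⟨fun r => ?_, fun r => ?_⟩
    · obtain ⟨a, b, z, r⟩ := k'.surj _ r
      exact e.inj hx (mS ..) (r.trans (i5 ..).symm) ▸ k.mem ..
    · obtain ⟨a, b, z, rfl⟩ := k.surj _ r
      exact i5 a b z ▸ k'.mem ..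

theorem sub3 (hFr : JobFr3.{u}) (hK : 2 < Nat.card K) (s : Std3 F B m t σ) (s' : Std3 E B m t σ)
    (hP : ∀ c c' ρ, P3 F B m c c' ρ → P3 E B m c c' ρ)
    (hQ : ∀ P, F.IsEssential 2 P → ¬ P ≤ B → Aut F P ≤ Aut E P) : ∀ P g, M F P g → M E P g := by
  obtain ⟨f1, -, f3⟩ := hFr K Ω S B F m t σ hK s.toSt3
  obtain ⟨n, n1, n2⟩ := s.n
  obtain ⟨n', n1', n2'⟩ := s'.n
  refine (f1 n n1 n2).sub (s.top hFr hK) s'.sat (s'.top hFr hK) (n1'.congr (div_mem_Ct fun x hx => ?_))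
    (fun g hg r => ?_) hQ
  · obtain ⟨a, z, rfl⟩ := s.t3.he.exA hx
    rw [n2, n2']
  · obtain ⟨c, c', ρ, c0, c0', d⟩ := f3 g r
    obtain ⟨-, -, g', hg', d'⟩ := hP c c' ρ ⟨c0, c0', g, M.of_Aut hg s.t3.BS, d⟩
    exact hg'.congr (d'.div s.t3.he d)

theorem aut_four (hK : Nat.card K = 4) (h : Odd (orderOf ρ)) : ρ = 1 := by
  have := Fintype.ofFinite K
  have p : ∀ x : K, x ^ 4 = x := fun x => by simpa [← Nat.card_eq_fintype_card, hK] using FiniteField.pow_card x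
  have two : (2 : K) = 0 := CharTwo.two_eq_zero
  have e : ρ ^ 2 = 1 := RingEquiv.ext fun x => by
    rw [sq, RingAut.mul_apply, RingAut.one_apply]
    have q : x * (x - 1) * (x ^ 2 + x + 1) = 0 := by linear_combination p x
    rcases mul_eq_zero.1 q with q | q
    · rcases mul_eq_zero.1 q with rfl | q
      · simp
      · simp [sub_eq_zero.1 q]
    have q' := congrArg ρ q
    simp only [map_add, map_pow, map_one, map_zero] at q'
    have : (ρ x - x) * (ρ x - (x + 1)) = 0 := by linear_combination q' + q - (ρ x + ρ x * x + 1) * two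
    rcases mul_eq_zero.1 this with r | r <;> rw [sub_eq_zero] at r
    · rw [r, r]
    · rw [r, map_add, r, map_one, add_assoc, CharTwo.add_self_eq_zero, add_zero]
  exact orderOf_eq_one_iff.1 (h.coprime_two_right.eq_one_of_dvd (orderOf_dvd_of_pow_eq_one e))

theorem real3 (hFr : JobFr3.{u}) (hEg : JobEg.{u}) (hEn : JobEn.{u}) (hM : JobM3) (hQ : JobQ5.{u})
    (hJ : ∀ (K : Type) [Field K] [Finite K] [CharP K 2] (σ : RingAut K), Nat.card K = 4 → σ ≠ 1 →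
      ∃ (G : Type) (_ : Group G) (_ : Finite G) (T : Sylow 2 G) (B : Subgroup G) (m : K → K → K → G)
        (t : G), Spor.IsoJ3 G ∧ T3 T B m t σ ∧ (∃ n, Sw3 m n) ∧ ¬ Sc T B)
    (hK : 2 < Nat.card K) (s : Std3 F B m t σ) : Real F := by
  have h := s.t3.tw hK
  have k := s.t3.he
  by_cases i : In F B
  · obtain ⟨G, _, _, T, B', m', t', s', n, fx, hP, sc, al⟩ := hM K σ (P3 F B m) hK
      (RingEquiv.ext s.t3.sq) (hFr K Ω S B F m t σ hK s.toSt3).2.1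
    obtain ⟨ι, E, e, sE, pE, sc'⟩ := core3 hK s.sat s.t3 s' n fx
    have i' : In E B := by
      by_cases hσ : σ = 1
      · exact hEg K Ω S B E m t hK e.sat (hσ ▸ s.t3)
      · exact in_of_sc hEn e.sat h s.t3.t2 (s.t3.ng hσ) (sc'.1 sc)
    obtain rfl : F = E := s.sat.amb.fs_ext fun P g =>
      ⟨sub3 hFr hK s sE (fun c c' ρ r => (pE ..).2 ((hP ..).1 r)) (fun P hP r => (r (i P hP)).elim) P g,
        sub3 hFr hK sE s (fun c c' ρ r => (hP ..).2 ((pE ..).1 r)) (fun P hP r => (r (i' P hP)).elim) P g⟩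
    exact ⟨G, _, ‹_›, ι, e.re, ⟨T, e.rg⟩, .inr (.inr (.inr (.inr (.inr al))))⟩
  have hσ : σ ≠ 1 := fun r => i (hEg K Ω S B F m t hK s.sat (r ▸ s.t3))
  have q : ∀ {X : FusionSystem S}, SatA 2 X → ∀ P, X.IsEssential 2 P → ¬ P ≤ B →
      Nat.card K = 4 ∧ P = Qx S (A3 m ⊓ A3' m) t := fun hX P hP r => by
    obtain ⟨r1, r2, -⟩ := (hEn Ω S B _ _ _ t hX h s.t3.t2 (s.t3.ng hσ) P hP).resolve_left r
    exact ⟨by rwa [k.inf_eq, k.card_Z] at r1, r2⟩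
  have K4 : Nat.card K = 4 := by
    obtain ⟨P, r⟩ := not_forall.1 i
    exact (q s.sat P (Classical.not_imp.1 r).1 (Classical.not_imp.1 r).2).1
  obtain ⟨G, _, _, T, B', m', t', al, s', n, sc⟩ := hJ K σ K4 hσ
  obtain ⟨ι, E, e, sE, -, sc'⟩ := core3 hK s.sat s.t3 s' n fun r => (hσ r).elim
  have i' : ¬ In E B := fun r => sc (sc'.2 (sc_of_in e.sat h r))
  have sub : ∀ {X Y : FusionSystem S}, Std3 X B m t σ → Std3 Y B m t σ → ¬ In Y B → ∀ P g, M X P g → M Y P g :=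
    fun {X Y} x y iy => by
      obtain ⟨q1, q2⟩ := hQ hEn hFr K Ω S B Y m t σ K4 hσ y.toSt3 iy
      refine sub3 hFr hK x y (fun c c' ρ r => ?_) fun P hP r => (q x.sat P hP r).2 ▸ q2 X x.sat
      exact aut_four K4 ((hFr K Ω S B X m t σ hK x.toSt3).2.1.odd c c' ρ r) ▸ q1 c c' r.1 r.2.1
  obtain rfl : F = E := s.sat.amb.fs_ext fun P g => ⟨sub s sE i' P g, sub sE s i P g⟩
  refine ⟨G, _, ‹_›, ι, e.re, ⟨T, e.rg⟩, .inr (.inr (.inr (.inr (.inl ⟨?_, al⟩))))⟩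
  have c := h.card_B
  rw [k.inf_eq, k.card_Z, k.card_A, K4] at c
  rw [h.card_S]; omega

end three

section four
variable {m : K → K → K → K → Ω} {m' : K → K → K → K → G} {α β : K}

theorem core4 (hF : SatA 2 F) (s : T4 S B m t σ) (s' : T4 T B' m' t' σ) (hn : ∃ n, Sw4 m' n) :
    ∃ (ι : S →* G) (E : FusionSystem S), Rl E ι T ∧ Std4 E B m t σ ∧
      (∀ α β ρ, (∃ g, M E B g ∧ Dg4 m g α β ρ) ↔ ∃ g, Dg4 m' g α β ρ) ∧
      (Sc (T : Subgroup G) B' ↔ ∀ P g, M E P g → ∀ x ∈ P, x ∈ B → g * x * g⁻¹ ∈ B) := by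
  have h := s.tw
  have k := s.co
  have k' := s'.co
  obtain ⟨f, -, -, hf⟩ := k.exists_hom k'
  replace hf : ∀ c y w a, ext1 f (m c y w a) = m' c y w a := fun c y w a =>
    (ext1_of_mem f (k.mem ..)).trans (hf ..)
  obtain ⟨ι, i1, i2, i3, i4⟩ := hom2 h s.t2 (mulOn_ext1 f) (B' := B') (fun x hx e => by
      obtain ⟨a, b, z, w, rfl⟩ := k.surj x hx
      exact k.eq_one.2 (k'.eq_one.1 (hf a b z w ▸ e))) (fun y => ⟨fun hy => by
      obtain ⟨a, b, z, w, rfl⟩ := k'.surj y hy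
      exact ⟨_, k.mem .., hf ..⟩, by
      rintro ⟨x, hx, rfl⟩
      obtain ⟨a, b, z, w, rfl⟩ := k.surj x hx
      exact hf a b z w ▸ k'.mem ..⟩) s'.BS s'.tS s'.idx s'.t2 s'.tw.t_not fun x hx => by
    obtain ⟨a, b, z, w, rfl⟩ := k.surj x hx
    rw [s.act, hf, hf, s'.act]
  obtain ⟨E, e⟩ := exists_rl hF i1 T i2
  have i5 : ∀ a b z w, ext1 ι (m a b z w) = m' a b z w := fun a b z w => (i3 _ (k.mem ..)).trans (hf ..)
  have mS : ∀ a b z w, m a b z w ∈ S := fun a b z w => h.BS (k.mem ..)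
  have mT : ∀ a b z w, m' a b z w ∈ (T : Subgroup G) := fun a b z w => s'.BS (k'.mem ..)
  refine ⟨ι, E, e, ⟨e.sat, s, ?_⟩, fun α β ρ => ⟨fun ⟨g, hg, d⟩ => ?_, fun ⟨γ, d⟩ => ?_⟩,
    e.sc_iff h.BS (fun x hx => ?_) s'.BS⟩
  · obtain ⟨n, hn⟩ := hn
    have mQ : ∀ y w a, m 0 y w a ∈ s.co.Q 0 := fun y w a => k.mem_Q.2 (zero_mul a).symm
    obtain ⟨g, hg, r⟩ := e.lift h.AS n fun x hx => by
      obtain ⟨y, w, a, rfl⟩ := k.exQ hx
      rw [zero_mul, i5, hn]; exact mT ..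
    exact ⟨g, hg, fun y w a => e.inj (hg.mem (mQ ..)) (mS ..) (by rw [r _ (mQ ..), i5, i5, hn])⟩
  · obtain ⟨γ, r⟩ := e.down hg
    exact ⟨γ, fun a b z w => by rw [← i5, ← r _ (k.mem ..), d, i5]⟩
  · obtain ⟨g, hg, r⟩ := e.lift h.BS γ fun x hx => by
      obtain ⟨a, b, z, w, rfl⟩ := k.surj x hx
      rw [i5, d]; exact mT ..
    exact ⟨g, hg, fun a b z w => e.inj (hg.mem (k.mem ..)) (mS ..) (by rw [r _ (k.mem ..), i5, i5, d])⟩
  · refine ⟨fun r => ?_, fun r => ?_⟩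
    · obtain ⟨a, b, z, w, r⟩ := k'.surj _ r
      exact e.inj hx (mS ..) (r.trans (i5 ..).symm) ▸ k.mem ..
    · obtain ⟨a, b, z, w, rfl⟩ := k.surj _ r
      exact i5 a b z w ▸ k'.mem ..

theorem sub4 (hFr : JobFr4.{u}) (s : Std4 F B m t σ) (s' : Std4 E B m t σ)
    (hP : ∀ α β ρ, α ≠ 0 → β ≠ 0 → (∃ g, M F B g ∧ Dg4 m g α β ρ) → ∃ g, M E B g ∧ Dg4 m g α β ρ)
    (hQ : ∀ P, F.IsEssential 2 P → ¬ P ≤ B → Aut F P ≤ Aut E P) : ∀ P g, M F P g → M E P g := by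
  obtain ⟨f1, -, f3⟩ := hFr K Ω S B F m t σ s
  obtain ⟨n, n1, n2⟩ := s.n
  obtain ⟨n', n1', n2'⟩ := s'.n
  refine (f1 n n1 n2).sub (top_of_ng s.sat s.t4.tw s.t4.t2 s.t4.ng) s'.sat
    (top_of_ng s'.sat s.t4.tw s.t4.t2 s.t4.ng) (n1'.congr (div_mem_Ct fun x hx => ?_)) (fun g hg r => ?_) hQ
  · obtain ⟨y, w, a, rfl⟩ := s.t4.co.exQ hx
    rw [zero_mul, n2, n2']
  · obtain ⟨c, c', ρ, c0, c0', d⟩ := f3 g hg r
    obtain ⟨g', hg', d'⟩ := hP c c' ρ c0 c0' ⟨g, M.of_Aut hg s.t4.BS, d⟩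
    refine hg'.congr (div_mem_Ct fun x hx => ?_)
    obtain ⟨c, y, w, a, rfl⟩ := s.t4.co.surj x hx
    rw [d, d']

theorem card_Y (k : Co B m) : Nat.card k.Y = Nat.card K * Nat.card K :=
  (card_of_param (fun v : K × K => m 0 v.1 v.2 0) (fun _ _ e => Prod.ext (k.inj e).2.1 (k.inj e).2.2.1)
    fun _ => ⟨fun r => let ⟨a, c, e⟩ := k.exY r; ⟨(a, c), e⟩,
      by rintro ⟨c, rfl⟩; exact k.mem_Y.2 ⟨rfl, rfl⟩⟩).trans (Nat.card_prod K K)

theorem card_B4 (k : Co B m) : Nat.card B = Nat.card K ^ 4 :=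
  (card_of_param (fun v : K × K × K × K => m v.1 v.2.1 v.2.2.1 v.2.2.2)
    (fun _ _ e => Prod.ext (k.inj e).1 (Prod.ext (k.inj e).2.1 (Prod.ext (k.inj e).2.2.1 (k.inj e).2.2.2)))
    fun _ => ⟨fun r => let ⟨a, b, c, d, e⟩ := k.surj _ r; ⟨(a, b, c, d), e⟩,
      by rintro ⟨c, rfl⟩; exact k.mem ..⟩).trans (by simp only [Nat.card_prod]; ring)

theorem aut_two (hK : Nat.card K = 2) (ρ : RingAut K) : ρ = 1 := RingEquiv.ext fun x => by
  have := Fintype.ofFinite K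
  have p : x ^ 2 = x := by simpa [← Nat.card_eq_fintype_card, hK] using FiniteField.pow_card x
  rcases eq_zero_or_one_of_sq_eq_self p with rfl | rfl <;> simp

theorem real4 (hFr : JobFr4.{u}) (hEn : JobEn.{u}) (hA : JobA6) (hM : JobM4) (hQ : JobQ3.{u})
    (hJ : ∀ (K : Type) [Field K] [Finite K] [CharP K 2] (σ : RingAut K), Nat.card K = 2 →
      ∃ (G : Type) (_ : Group G) (_ : Finite G) (T : Sylow 2 G) (B : Subgroup G) (m : K → K → K → K → G)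
        (t : G), T4 T B m t σ ∧ (∃ n, Sw4 m n) ∧ ¬ Sc T B ∧ Alt6 G)
    (s : Std4 F B m t σ) : Real F := by
  have h := s.t4.tw
  by_cases i : In F B
  · obtain ⟨Φ, hΦ⟩ := (hFr K Ω S B F m t σ s).2.1
    obtain ⟨G, _, _, T, B', m', t', s', n, hP, sc, al⟩ := hM hA K σ Φ s.t4.fr
    obtain ⟨ι, E, e, sE, pE, sc'⟩ := core4 s.sat s.t4 s' n
    have i' : In E B := in_of_sc hEn e.sat h s.t4.t2 s.t4.ng (sc'.1 sc)
    obtain rfl : F = E := s.sat.amb.fs_ext fun P g =>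
      ⟨sub4 hFr s sE (fun c c' ρ a b r => (pE ..).2 ((hP _ _ _ a b).2 ((hΦ _ _ _ a b).1 r)))
        (fun P hP r => (r (i P hP)).elim) P g,
        sub4 hFr sE s (fun c c' ρ a b r => (hΦ _ _ _ a b).2 ((hP _ _ _ a b).1 ((pE ..).1 r)))
        (fun P hP r => (r (i' P hP)).elim) P g⟩
    refine ⟨G, _, ‹_›, ι, e.re, ⟨T, e.rg⟩, .inr (.inr (.inr (al.elim (fun r => .inr (.inr r)) fun r =>
      .inl ⟨?_, .inl r.2⟩)))⟩
    rw [h.card_S, card_B4 s.t4.co, r.1]; rfl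
  have q : ∀ {X : FusionSystem S}, SatA 2 X → ∀ P, X.IsEssential 2 P → ¬ P ≤ B →
      Nat.card K = 2 ∧ P = Qx S (s.t4.co.Q 0 ⊓ s.t4.co.V) t := fun hX P hP r => by
    obtain ⟨r1, r2, -⟩ := (hEn Ω S B _ _ _ t hX h s.t4.t2 s.t4.ng P hP).resolve_left r
    rw [s.t4.inf_eq, card_Y] at r1
    exact ⟨Nat.mul_self_inj.1 r1, r2⟩
  have K2 : Nat.card K = 2 := by
    obtain ⟨P, r⟩ := not_forall.1 i
    exact (q s.sat P (Classical.not_imp.1 r).1 (Classical.not_imp.1 r).2).1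
  obtain ⟨G, _, _, T, B', m', t', s', n, sc, al⟩ := hJ K σ K2
  obtain ⟨ι, E, e, sE, -, sc'⟩ := core4 s.sat s.t4 s' n
  have i' : ¬ In E B := fun r => sc (sc'.2 (sc_of_in e.sat h r))
  have sub : ∀ {X Y : FusionSystem S}, Std4 X B m t σ → Std4 Y B m t σ → ¬ In Y B → ∀ P g, M X P g → M Y P g :=
    fun {X Y} x y iy => by
      obtain ⟨Φ, hΦ⟩ := (hFr K Ω S B Y m t σ y).2.1
      exact sub4 hFr x y (fun c c' ρ a b _ => (hΦ _ _ _ a b).2 (aut_two K2 ρ ▸ Φ.one_mem)) fun P hP r =>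
        (q x.sat P hP r).2 ▸ hQ hEn K Ω S B Y X m t σ s.t4 K2 y.sat x.sat iy
  obtain rfl : F = E := s.sat.amb.fs_ext fun P g => ⟨sub s sE i' P g, sub sE s i P g⟩
  exact ⟨G, _, ‹_›, ι, e.re, ⟨T, e.rg⟩, .inr (.inr (.inr (.inr (.inr al))))⟩

end four

theorem main (l1 : JobL1.{u}) (l2 : JobL2.{u}) (l4f : JobL4f.{u}) (l4n : JobL4n.{u}) (l4b : JobL4b.{u})
    (pg : JobPg) (sd : JobSd) (ds : JobDS.{u}) (eg : JobEg.{u}) (en : JobEn.{u}) (en0 : JobEn.{0})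
    (co3 : JobCO3.{u}) (co4 : JobCO4.{u}) (fr3 : JobFr3.{u}) (fr30 : JobFr3.{0}) (s3 : JobS3.{u})
    (s30 : JobS3.{0}) (s4 : JobS4.{u}) (s40 : JobS4.{0}) (fr4 : JobFr4.{u}) (m3 : JobM3) (a6 : JobA6)
    (m4 : JobM4) (j3m : JobJ3m) (j3n : JobJ3n) (q5 : JobQ5.{u}) (m33 : JobM33) (m33n : JobM33n)
    (q3 : JobQ3.{u}) : Main.{u} := fun Ω _ _ S F N h => by
  obtain ⟨q, B, R, A, A', X, t, b⟩ := l2 l1 Ω S F N h
  rcases l4b Ω S F q B R A A' X t b (l4n l4f Ω S F q B R A A' X t b) with c | ⟨x, c⟩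
  swap
  · exact ds pg sd Ω S F x c
  by_cases d : H52.zc B ⊓ Ct R = ⊥
  · obtain ⟨K, _, _, _, m, hK, p⟩ := co3 Ω S F q B R A A' t c d
    obtain ⟨m', t', σ, s, -⟩ := s3 fr3 K Ω S B F m t hK p
    exact real3 fr3 eg en m3 q5 (j3n en0 fr30 s30 j3m) hK s
  · obtain ⟨K, _, _, _, m, p⟩ := co4 Ω S F q B R A A' t c d
    obtain ⟨m', t', σ, s⟩ := s4 K Ω S B F m t p
    exact real4 fr4 en a6 m4 q3 (m33n s40 m33) s

end H87.HM
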