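/- Tower HM, slot L1: the maximal choice of `U` and the first block. -/
import Cfsg.Agent.H87.HMK

set_option autoImplicit false
set_option linter.unusedSectionVars false

namespace H87.HM
open Cfsg H93 Subgroup
open H92 hiding zc
open H96.CG (Bk key key_spec nor_le_of_char)
open H52 (zc)
open H98 (bm jt oz bm_le)

universe u

variable {Ω : Type u} [Group Ω] [Finite Ω] {S D P Q T U X : Subgroup Ω} {F N : FusionSystem S} {g : Ω}

theorem key_cj (g : Ω) (T : Subgroup Ω) : key (cj g T) = key T := by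
  have e1 : jt 2 (cj g T) = cj g (jt 2 T) := (H98.cj_jt g T).symm
  have e2 : bm 2 (cj g T) = cj g (bm 2 T) := (H98.cj_bm g T).symm
  have e3 := (H12.card_eq_of_mem_maxEA (H12.exists_mem_maxEA (p := 2) (cj g T)).choose_spec
    (H98.cj_mem_maxEA g (H12.exists_mem_maxEA (p := 2) T).choose_spec)).trans (card_cj g _)
  unfold key
  rw [e1, e2, e3, card_cj, card_cj, card_cj]

theorem M_bot (F : FusionSystem S) (g : Ω) : M F ⊥ g := M.of_Ct F bot_le (by simp)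

namespace Hyp
variable (h : Hyp F N)
include h

theorem exists_mx : ∃ U, Mx F N U := by
  have := Fact.mk Nat.prime_two
  obtain ⟨P, g, h1, h2⟩ := h.ne
  refine Set.exists_max_image {U | Bad F N U} (fun U => key (S ⊓ Nm U)) (Set.toFinite _) (by_contra fun n => h2 ?_)
  exact h.satF.sub_of_fcr (fun Q _ c _ a ha => by_contra fun r => n ⟨Q, fun e => r (e ▸ M_bot N a), c.1, Q, a,
    le_rfl, le_Nm Q, M.of_Aut ha c.1, ha.1, r⟩) P g h1

theorem top_of_le (l : S ⊓ Nm T ≤ T) (hT : T ≤ S) : T = S := by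
  have := Fact.mk Nat.prime_two
  exact by_contra fun n => (lt_Nm h.satF.pg (lt_of_le_of_ne hT n)).not_ge l

/-- A map carrying a subgroup into the centre along a map of `N` is a map of `N`. -/
theorem zn (hS : S ≠ ⊥) (hg : M F P g) (h1 : cj g⁻¹ (oz 2 S) ≤ P) (h2 : P ≤ Ct (cj g⁻¹ (oz 2 S)))
    (h3 : M N (cj g⁻¹ (oz 2 S)) g) : M N P g := by
  have := Fact.mk Nat.prime_two
  obtain ⟨k, hk, e⟩ := h.satN.ext_Ct h3 (by
    rw [cj_cj_inv]; exact h.satN.fc_of_fn (fn_of_le_Nm N (H98.oz_le S) (H98.le_normalizer_oz (le_Nm S))))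
  replace hk := hk.mono ((le_inf hg.le h2).trans le_sup_right)
  have e1 : cj k (cj g⁻¹ (oz 2 S)) = oz 2 S := (cj_congr e).trans (cj_cj_inv ..)
  simpa using hk.mul' (h.par _ (H98.oz_ne_bot h.satF.pg hS) (H98.oz_le S) (H98.le_normalizer_oz (Aut_le_Nm F S))
    (cj k P) (g * k⁻¹) (e1.ge.trans (cj_mono k h1)) ((h.le _ _ hk).inv.mul hg (cj_inv_cj ..).le)
    (mem_Nm.2 (by rw [cj_mul, (cj_eq_iff_eq_cj.1 e1).symm, cj_cj_inv])))

variable (m : Mx F N U)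
include m

omit h in
theorem mx (b : Bad F N D) (e : key T = key (S ⊓ Nm U)) (l : T ≤ S ⊓ Nm D) : T = S ⊓ Nm D :=
  eq_of_le_of_card_ge l (key_spec ((m.2 D b).trans e.ge) ((bm_le T).trans l)).2

theorem c (h1 : S ⊓ Nm (bm 2 (S ⊓ Nm U)) ≤ Nm D) (h2 : S ≤ Nm U → Aut F S ≤ Nm D) : ¬ Bad F N D := fun b => by
  have l : S ⊓ Nm (S ⊓ Nm U) ≤ S ⊓ Nm D :=
    le_inf inf_le_left ((inf_le_inf_left _ (H98.le_normalizer_bm le_rfl)).trans h1)
  have e := mx m b rfl ((le_inf inf_le_left (le_Nm _)).trans l)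
  obtain ⟨b1, b2, P, g, l1, -, m1, n1, r⟩ := b
  exact r (h.par D b1 b2 (h2 ((h.top_of_le (l.trans e.ge) inf_le_left).ge.trans inf_le_right)) P g l1 m1 n1)

theorem g1 (h1 : D ≤ bm 2 (S ⊓ Nm U)) (h2 : (D.subgroupOf (bm 2 (S ⊓ Nm U))).Characteristic) : ¬ Bad F N D :=
  h.c m (inf_le_right.trans (nor_le_of_char h1 h2)) fun l => (H98.le_normalizer_bm (T := S ⊓ Nm U)
    (by rw [inf_of_le_left l]; exact Aut_le_Nm F S)).trans (nor_le_of_char h1 h2)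

theorem hn (hg : M F (S ⊓ Nm U) g) : M N (S ⊓ Nm U) g := by
  have := Fact.mk Nat.prime_two
  have := h.satF.alperin' (fun P g => ∀ k, M N (S ⊓ Nm U) k → cj k (S ⊓ Nm U) ≤ P → M N (cj k (S ⊓ Nm U)) g)
    (fun P Q g g' _ c l e k hk l' => (c k hk (l'.trans l)).congr (Ct_anti l' e))
    (fun P Q g g' _ c _ c' l k hk l' => (c k hk l').mul' (cj_mul g k _ ▸ c' _ (hk.mul' (c k hk l'))
      (by rw [cj_mul]; exact (cj_mono g l').trans l))) (fun P hP _ a ha k hk l => ?_) _ g hg 1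
    (M.one N inf_le_left) (cj_one _).le
  · rwa [cj_one] at this
  have PS : P ≤ S := hP.elim le_of_eq fun e => e.1.1
  refine M.mono (by_contra fun r => ?_) l
  have n : P ≠ ⊥ := fun e => r (e ▸ M_bot N a)
  have e := mx m ⟨n, PS, P, a, le_rfl, le_Nm P, M.of_Aut ha PS, ha.1, r⟩ (key_cj k _)
    (l.trans (le_inf PS (le_Nm P)))
  obtain rfl := h.top_of_le (e.ge.trans l) PS
  exact r (h.par P n le_rfl (Aut_le_Nm F P) P a le_rfl (M.of_Aut ha PS) ha.1)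

theorem fn : F.IsFullyNormalized U := by
  have := Fact.mk Nat.prime_two
  obtain ⟨b1, b2, P, g, l1, l2, m1, n1, r⟩ := m.1
  obtain ⟨φ, hφ, f⟩ := h.satF.to_fn b2
  have PT : P ≤ S ⊓ Nm U := le_inf m1.le l2
  have PT' : cj g P ≤ S ⊓ Nm U := le_inf m1.cj_le ((cj_mono g l2).trans (cj_eq_of_Nm (mem_Nm_Nm n1)).le)
  have e := mx m ⟨mt cj_eq_bot.1 b1, f.1, cj φ P, _, cj_mono φ l1, (cj_mono φ l2).trans (cj_Nm φ U).le,
    m1.conj hφ PT PT', conj_mem_Nm_cj φ n1, fun c => r (by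
      simpa [mul_assoc] using c.conj (h.hn m hφ).inv (cj_mono φ PT) (by
        rw [← cj_mul, inv_mul_cancel_right, cj_mul]; exact cj_mono φ PT'))⟩ (key_cj φ _) hφ.cj_Nm_le
  simpa using M.fn_cj f (hφ.inv' e)

variable (x : Md F U X)
include x

theorem centric : F.IsCentric (pCoreOf 2 X) := by
  have := Fact.mk Nat.prime_two
  have QT := x.syl.pCoreOf_le
  have UT : U ≤ S ⊓ Nm U := le_inf m.1.2.1 (le_Nm U)
  have UQ : U ≤ pCoreOf 2 X := H98.le_pCoreOf (h.satF.pgl m.1.2.1) (UT.trans x.syl.le) x.le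
  refine h.satF.amb.centric_iff.2 ⟨QT.trans inf_le_left, fun φ hφ s hs => ?_⟩
  obtain ⟨ψ, hψ, e⟩ := h.satF.to_fn' (hφ.mono UQ).inv (by rw [cj_inv_cj]; exact h.fn m)
  rw [cj_inv_cj] at e
  obtain ⟨y, hy, e'⟩ := x.real _ (ψ * φ) UQ (QT.trans inf_le_right) (hφ.mul hψ (le_inf hφ.cj_le
    ((cj_mono φ (QT.trans inf_le_right)).trans (cj_Nm φ U).le))) (mem_Nm.2 (by rw [cj_mul, e]))
  have e1 : cj ψ (cj φ (pCoreOf 2 X)) = pCoreOf 2 X := by
    rw [← cj_mul, ← cj_congr e', cj_eq_of_Nm (H98.le_normalizer_pCoreOf (le_Nm X) hy)]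
  have := hψ.mem_Ct (P := cj φ (pCoreOf 2 X)) ⟨hs.1, Ct_le_Nm _ (Ct_anti (cj_mono φ UQ) hs.2)⟩ hs.2
  rw [e1] at this
  rw [← conj_mem_cj_iff (g := ψ), e1]
  exact x.ch ⟨x.syl.le ⟨this.1, Ct_le_Nm _ (Ct_anti UQ this.2)⟩, this.2⟩

theorem not_le : ¬ X ≤ Aut N (pCoreOf 2 X) := fun l => by
  have := Fact.mk Nat.prime_two
  have QT := x.syl.pCoreOf_le
  have QS := QT.trans inf_le_left
  have c := h.centric m x
  obtain ⟨b1, b2, P, g, l1, l2, m1, n1, r⟩ := m.1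
  obtain ⟨y, hy, e⟩ := x.real P g l1 l2 m1 n1
  have nQ : X ≤ Nm (pCoreOf 2 X) := H98.le_normalizer_pCoreOf (le_Nm X)
  have PT : P ≤ S ⊓ Nm U := le_inf m1.le l2
  have PT' : cj y P ≤ S ⊓ Nm U := (cj_congr e).le.trans
    (le_inf m1.cj_le ((cj_mono g l2).trans (cj_eq_of_Nm (mem_Nm_Nm n1)).le))
  have k : ∀ {P}, P ≤ S ⊓ Nm U → P ≤ S ⊓ Nm (pCoreOf 2 X) := fun l =>
    le_inf (l.trans inf_le_left) (l.trans (x.syl.le.trans nQ))
  have ey := cj_eq_of_Nm (nQ hy)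
  obtain ⟨w, hw, e'⟩ := h.satN.ext' (M.of_Aut (l hy) QS) (by
    rw [ey]
    exact h.satN.amb.fc_iff.2 ⟨QS, fun φ hφ => by
      have := card_le_of_cj_le (g := φ⁻¹) (P := S ⊓ Ct (cj φ (pCoreOf 2 X))) (Q := S ⊓ Ct (pCoreOf 2 X))
        (cj_le_iff.2 fun s hs => by
          simpa using hφ.inv.mem_Ct (centric_Ct_le ((h.le _ _ hφ).centric_cj c) hs) hs.2)
      exact this⟩) (k PT) (by rw [ey]; exact (k PT').trans le_sup_left)
  obtain ⟨z, hz, e2⟩ := h.satF.eq_of_centric c le_sup_left (h.le _ _ hw)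
    (x.mor _ y hy (sup_le QT PT) (by rw [cj_sup, ey]; exact sup_le QT PT')) (div_symm e')
  have := M.mul_mem (P := pCoreOf 2 X ⊔ P) (c := z) (by rwa [cj_eq_of_mem (mem_sup_left hz.1)]) (QS hz.1) hw.le
  exact r (((this.congr e2).mono le_sup_right).congr' e)

end Hyp

theorem jobL1 : JobL1.{u} := fun Ω _ _ S F N h => ⟨h.exists_mx, fun U m => ⟨h.fn m, fun _ => h.c m, by
  have := Fact.mk Nat.prime_two
  obtain ⟨X, x⟩ := h.mdl U m.1.1 (h.fn m)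
  have hS : S ≠ ⊥ := fun e => m.1.1 (le_bot_iff.1 (m.1.2.1.trans e.le))
  have QT := x.syl.pCoreOf_le
  have QS := QT.trans inf_le_left
  have nQ : X ≤ Nm (pCoreOf 2 X) := H98.le_normalizer_pCoreOf (le_Nm X)
  have zc' : ∀ {P}, P ≤ S → oz 2 S ≤ Ct P := fun l => (H98.oz_le_centralizer S).trans (Ct_anti l)
  have ZT : oz 2 S ≤ S ⊓ Nm U := le_inf (H98.oz_le S) ((zc' m.1.2.1).trans (Ct_le_Nm U))
  have ZQ : oz 2 S ≤ pCoreOf 2 X := x.ch.le_pCoreOf (ZT.trans x.syl.le) (zc' QS)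
  have mQ : ∀ g ∈ X, M F (pCoreOf 2 X) g := fun g hg => x.mor _ g hg QT ((cj_eq_of_Nm (nQ hg)).le.trans QT)
  have c : H98.CX 2 X (S ⊓ Nm U) (Aut N (pCoreOf 2 X)) := ⟨x.ch, x.syl, fun g hg =>
    (h.par _ (H98.oz_ne_bot h.satF.pg hS) (H98.oz_le S) (H98.le_normalizer_oz (Aut_le_Nm F S)) _ g ZQ (mQ g hg.1)
      (Ct_le_Nm _ (Ct_anti (H98.le_oz (H98.ea_oz S) ZT (zc' inf_le_left)) hg.2))).mem_Aut (nQ hg.1),
    fun C c1 c2 c3 g hg => by
      have l : pCoreOf 2 X ⊔ C ≤ S ⊓ Nm U := sup_le QT (c1.trans (bm_le _))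
      refine M.mem_Aut (M.mono (by_contra fun r => h.g1 m c1 c3 ⟨c2, le_sup_right.trans (l.trans inf_le_left), _, g,
        le_sup_right, l.trans ((H98.le_normalizer_bm (le_Nm _)).trans (nor_le_of_char c1 c3)),
        x.mor _ g hg.1 l ((cj_eq_of_Nm (mem_Nm_sup (nQ hg.1) hg.2)).le.trans l), hg.2, r⟩) le_sup_left) (nQ hg.1)⟩
  obtain ⟨q, L, Y, l, n, y⟩ := c.exists_yd (h.not_le m x)
  have k : Bk q _ _ _ _ := ⟨L, Y, y, rfl, rfl, rfl⟩
  have RX := (H98.res_le (p := 2) L).trans l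
  generalize H98.res 2 L = R at *
  generalize H52.Vv 2 L = A at *
  refine ⟨X, _, q, R, A, _, x, c, RX, n, k, fun g hg => ?_, by_contra fun r => n fun f hf => ?_⟩
  · have l : bm 2 (S ⊓ Nm U) ⊓ Ct A ≤ S ⊓ Nm U := inf_le_left.trans (bm_le _)
    refine x.mor _ g (RX hg) l (le_trans (cj_eq_of_Nm ?_).le l)
    exact k.O_eq ▸ H98.le_normalizer_pCoreOf (le_Nm _) (mem_sup_left hg)
  · have ZA : oz 2 S ≤ A := (le_inf (le_inf ZT (zc' ((H98.oz_le _).trans ((H98.jt_le _).trans inf_le_left))))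
      (zc' ((bm_le _).trans inf_le_left))).trans k.tri.zA
    refine (h.zn hS (mQ f (RX hf)) ((cj_mono _ ZQ).trans (cj_eq_of_Nm (inv_mem (nQ (RX hf)))).le) ?_
      (M.mono (by_contra fun c => r ⟨f, hf, c⟩) ((cj_mono _ ZA).trans (cj_eq_of_Nm (inv_mem (k.RA hf))).le))).mem_Aut
      (nQ (RX hf))
    rw [← cj_Ct, ← cj_eq_of_Nm (inv_mem (nQ (RX hf)))]
    exact cj_mono _ (le_Ct_comm.1 (zc' QS))⟩⟩

end H87.HM
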