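/- Tower HM, slot L2, part 1: a block with one class of sides is normal in the model. -/
import Cfsg.Agent.H96.GLU

set_option autoImplicit false

namespace H87.HM

open Subgroup Cfsg H98 H96 H96.CG
open H52 (Vv Cv zc)
open scoped commutatorElement

universe u

variable {G : Type u} [Group G] [Finite G] {q : ℕ} {R A A' M S X : Subgroup G}

theorem cx_ls (x : CX 2 X S M) (c : Cl q (bm 2 S)) (k : Bk q (bm 2 S) R A A') (h4 : R ≤ X) (hR : ¬ R ≤ M)
    (g : A ⊔ A' = bm 2 S) : LS (bm 2 S) R X := by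
  obtain ⟨E, hE, hRE⟩ := inSB _ S M x R h4 (x.block h4 k.blk hR) hR
  refine ⟨x.cH, ?_, S, x.syl, rfl⟩
  suffices R = E from this ▸ hE
  obtain ⟨L, Y, y, rfl, eA, eA'⟩ := id k
  rcases bc_cases x.cH x.syl hE.sub.le (hE.block x.cH x.syl) with ⟨F, _, _, n, z, ρ, hF, d, -⟩ |
    ⟨-, m, z, ρ, hm, d, hr, hα, -, hQ⟩
  · exact d.eq_of_blk (d.blk hF) hRE (res_res L) y.comm fun e => hR (e.le.trans bot_le)
  have alt := hr ▸ z.bar_eq_map (nn_bU le_normalizer) ρ _ hα
  refine alt_eq x d hm alt y hRE hR ?_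
  refine c.le_of fun t t' o => ?_
  rcases k.tri.op.cmp o with e | e | e
  · exact (le_inf o.le (e.1.le.trans (cen_symm (k.le_cenA d.U_le_bm (nrm_bU (hRE.trans le_normalizer))
      (nrm_bU d.nB))))).trans le_sup_right
  · exact (e.1.trans eA').le.trans
      (sup_le_sup_left (inf_le_inf_left _ (centralizer_anti d.U_le_bm)) _)
  · exact (k.tri.op.of_sup g o e).elim

theorem cx_le_nor (x : CX 2 X S M) (c : Cl q (bm 2 S)) (k : Bk q (bm 2 S) R A A') (h4 : R ≤ X) (hR : ¬ R ≤ M)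
    (g : A ⊔ A' = bm 2 S) : X ≤ nor R :=
  (cx_ls x c k h4 hR g).le_nor k fun _ hn => k.tri.op.of_sup g (k.tri.op.cj_of_mem hn.2)

end H87.HM
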