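/- Tower HM, slot L2: two opposite blocks interchanged by an element of `S`. -/
import Cfsg.Agent.H87.HML1
import Cfsg.Agent.H87.HML2a
import Cfsg.Agent.H87.HMBg
import Cfsg.Agent.H1.F2B

set_option autoImplicit false
set_option linter.unusedSectionVars false

namespace H87.HM
open Cfsg H93 Subgroup
open H92 hiding zc
open H96.CG (Bk Cl Op cl_of)
open H52 (zc)
open H98 (bm bm_le)
open scoped commutatorElement

universe u

variable {Ω : Type u} [Group Ω] [Finite Ω] {S B R R' A A' H U V X : Subgroup Ω} {F N : FusionSystem S}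
  {q q' : ℕ} {g : Ω}

theorem bk_mv (k : Bk q B R A A') : ∃ f ∈ R, ∀ z ∈ zc B, z ∉ Ct R → f * z * f⁻¹ ∈ A ∧ f * z * f⁻¹ ∉ zc B := by
  obtain ⟨f, hf, f1, e⟩ := k.exists_opp
  refine ⟨f, hf, fun z hz z1 => ⟨conj_mem_of_Nm (k.RA hf) (k.tri.zA hz), fun r => z1 ?_⟩⟩
  have : f * z * f⁻¹ ∈ Ct R := ((k.opp (le_sup_right.trans e.le) f1).1.le ⟨r, conj_mem_cj f hz⟩).2
  have e' := conj_eq_of_Ct' (le_Ct_comm.1 (zpowers_le.2 this) hf) (mem_zpowers _)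
  rw [← e'] at this
  simpa only [mul_assoc, inv_mul_cancel_left, inv_mul_cancel, mul_one] using this

theorem NS.two (n : NS F) (k : Bk q B R A A') (k' : Bk q' B R' A' A) (h1 : V ≠ ⊥) (h2 : V ≤ S) (h3 : B ≤ S ⊓ Nm V)
    (h4 : ∀ f ∈ R, ∀ z ∈ zc B, f ∈ Nm V ∧ M F (V ⊔ zpowers z) f)
    (h5 : ∀ f ∈ R', ∀ z ∈ zc B, f ∈ Nm V ∧ M F (V ⊔ zpowers z) f) : False := by
  obtain ⟨f, hf, r⟩ := bk_mv k
  obtain ⟨f', hf', r'⟩ := bk_mv k'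
  refine n V h1 h2 {a | a ∈ A ∧ a ∉ zc B} {a | a ∈ A' ∧ a ∉ zc B} k.tri.exists_not_mem k'.tri.exists_not_mem
    (fun r => r.2 (one_mem _)) (fun a ha => h3 (k.tri.AB ha.1)) (fun a ha => h3 (k.tri.AB' ha.1)) fun a ha a' ha' => ?_
  have hz := k.tri.comm a ha.1 a' ha'.1
  exact ⟨⟨_, r _ hz fun c => (k.tri.reg a ha.1 a' ha'.1 ⟨hz.1, c⟩).elim ha.2 ha'.2, f, (h4 f hf _ hz).1,
    (h4 f hf _ hz).2, rfl⟩, _, r' _ hz fun c => (k'.tri.reg a' ha'.1 a ha.1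
      (comm_swap (mem_inf.2 ⟨hz.1, c⟩))).elim ha'.2 ha.2, f', (h5 f' hf' _ hz).1, (h5 f' hf' _ hz).2, rfl⟩

theorem FB.dd (n : NS F) (hB : B ≤ S) (b : FB F N q B R A A') (b' : FB F N q' B R' A' A) :
    zc B ⊓ Ct R ⊓ Ct R' = ⊥ := by_contra fun e => by
  have l : zc B ⊓ Ct R ⊓ Ct R' ≤ zc B := inf_le_left.trans inf_le_left
  have k : ∀ {q R A A'}, FB F N q B R A A' → ∀ {V}, V ≤ zc B → V ≤ Ct R →
      ∀ f ∈ R, ∀ z ∈ zc B, f ∈ Nm V ∧ M F (V ⊔ zpowers z) f := fun b _ l l' f hf z hz =>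
    ⟨Ct_le_Nm _ (le_Ct_comm.1 l' hf), (b.mor f hf).mono ((sup_le l (zpowers_le.2 hz)).trans
      (inf_le_inf_left _ (Ct_anti b.bk.tri.AB)))⟩
  exact n.two b.bk b'.bk e (l.trans (inf_le_left.trans hB))
    (le_inf hB ((le_Ct_comm.1 (l.trans inf_le_right)).trans (Ct_le_Nm _)))
    (k b l (inf_le_left.trans inf_le_right)) (k b' l inf_le_right)

theorem FB.cj (b : FB F N q B R A A') (hB : B ≤ S) (hg : g ∈ Aut F B) (hN : M N B g⁻¹) :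
    FB F N q B (cj g R) (cj g A) (cj g A') := by
  refine ⟨b.bk.cj_of_mem hg.1, fun r hr => ?_, ?_⟩
  · replace hr := mem_cj_iff_exists.1 hr
    obtain ⟨r, hr, rfl⟩ := hr
    have n : r ∈ Nm (B ⊓ Ct A) := b.bk.O_eq ▸ H98.le_normalizer_pCoreOf (le_Nm _) (mem_sup_left hr)
    have := (b.mor r hr).conj (M.of_Aut hg hB) inf_le_left ((cj_eq_of_Nm n).le.trans inf_le_left)
    rwa [cj_inf, cj_eq_of_Nm hg.1, cj_Ct] at this
  · obtain ⟨r, hr, n⟩ := b.out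
    have l := (cj_mono g b.bk.tri.AB).trans (cj_eq_of_Nm hg.1).le
    exact ⟨_, conj_mem_cj g hr, fun c => n (by
      simpa [mul_assoc] using c.conj hN l ((cj_eq_of_Nm (conj_mem_Nm_cj g (b.bk.RA hr))).le.trans l))⟩

theorem bk_ne (k : Bk q B R A A') : A ≠ ⊥ := fun e => k.tri.not_le (e ▸ bot_le)

section
variable (m : Mx F N U) (l : L1 F N U)
include m l

theorem L1.autB (hB : bm 2 (S ⊓ Nm U) ≠ ⊥) (hg : g ∈ Aut F (bm 2 (S ⊓ Nm U))) : M N (bm 2 (S ⊓ Nm U)) g :=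
  have BS := (bm_le _).trans inf_le_left
  by_contra fun r => l.c _ inf_le_right (fun e => H98.le_normalizer_bm (T := S ⊓ Nm U)
    (by rw [inf_of_le_left e]; exact Aut_le_Nm F S)) ⟨hB, BS, _, g, le_rfl, le_Nm _, M.of_Aut hg BS, hg.1, r⟩

theorem L1.opp (b : FB F N q (bm 2 (S ⊓ Nm U)) R A A') : ∃ R', FB F N q (bm 2 (S ⊓ Nm U)) R' A' A := by
  have BS : bm 2 (S ⊓ Nm U) ≤ S := (bm_le _).trans inf_le_left
  have hB : bm 2 (S ⊓ Nm U) ≠ ⊥ := fun e => bk_ne b.bk (le_bot_iff.1 (b.bk.tri.AB.trans e.le))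
  have au := fun g => l.autB m (g := g) hB
  have c := l.c
  have nS : S ≤ Nm U → Aut F S ≤ Nm (bm 2 (S ⊓ Nm U)) := fun e => H98.le_normalizer_bm (T := S ⊓ Nm U)
    (by rw [inf_of_le_left e]; exact Aut_le_Nm F S)
  generalize bm 2 (S ⊓ Nm U) = B at *
  by_contra n
  let W := sSup {s | ∃ q R s', FB F N q B R s s'}
  have l1 : A ≤ W := le_sSup ⟨_, _, _, b⟩
  have l2 : W ≤ B ⊓ Ct A := sSup_le (by
    rintro s ⟨q₁, R₁, s', b₁⟩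
    refine le_inf b₁.bk.tri.AB ?_
    rcases b.bk.tri.op.cmp b₁.bk.tri.op with e | e | e
    · exact e.1.le.trans (H12.ea_le_centralizer b.bk.tri.eA)
    · obtain ⟨rfl, rfl⟩ := e
      exact (n ⟨R₁, b.bk.tri.symm.q_eq b₁.bk.tri ▸ b₁⟩).elim
    · exact e.1)
  have l3 : Aut F B ≤ Nm W := fun g hg => mem_Nm_of_le (cj_le_iff_le_cj.2 (sSup_le (by
    rintro s ⟨q₁, R₁, s', b₁⟩
    exact cj_le_iff_le_cj.1 (le_sSup ⟨_, _, _, b₁.cj BS hg (au _ (inv_mem hg))⟩))))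
  obtain ⟨r, hr, o⟩ := b.out
  exact c W ((Nm_le_Aut F B).trans l3) (fun e g hg => l3 (mem_Aut_of_le hg le_rfl BS (nS e hg)))
    ⟨fun e => bk_ne b.bk (le_bot_iff.1 (l1.trans e.le)), l2.trans (inf_le_left.trans BS), W, r, le_rfl, le_Nm W,
      (b.mor r hr).mono l2, b.bk.le_nor (b.bk.V_le.trans l1) (l2.trans (inf_le_left.trans b.bk.nR))
        (l2.trans (inf_le_right.trans (Ct_anti b.bk.V_le))) hr, fun c => o (c.mono l1)⟩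

theorem L1.stage (h : Hyp F N) (x : Md F U X) (c : H98.CX 2 X (S ⊓ Nm U) H) (RX : R ≤ X) (n : ¬ R ≤ H)
    (b : FB F N q (bm 2 (S ⊓ Nm U)) R A A') : Cl q (bm 2 (S ⊓ Nm U)) ∧ A ⊔ A' = bm 2 (S ⊓ Nm U) ∧
      Bad F N A ∧ S ⊓ Nm U = S ⊓ Nm A := by
  have BT : bm 2 (S ⊓ Nm U) ≤ S ⊓ Nm U := bm_le _
  have BS := BT.trans inf_le_left
  have cl := cl_of b.bk fun C c1 c2 c3 r => n ((le_inf RX r).trans (c.h2 C c1 c2 c3))
  obtain ⟨R', b'⟩ := l.opp m b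
  have TB : S ⊓ Nm U ≤ Nm (bm 2 (S ⊓ Nm U)) := H98.le_normalizer_bm (le_Nm _)
  generalize bm 2 (S ⊓ Nm U) = B at *
  have e : A ⊔ A' = B := by_contra fun e => cl.Ph_ne (b.bk.tri.op.k2 e) b.bk.tri.op (le_bot_iff.1
    ((le_inf (le_inf (cl.Ph_le A) (b.bk.tri.Ph_le.trans inf_le_right))
      (b.bk.tri.op.Ph_eq.ge.trans (b'.bk.tri.Ph_le.trans inf_le_right))).trans (b.dd h.ns BS b').le))
  have u : Bg q B R A A' := ⟨b.bk, e⟩
  have k : ∀ {R A A'}, Bk q B R A A' → R ≤ X → ∀ f ∈ R, ∀ z ∈ zc B, f ∈ Nm U ∧ M F (U ⊔ zpowers z) f :=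
    fun k RX f hf z hz => have UT := le_inf m.1.2.1 (le_Nm U)
      ⟨x.le (RX hf), x.mor _ f (RX hf) (sup_le UT (zpowers_le.2 (BT hz.1))) (by
        rw [cj_sup, cj_zpowers, cj_eq_of_Nm (x.le (RX hf))]
        exact sup_le UT (zpowers_le.2 (BT (k.tri.AB (conj_mem_of_Nm (k.RA hf) (k.tri.zA hz))))))⟩
  have TA : S ⊓ Nm U ≤ Nm A := fun s hs => ((u.perm (TB hs)).resolve_right fun r => by
    have k' : Bk q B (cj s R) (cj s A) (cj s A') := b.bk.cj_of_mem (TB hs)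
    rw [r.1, r.2] at k'
    exact h.ns.two b.bk k' m.1.1 m.1.2.1 BT (k b.bk RX) (k k' (cj_le_of_mem (x.syl.le hs) RX))).1
  obtain ⟨r, hr, o⟩ := b.out
  have bad : Bad F N A := ⟨bk_ne b.bk, b.bk.tri.AB.trans BS, A, r, le_rfl, le_Nm A,
    (b.mor r hr).mono u.cenA.ge, b.bk.RA hr, o⟩
  exact ⟨cl, e, bad, Hyp.mx m bad rfl (le_inf inf_le_left TA)⟩

end

theorem jobL2 : JobL2.{u} := fun J Ω _ _ S F N h => by
  have := Fact.mk Nat.prime_two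
  obtain ⟨⟨U, m⟩, J⟩ := J Ω S F N h
  obtain ⟨X₀, H₀, q₀, R₀, A, A', x₀, c₀, RX₀, n₀, b₀⟩ := (J U m).d
  obtain ⟨-, e₀, bad, eT⟩ := (J U m).stage m h x₀ c₀ RX₀ n₀ b₀
  have m' : Mx F N A := ⟨bad, eT ▸ m.2⟩
  have l := J A m'
  obtain ⟨X, H, q, R, A₁, A₁', x, c, RX, n, b⟩ := l.d
  rw [eT] at b₀ e₀
  obtain ⟨rfl, rfl⟩ : A₁ = A ∧ A₁' = A' := by
    rcases b₀.bk.tri.op.cmp b.bk.tri.op with e | ⟨rfl, rfl⟩ | e
    · exact e
    · exact (b₀.bk.tri.not_le_cen (b.bk.le_cenA b₀.bk.tri.AB (RX.trans x.le) b₀.bk.tri.nA)).elim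
    · exact (b₀.bk.tri.op.of_sup e₀ b.bk.tri.op e).elim
  obtain ⟨cl, e, -, -⟩ := l.stage m' h x c RX n b
  have u : Bg q _ R A₁ A₁' := ⟨b.bk, e⟩
  have BS : bm 2 (S ⊓ Nm A₁) ≤ S := (bm_le _).trans inf_le_left
  have nT : S ⊓ Nm A₁ ≠ S := fun e => by
    have SA := e.ge.trans inf_le_right
    refine l.c A₁ (inf_le_left.trans SA) (fun _ g hg => H1.F2.sq_trick h.satF hg SA
      ((Ct_anti bad.2.1).trans (Ct_le_Nm _)) ?_) bad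
    rcases u.perm (H98.le_normalizer_bm (T := S ⊓ Nm A₁) (by rw [e]; exact Aut_le_Nm F S) hg) with r | r
    · exact mul_mem r.1 r.1
    · exact mem_Nm.2 (by rw [cj_mul, r.1, r.2])
  obtain ⟨t, ht, t1⟩ := SetLike.exists_of_lt (lt_Nm h.satF.pg (lt_of_le_of_ne inf_le_left nT))
  have tB := H98.le_normalizer_bm (p := 2) le_rfl ht.2
  obtain ⟨sw, sw'⟩ := (u.perm tB).resolve_left fun r => t1 ⟨ht.1, r.1⟩
  have b' := b.cj BS (Nm_le_Aut F _ ⟨ht.1, tB⟩) (M.of_mem N BS (inv_mem ht.1))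
  rw [sw, sw'] at b'
  exact ⟨q, _, R, A₁, A₁', X, t, h.satF, h.ns, b.bk, e, x, rfl, RX, cx_le_nor c cl b.bk RX n e, ht.1, sw, sw',
    b.dd h.ns BS b'⟩

end H87.HM
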