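/- Tower HM, slot L4n: the normalizer of the side is `B`. -/
import Cfsg.Agent.H87.HMBg

set_option autoImplicit false
set_option linter.unusedSectionVars false

namespace H87.HM
open Cfsg H93 Subgroup
open H92 hiding zc
open H96.CG (Bk Tri ea_sq ea_com)
open H52 (zc)
open scoped commutatorElement

universe u

variable {Ω : Type u} [Group Ω] [Finite Ω] {S B R A A' X : Subgroup Ω} {F : FusionSystem S} {q : ℕ}
  {a b c f g s t x y z : Ω}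

theorem exists_sq_mem (hx : x ∉ B) : ∀ n : ℕ, x ^ 2 ^ n ∈ B → ∃ k : ℕ, x ^ 2 ^ k ∉ B ∧ x ^ 2 ^ k * x ^ 2 ^ k ∈ B
  | 0, h => (hx (by simpa using h)).elim
  | n + 1, h => by
    by_cases r : x ^ 2 ^ n ∈ B
    · exact exists_sq_mem hx n r
    · exact ⟨n, r, by rwa [pow_succ, pow_mul, sq] at h⟩

/-- Two involutions are conjugate up to a `2`-element. -/
theorem dihedral (hf : f * f = 1) (hg : g * g = 1) : ∃ w ∈ zpowers (g * f), ∃ v ∈ zpowers (g * f),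
    (∃ n : ℕ, v ^ 2 ^ n = 1) ∧ w⁻¹ * g * w = v * f := by
  have := Fact.mk Nat.prime_two
  obtain ⟨v, o, hv, ho, h2, c, e⟩ := exists_parts 2 (g * f)
  obtain ⟨k, hk⟩ : Odd (orderOf o) := Nat.coprime_two_right.1 c
  have w := pow_mem ho (k + 1)
  refine ⟨_, w, v, hv, h2, ?_⟩
  have e1 : o ^ (k + 1) * o ^ (k + 1) = o := by
    rw [← pow_add, show k + 1 + (k + 1) = 2 * k + 1 + 1 by ring, ← hk, pow_succ, pow_orderOf_eq_one, one_mul]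
  generalize o ^ (k + 1) = u at w e1
  have i : f * u * f⁻¹ = u⁻¹ := by
    obtain ⟨j, rfl⟩ := w
    rw [← conj_zpow, ← inv_zpow, mul_inv_rev, inv_of_sq hf, inv_of_sq hg, mul_assoc, mul_assoc, hf, mul_one]
  have cm : Commute u v := by
    obtain ⟨j, rfl⟩ := w
    obtain ⟨j', rfl⟩ := hv
    exact Commute.zpow_zpow_self ..
  have e2 : g = v * (u * u) * f⁻¹ := by rw [e1, ← e]; simp
  rw [e2, inv_of_sq hf, show u⁻¹ * (v * (u * u) * f) * u = u⁻¹ * v * u * (u * (f * u * f⁻¹)) * f by group, i,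
    mul_assoc u⁻¹, ← cm.eq]
  simp

namespace Bl
variable (J : JobL4f.{u}) (h : Bl F q B R A A' X t)
include J h

theorem freeB (hs : s ∈ S ⊓ Nm A) (s1 : s ∉ B) (s2 : s * s ∈ B) (hb : b ∈ B) (r : ⁅b, s⁆ ∈ zc B) :
    ∃ c ∈ B, b * ⁅c, s⁆ ∈ zc B := by
  have u := h.bg
  obtain ⟨j1, j2, -⟩ := J Ω S F q B R A A' X t h s hs s1 s2
  obtain ⟨a, ha, a', ha', rfl⟩ := u.dec hb
  have n := nZ (le_Nm B (u.tri.AB ha))
  rw [show ⁅a * a', s⁆ = a * ⁅a', s⁆ * a⁻¹ * ⁅a, s⁆ by simp only [commutatorElement_def]; group] at r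
  have m := conj_mem_of_Nm (u.tri.symm.nA (u.tri.AB ha)) (comm_mem_of (h.TA' hs) ha')
  have r1 : ⁅a, s⁆ ∈ zc B := u.tri.inf_eq.le ⟨comm_mem_of hs.2 ha, (mul_mem_cancel_left m).1 (u.tri.zA' r)⟩
  obtain ⟨c, hc, e⟩ := j1 a ha r1
  obtain ⟨c', hc', e'⟩ := j2 a' ha' (by
    simpa [mul_assoc] using conj_mem_of_Nm' n ((mul_mem_cancel_right r1).1 r))
  refine ⟨c * c', mul_mem (u.tri.AB hc) (u.tri.AB' hc'), ?_⟩
  rw [show a * a' * ⁅c * c', s⁆ = a * (⁅a', c⁆ * (c * (a' * ⁅c', s⁆) * c⁻¹)) * a⁻¹ * (a * ⁅c, s⁆) by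
    simp only [commutatorElement_def]; group]
  exact mul_mem (conj_mem_of_Nm n (mul_mem (comm_swap (u.tri.comm c hc a' ha'))
    (conj_mem_of_Nm (nZ (le_Nm B (u.tri.AB hc))) e'))) e

theorem exists_inv (n : ¬ S ⊓ Nm A ≤ B) : ∃ f ∈ S ⊓ Nm A, f ∉ B ∧ f * f = 1 := by
  have u := h.bg
  obtain ⟨x, hx, x1⟩ := SetLike.not_le_iff_exists.1 n
  obtain ⟨k, hk⟩ := H98.T2.of_mem h.sat.pg hx.1
  obtain ⟨j, s1, s2⟩ := exists_sq_mem x1 k (hk ▸ one_mem _)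
  have hs := pow_mem hx (2 ^ j)
  generalize x ^ 2 ^ j = s at s1 s2 hs
  obtain ⟨c, hc, e⟩ := h.freeB J hs s1 s2 s2 (by simp [commutatorElement_def, mul_assoc])
  have m := mul_mem (h.BT hc) hs
  have m1 : c * s ∉ B := mt (mul_mem_cancel_left hc).1 s1
  have m2 : c * s * (c * s) ∈ zc B := by
    rw [show c * s * (c * s) = (s * s)⁻¹ * (s * s * ⁅c, s⁆ * (s * (c * c) * s⁻¹)) * (s * s) by
      simp only [commutatorElement_def]; group]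
    exact conj_mem_of_Nm' (nZ (le_Nm B s2)) (mul_mem e (conj_mem_of_Nm (nZ (h.TB hs)) (u.sqB hc)))
  obtain ⟨w, hw, e⟩ := (J Ω S F q B R A A' X t h _ m m1 m2.1).2.2 _ m2 ((Commute.refl _).mul_right (.refl _))
  refine ⟨w * (c * s), mul_mem (h.BT hw.1) m, mt (mul_mem_cancel_left (mem_inf.1 hw).1).1 m1, ?_⟩
  rw [show w * (c * s) * (w * (c * s)) = w * (c * s * w * (c * s)⁻¹) * (c * s * (c * s)) by group, ← e, u.sqZ m2]

theorem conj_inv (hf : f ∈ S ⊓ Nm A) (f1 : f ∉ B) (f2 : f * f = 1) (hb : b ∈ B) (e : b * f * (b * f) = 1) :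
    ∃ c ∈ B, c * f * c⁻¹ = b * f := by
  have u := h.bg
  have e0 : f * b⁻¹ * f⁻¹ = b := by
    rw [show f * b⁻¹ * f⁻¹ = f * f * (b * f * (b * f))⁻¹ * b by group, f2, e]; simp
  obtain ⟨c, hc, r⟩ := h.freeB J hf f1 (f2 ▸ one_mem _) hb (by
    rw [commutatorElement_def, mul_assoc, mul_assoc, ← mul_assoc f, e0]; exact u.sqB hb)
  have hz : ⁅c, f⁆ * b⁻¹ ∈ zc B := by
    rw [show ⁅c, f⁆ * b⁻¹ = b⁻¹ * (b * ⁅c, f⁆ * (b * b)⁻¹) * b by group]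
    exact conj_mem_of_Nm' (nZ (le_Nm B hb)) (mul_mem r (inv_mem (u.sqB hb)))
  have e1 : c * f * c⁻¹ = ⁅c, f⁆ * b⁻¹ * (b * f) := by simp only [commutatorElement_def]; group
  generalize ⁅c, f⁆ * b⁻¹ = z at hz e1
  have k : ∀ z ∈ zc B, b * f * z * (b * f)⁻¹ = f * z * f⁻¹ := fun z hz => by
    rw [conj_mul_u, conj_of_comm (commute_of_Ct (conj_mem_of_Nm (nZ (h.TB hf)) hz).2 hb)]
  have e2 : z * (f * z * f⁻¹) = 1 := by
    rw [← k z hz, show z * (b * f * z * (b * f)⁻¹) = z * (b * f) * (z * (b * f)) * (b * f * (b * f))⁻¹ by group,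
      e, ← e1, conj_mul, f2]
    simp
  obtain ⟨w, hw, e3⟩ := (J Ω S F q B R A A' X t h f hf f1 (f2 ▸ one_mem _)).2.2 z hz
    (mul_inv_eq_iff_eq_mul.1 ((eq_inv_of_mul_eq_one_right e2).trans (inv_of_sq (u.sqZ hz))))
  refine ⟨w * c, mul_mem hw.1 hc, ?_⟩
  rw [conj_mul_u, e1, inv_of_sq (u.sqZ hw), show w * (z * (b * f)) * w = w * z * (b * f * w * (b * f)⁻¹) * (b * f) by
    group, k w hw, (commute_of_Ct hz.2 hw.1).eq, mul_assoc z, ← e3, u.sqZ hz, one_mul]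

omit J h in
theorem exists_fix {A Z : Subgroup Ω} (eA : IsElementaryAbelian 2 A) (n : ¬ A ≤ Z) (hf : f ∈ Nm A)
    (f2 : f * f = 1) (j : ∀ a ∈ A, ⁅a, f⁆ ∈ Z → ∃ c ∈ A, a * ⁅c, f⁆ ∈ Z) : ∃ a, a ∈ A ∧ a ∉ Z ∧ Commute a f := by
  obtain ⟨a, ha, r⟩ : ∃ a ∈ A, ⁅a, f⁆ ∉ Z := by
    by_contra! r
    exact n fun a ha => let ⟨c, hc, e⟩ := j a ha (r a ha); (mul_mem_cancel_right (r c hc)).1 e
  refine ⟨_, comm_mem_of hf ha, r, (mul_inv_eq_iff_eq_mul.1 ?_ : f * _ = _ * f).symm⟩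
  rw [show f * ⁅a, f⁆ * f⁻¹ = f * a * f⁻¹ * (f * f * a⁻¹ * (f * f)⁻¹) by simp only [commutatorElement_def]; group,
    f2, commutatorElement_def, H96.CG.ea_inv eA ha, one_mul, inv_one, mul_one,
    ← (ea_com eA ha (conj_mem_of_Nm hf ha)).eq]
  group

theorem move (hf : f ∈ S ⊓ Nm A) (f1 : f ∉ B) (f2 : f * f = 1) : ∃ c, Commute c f ∧ ∀ z ∈ zc B, z ∉ Ct R →
    c * z * c⁻¹ ∈ A ∧ c * z * c⁻¹ ∉ zc B ∧ M F (zpowers f ⊔ zpowers z) c := by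
  have := Fact.mk Nat.prime_two
  have u := h.bg
  obtain ⟨a, ha, a1, cm⟩ := exists_fix u.tri.eA u.tri.not_le hf.2 f2
    (J Ω S F q B R A A' X t h f hf f1 (f2 ▸ one_mem _)).1
  obtain ⟨r, hr, e⟩ := h.bk.fuse ha
  have r1 : r ∉ Nm B := fun c => a1 (by simpa [mul_assoc] using conj_mem_of_Nm' (nZ c) e)
  have rY : r ∈ R ⊔ B := mem_sup_left hr
  have fY : f ∈ Nm (R ⊔ B) := mem_Nm_sup (h.TR hf) (h.TB hf)
  have YD : R ⊔ B ≤ Ct (zc B ⊓ Ct R) := le_Ct_comm.1 ((Ct_sup R B).ge.trans' (le_inf inf_le_right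
    (inf_le_left.trans inf_le_right)))
  have g1 : r * f * r⁻¹ ∈ Nm B := by_contra fun c => by
    have := (h.bk.opp ((cj_mono _ le_sup_right).trans (cj_eq_of_Nm (conj_mem_of_Nm (le_Nm _ (le_Nm _ rY)) fY)).le) c).1.le
      ⟨e, mem_cj.2 (by
        rw [show (r * f * r⁻¹)⁻¹ * (r * a * r⁻¹) * (r * f * r⁻¹) = r * (f⁻¹ * (a * f)) * r⁻¹ by group, cm.eq]
        simpa using e)⟩
    have e' := conj_eq_of_Ct' (YD rY) this
    rw [← e'] at e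
    exact a1 (by simpa only [mul_assoc, inv_mul_cancel_left, inv_mul_cancel, mul_one] using e)
  obtain ⟨w, hw, v, hv, ⟨n, v2⟩, e1⟩ := dihedral f2 (g := r * f * r⁻¹) (by rw [conj_mul, f2]; simp)
  have l : zpowers (r * f * r⁻¹ * f) ≤ R ⊓ Nm B := zpowers_le.2 ⟨by
    have := mul_mem hr (conj_mem_of_Nm (h.TR hf) (inv_mem hr))
    rwa [inv_of_sq f2, ← mul_assoc, ← mul_assoc] at this, mul_mem g1 (h.TB hf)⟩
  have vB : v ∈ B := (h.bk.syl.eq_of_le (IsPGroup.to_sup_of_normal_left' u.tri.two (H98.T2.isPGroup ⟨n, v2⟩)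
    (zpowers_le.2 (l hv).2)) le_sup_left (sup_le le_sup_right (zpowers_le.2 (mem_sup_left (l hv).1)))).le
    (mem_sup_right (mem_zpowers v))
  obtain ⟨b, hb, e2⟩ := h.conj_inv J hf f1 f2 vB (by
    rw [← e1, show w⁻¹ * (r * f * r⁻¹) * w * (w⁻¹ * (r * f * r⁻¹) * w) = w⁻¹ * r * (f * f) * r⁻¹ * w by group, f2]
    simp)
  have cY : b⁻¹ * w⁻¹ * r ∈ R ⊔ B := mul_mem (mul_mem (mem_sup_right (inv_mem hb)) (mem_sup_left (inv_mem (l hw).1))) rY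
  have c1 : b⁻¹ * w⁻¹ * r ∉ Nm B := mt (mul_mem_cancel_left (mul_mem (inv_mem (le_Nm B hb)) (inv_mem (l hw).2))).1 r1
  have c2 : b⁻¹ * w⁻¹ * r * f * (b⁻¹ * w⁻¹ * r)⁻¹ = f := by
    rw [show b⁻¹ * w⁻¹ * r * f * (b⁻¹ * w⁻¹ * r)⁻¹ = b⁻¹ * (w⁻¹ * (r * f * r⁻¹) * w) * b by group, e1, ← e2]; group
  generalize b⁻¹ * w⁻¹ * r = c at cY c1 c2
  refine ⟨c, mul_inv_eq_iff_eq_mul.1 c2, fun z hz z1 => ?_⟩
  have m := conj_mem_of_Nm (sup_le h.bk.RA u.tri.nA cY) (u.tri.zA hz)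
  refine ⟨m, fun r => ?_, h.md.mor _ c (sup_le h.RX (h.BT.trans h.md.syl.le) cY)
    (sup_le (zpowers_le.2 hf) (zpowers_le.2 (h.BT hz.1))) (by
      rw [cj_sup, cj_zpowers, cj_zpowers, c2]
      exact sup_le (zpowers_le.2 hf) (zpowers_le.2 (h.BT (u.tri.AB m))))⟩
  have := (h.bk.opp (cj_le_of_mem cY le_sup_right) c1).1.le ⟨r, conj_mem_cj c hz⟩
  have e' := conj_eq_of_Ct' (YD cY) this
  rw [← e'] at this
  exact z1 (by simpa only [mul_assoc, inv_mul_cancel_left, inv_mul_cancel, mul_one] using (mem_inf.1 this).2)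

end Bl

theorem jobL4n : JobL4n.{u} := fun J Ω _ _ S F q B R A A' X t h => by
  refine le_antisymm (by_contra fun n => ?_) h.BT
  have u := h.bg
  obtain ⟨f, hf, f1, f2⟩ := h.exists_inv J n
  obtain ⟨j1, j2, -⟩ := J Ω S F q B R A A' X t h f hf f1 (f2 ▸ one_mem _)
  obtain ⟨c, cm, k⟩ := h.move J hf f1 f2
  obtain ⟨c', cm', k'⟩ := h.move J (h.cjT hf) (fun r => f1 (by simpa [mul_assoc] using conj_mem_of_Nm h.tB r))
    (by rw [show t⁻¹ * f * t * (t⁻¹ * f * t) = t⁻¹ * (f * f) * t by group, f2]; simp)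
  have BS := h.BT.trans inf_le_left
  have nU : ∀ {x}, Commute x f → x ∈ Nm (zpowers f) := fun r =>
    mem_Nm.2 (by rw [cj_zpowers, conj_of_comm r])
  refine h.ns (zpowers f) (fun e => f1 (by simp [zpowers_eq_bot.1 e])) (zpowers_le.2 hf.1)
    {a | a ∈ A ∧ a ∉ zc B ∧ Commute a f} {a | a ∈ A' ∧ a ∉ zc B ∧ Commute a f}
    (Bl.exists_fix u.tri.eA u.tri.not_le hf.2 f2 j1)
    (Bl.exists_fix u.tri.eA' u.tri.symm.not_le (h.TA' hf) f2 j2) (fun r => r.2.1 (one_mem _))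
    (fun a ha => ⟨BS (u.tri.AB ha.1), nU ha.2.2⟩) (fun a ha => ⟨BS (u.tri.AB' ha.1), nU ha.2.2⟩) fun a ha a' ha' => ?_
  have hz := u.tri.comm a ha.1 a' ha'.1
  have cz : Commute ⁅a, a'⁆ f := ((ha.2.2.mul_left ha'.2.2).mul_left ha.2.2.inv_left).mul_left ha'.2.2.inv_left
  have z1 : ⁅a, a'⁆ ∉ Ct R := fun r => (u.tri.reg a ha.1 a' ha'.1 ⟨hz, r⟩).elim ha.2.1 ha'.2.1
  have hz' := conj_mem_of_Nm' (nZ h.tB) hz
  have z2 : t⁻¹ * ⁅a, a'⁆ * t ∉ Ct R := fun r => by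
    have nz : ∀ {x}, t⁻¹ * x * t ∈ zc B → x ∈ zc B := fun r => by
      simpa [mul_assoc] using conj_mem_of_Nm (nZ h.tB) r
    refine (u.tri.reg _ (mem_cj.1 (h.sw.ge ha'.1)) _ (mem_cj.1 (h.sw'.ge ha.1)) (comm_swap ?_)).elim
      (fun r => ha'.2.1 (nz r)) fun r => ha.2.1 (nz r)
    convert mem_inf.2 ⟨hz', r⟩ using 1
    simp only [commutatorElement_def]; group
  generalize ⁅a, a'⁆ = z at hz cz z1 hz' z2
  obtain ⟨m1, m2, m3⟩ := k z hz z1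
  obtain ⟨m1', m2', m3'⟩ := k' _ hz' z2
  have cm2 : Commute (t * c' * t⁻¹) f := by simpa [mul_assoc] using cm'.map (MulAut.conj t)
  have e : t * c' * t⁻¹ * z * (t * c' * t⁻¹)⁻¹ = t * (c' * (t⁻¹ * z * t) * c'⁻¹) * t⁻¹ := by group
  refine ⟨⟨_, ⟨m1, m2, (cm.mul_left cz).mul_left cm.inv_left⟩, c, nU cm, m3, rfl⟩,
    _, ⟨e ▸ h.sw ▸ conj_mem_cj t m1', fun r => m2' (by
      rw [e] at r
      simpa only [mul_assoc, inv_mul_cancel_left, inv_mul_cancel, mul_one] using conj_mem_of_Nm' (nZ h.tB) r), (cm2.mul_left cz).mul_left cm2.inv_left⟩,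
    t * c' * t⁻¹, nU cm2, ?_, rfl⟩
  have := m3'.conj (M.of_mem F le_rfl h.tS) m3'.le m3'.cj_le
  simpa [cj_sup, cj_zpowers, mul_assoc] using this

end H87.HM
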