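import Cfsg.Agent.H47.McLSp
import Cfsg.Agent.H65.PhanAut
import Cfsg.Agent.H61.Post1
import Cfsg.Agent.H89.AlmostSimple
import Cfsg.Agent.H77.Simple
import Cfsg.Agent.H14.PLayer
import Cfsg.Agent.H12.SL2p
import Cfsg.Agent.H46.Nil
import Cfsg.Agent.H98.CharP
import Cfsg.Agent.H78.XSMap
import Cfsg.Agent.S3334

/-! The rows S5523, S3367, S2913 from `H47.MC.R5523`. -/

set_option autoImplicit false
open Cfsg Subgroup H46 H47.MC

namespace H87.McW

universe u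

theorem r3334 : R3334.{u} := fun _ _ _ t ht h => Cfsg.Agent.S3334.result t ht h

variable {G : Type u} [Group G] [Finite G]

omit [Finite G] in
theorem pi_of_equiv {X : Type*} [Group X] {J M : Subgroup G} [(J.subgroupOf M).Normal]
    (e : M ⧸ J.subgroupOf M ≃* X) :
    ∃ π : M →* X, Function.Surjective π ∧ ∀ g, π g = 1 ↔ (g : G) ∈ J :=
  ⟨e.toMonoidHom.comp (QuotientGroup.mk' _), e.surjective.comp (QuotientGroup.mk'_surjective _),
    fun g => by simp [QuotientGroup.eq_one_iff, mem_subgroupOf]⟩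

theorem s5523_of (h : R5523.{u})
    (S : Sylow 3 G) (Z : Subgroup G) (hZ : Z = (S : Subgroup G) ⊓ Subgroup.centralizer ((S : Subgroup G) : Set G))
    (J : Subgroup G) (hJS : J ≤ S) (hJcomm : IsMulCommutative J) (hJexp : ∀ a ∈ J, a ^ 3 = 1) (hJcard : Nat.card J = 3 ^ 4)
    (M₀ : Subgroup G) (hM₀ : M₀ = Subgroup.closure {g : G | g ∈ Subgroup.normalizer (J : Set G) ∧ ∃ k : ℕ, orderOf g = 3 ^ k})
    (hJM : J ≤ M₀) [hJn : (J.subgroupOf M₀).Normal] (eM : M₀ ⧸ J.subgroupOf M₀ ≃* alternatingGroup (Fin 6))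
    (L₀ : Subgroup G) (hL₀ : L₀ = Subgroup.closure {g : G | g ∈ Subgroup.normalizer (Z : Set G) ∧ ∃ k : ℕ, orderOf g = 3 ^ k})
    (Q : Subgroup G) (hQ : Q = (Cfsg.pCore 3 (Subgroup.normalizer (Z : Set G))).map (Subgroup.normalizer (Z : Set G)).subtype)
    (hQex : Cfsg.IsExtraspecial 3 Q) (hQcard : Nat.card Q = 3 ^ 5) (hQexp : ∀ a ∈ Q, a ^ 3 = 1)
    (hQL : Q ≤ L₀) [hQn : (Q.subgroupOf L₀).Normal] (eL : L₀ ⧸ Q.subgroupOf L₀ ≃* Matrix.SpecialLinearGroup (Fin 2) (ZMod 5))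
    (hiii : Subgroup.centralizer (((Cfsg.pCore 3 (Subgroup.centralizer (Z : Set G))).map (Subgroup.centralizer (Z : Set G)).subtype : Subgroup G) : Set G)
        ≤ (Cfsg.pCore 3 (Subgroup.centralizer (Z : Set G))).map (Subgroup.centralizer (Z : Set G)).subtype) :
    Nonempty (G ≃* Cfsg.Spor.McL) ∨ Nonempty (G ≃* MulAut Cfsg.Spor.McL) :=
  h G S Z J M₀ L₀ Q ⟨hZ, hJS, hJcomm, hJexp, hJcard, hM₀, hJM, pi_of_equiv eM, hL₀, hQ, hQex,
    hQcard, hQexp, hQL, pi_of_equiv eL, hiii⟩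

omit [Finite G] in
theorem card_zc (Q : Subgroup G) : Nat.card (Zc Q) = Nat.card (center Q) := by
  rw [← card_map_subtype]
  congr 2
  ext x
  exact ⟨fun h => ⟨⟨x, h.1⟩, mem_center_iff.2 fun g => Subtype.ext (h.2 g g.2), rfl⟩, by
    rintro ⟨y, hy, rfl⟩
    exact ⟨y.2, fun g hg => congrArg Subtype.val (mem_center_iff.1 hy ⟨g, hg⟩)⟩⟩

omit [Finite G] in
theorem pelt {p : ℕ} [Fact p.Prime] {P : Subgroup G} (hP : IsPGroup p P) {x : G} (hx : x ∈ P) :
    ∃ k, orderOf x = p ^ k := by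
  obtain ⟨k, hk⟩ := IsPGroup.iff_orderOf.1 hP ⟨x, hx⟩
  exact ⟨k, by rw [← hk, orderOf_mk]⟩

omit [Finite G] in
theorem card_of_pi {X : Type*} [Group X] {J M : Subgroup G} (h : J ≤ M) {π : M →* X}
    (h1 : Function.Surjective π) (h2 : ∀ g, π g = 1 ↔ (g : G) ∈ J) :
    Nat.card M = Nat.card J * Nat.card X := by
  have : π.ker = J.subgroupOf M := by ext g; exact h2 g
  rw [← π.ker.card_mul_index, index_ker, MonoidHom.range_eq_top.2 h1, card_top, this,
    card_subgroupOf h]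

theorem s3367_of (h : R5523.{u})
    (S : Sylow 3 G) (Z : Subgroup G) (hZ : Z = (S : Subgroup G) ⊓ Subgroup.centralizer ((S : Subgroup G) : Set G))
    (J : Subgroup G) (hJS : J ≤ S) (hJcomm : IsMulCommutative J) (hJexp : ∀ a ∈ J, a ^ 3 = 1) (hJcard : Nat.card J = 3 ^ 4)
    (M₀ : Subgroup G) (hM₀ : M₀ = Subgroup.closure {g : G | g ∈ Subgroup.normalizer (J : Set G) ∧ ∃ k : ℕ, orderOf g = 3 ^ k})
    (hJM : J ≤ M₀) [hJn : (J.subgroupOf M₀).Normal] (eM : M₀ ⧸ J.subgroupOf M₀ ≃* alternatingGroup (Fin 6))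
    (L₀ : Subgroup G) (hL₀ : L₀ = Subgroup.closure {g : G | g ∈ Subgroup.normalizer (Z : Set G) ∧ ∃ k : ℕ, orderOf g = 3 ^ k})
    (Q : Subgroup G) (hQ : Q = (Cfsg.pCore 3 (Subgroup.normalizer (Z : Set G))).map (Subgroup.normalizer (Z : Set G)).subtype)
    (hQex : Cfsg.IsExtraspecial 3 Q) (hQcard : Nat.card Q = 3 ^ 5) (hQexp : ∀ a ∈ Q, a ^ 3 = 1)
    (hQL : Q ≤ L₀) [hQn : (Q.subgroupOf L₀).Normal] (eL : L₀ ⧸ Q.subgroupOf L₀ ≃* Matrix.SpecialLinearGroup (Fin 2) (ZMod 5))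
    (hiii : ∀ x ∈ J, x ≠ 1 →
      Subgroup.centralizer (((Cfsg.pCore 3 (Subgroup.centralizer ({x} : Set G))).map (Subgroup.centralizer ({x} : Set G)).subtype : Subgroup G) : Set G)
        ≤ (Cfsg.pCore 3 (Subgroup.centralizer ({x} : Set G))).map (Subgroup.centralizer ({x} : Set G)).subtype) :
    Nonempty (G ≃* Cfsg.Spor.McL) ∨ Nonempty (G ≃* MulAut Cfsg.Spor.McL) := by
  refine s5523_of h S Z hZ J hJS hJcomm hJexp hJcard M₀ hM₀ hJM eM L₀ hL₀ Q hQ hQex hQcard hQexp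
    hQL eL ?_
  have hS := S.isPGroup'
  have hSZ : (S : Subgroup G) ≤ Nrm Z := hZ ▸ nrm_zc le_nrm_self
  have hZS : Z ≤ S := hZ ▸ inf_le_left
  have hZc : Z ≤ Cent S := hZ ▸ inf_le_right
  have hQ' : Q = pCoreOf 3 (Nrm Z) := hQ
  have hQp : IsPGroup 3 Q := hQ' ▸ H98.isPGroup_pCoreOf _
  have hQS : Q ≤ S := by
    have h1 : (S : Subgroup G) ≤ Nrm Q := hQ' ▸ H98.le_normalizer_pCoreOf_of_le hSZ
    exact sup_eq_right.1 (S.3 (hQp.to_sup_of_normal_left' hS h1) le_sup_right)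
  have hZQ : Z ≤ Zc Q := le_inf (hQ' ▸ H98.le_pCoreOf (hS.to_le hZS) le_nrm_self le_rfl)
    (hZc.trans (cent_anti hQS))
  have h3 : Nat.card (Zc Q) = 3 := (card_zc Q).trans hQex.2
  have hJ1 : J ≠ ⊥ := one_lt_card.1 (by omega)
  have hZ3 : Z = Zc Q := (eq_bot_or_eq_of_prime (h3 ▸ Nat.prime_three) hZQ).resolve_left
    (hZ ▸ zc_ne_bot_of_isPGroup Nat.prime_three hS (ne_bot_of_le hJS hJ1))
  obtain ⟨z, hz, hz1⟩ := exists_ne_one_of_ne_bot (H := Z)
    (hZ3 ▸ ne_bot_of_card_prime (h3 ▸ Nat.prime_three))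
  have hzz : zpowers z = Z := eq_zpowers_of_card_prime (hZ3 ▸ h3 ▸ Nat.prime_three) hz hz1
  have hc : centralizer (Z : Set G) = Cent1 z := hzz ▸ cent_zpowers z
  rw [hc]
  refine hiii z ?_ hz1
  obtain ⟨π, hπ, hk⟩ := pi_of_equiv eM
  obtain ⟨ρ, hρ, hk'⟩ := pi_of_equiv eL
  have hMJ : M₀ ≤ Nrm J := hM₀ ▸ (closure_le _).2 fun g hg => hg.1
  have hzJ : z ∈ Cent J := cent_anti hJS (hZc hz)
  have hzM : z ∈ M₀ := hM₀ ▸ subset_closure ⟨cent_le_nrm J hzJ, pelt hS (hZS hz)⟩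
  have hn : ((Cent J).subgroupOf M₀).Normal :=
    (normalIn_inf_of_nrm (nrm_cent hMJ)).normal_subgroupOf |> fun h => by
      rwa [inf_subgroupOf_left] at h
  have : IsSimpleGroup (alternatingGroup (Fin 6)) := alternatingGroup.isSimpleGroup (by simp)
  rcases (hn.map π hπ).eq_bot_or_eq_top with h1 | h1
  · exact (hk ⟨z, hzM⟩).1 (mem_bot.1 (h1 ▸ mem_map_of_mem π hzJ))
  exfalso
  have h4 : M₀ ≤ Cent J := fun g hg => by
    obtain ⟨c, h5, h6⟩ : π ⟨g, hg⟩ ∈ ((Cent J).subgroupOf M₀).map π := h1 ▸ mem_top _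
    have h7 := comm_iff_le_cent.1 hJcomm ((hk (c⁻¹ * ⟨g, hg⟩)).1 (by simp [h6]))
    exact ((Cent J).mul_mem_cancel_left (inv_mem h5)).1 h7
  have hM : Nat.card M₀ = 3 ^ 6 * 40 := by
    rw [card_of_pi hJM hπ hk, hJcard, Nat.card_eq_fintype_card, card_alternatingGroup]
    simp [Nat.factorial]
  have hL : Nat.card L₀ = 3 ^ 6 * 40 := by
    have := Fact.mk Nat.prime_five
    rw [card_of_pi hQL hρ hk', hQcard, H12.card_sl2p]
    norm_num
  have hSL : (S : Subgroup G) ≤ L₀ := fun g hg => hL₀ ▸ subset_closure ⟨hSZ hg, pelt hS hg⟩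
  obtain ⟨n, hn'⟩ := hS.exists_card_eq
  have h5 : Nat.card S ∣ 3 ^ 6 := (hn' ▸ (by norm_num : Nat.Coprime 3 40).pow_left n :
    (Nat.card S).Coprime 40).dvd_of_dvd_mul_right (hL ▸ card_dvd_of_le hSL)
  obtain ⟨T, hT⟩ := Sylow.exists_subgroup_card_pow_prime (G := M₀) 3 (n := 6) (hM ▸ dvd_mul_right _ _)
  have hT' : Nat.card (T.map M₀.subtype) = 3 ^ 6 := (card_map_subtype T).trans hT
  have hTM : T.map M₀.subtype ≤ M₀ := map_subtype_le T
  obtain ⟨P, hP⟩ := ((hS.to_le hJS).to_sup_of_normal_left' (IsPGroup.of_card hT')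
    (hTM.trans hMJ)).exists_le_sylow
  obtain ⟨g, rfl⟩ := MulAction.exists_smul_eq G S P
  have h6 : ((g • S : Sylow 3 G) : Subgroup G) = cj g S := rfl
  rw [h6] at hP
  have h7 : T.map M₀.subtype = cj g S := eq_of_le_of_card_ge (le_sup_right.trans hP)
    (by rw [card_cj, hT']; exact Nat.le_of_dvd (by norm_num) h5)
  have h8 : J ≤ cj g Z := by
    rw [hZ, cj_zc]
    exact le_inf (le_sup_left.trans hP) (h7 ▸ le_cent_symm (hTM.trans h4))
  have h9 := card_le_of_le h8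
  rw [card_cj, hZ3, h3, hJcard] at h9
  omega

omit [Finite G] in
theorem lift_pi {p : ℕ} [hp : Fact p.Prime] {X Y : Type*} [Group X] [Group Y] {H : Subgroup G}
    (f : H →* Y) (hf : Function.Surjective f) (hk : IsPGroup p f.ker) {A : Subgroup Y}
    (hA : A = Subgroup.closure {y | ∃ k, orderOf y = p ^ k}) (e : A ≃* X) {C : Subgroup G}
    (hC : C = Subgroup.closure {g | g ∈ H ∧ ∃ k, orderOf g = p ^ k}) :
    ∃ π : C →* X, Function.Surjective π ∧ ∀ g, π g = 1 ↔ (g : G) ∈ f.ker.map H.subtype := by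
  have h1 : ∀ g : H, (∃ k, orderOf (f g) = p ^ k) ↔ ∃ k, orderOf (g : G) = p ^ k := fun g => by
    rw [orderOf_coe]
    constructor
    · rintro ⟨k, h⟩
      obtain ⟨j, hj⟩ := hk ⟨g ^ p ^ k, by rw [MonoidHom.mem_ker, map_pow, ← h, pow_orderOf_eq_one]⟩
      have h2 : g ^ p ^ (k + j) = 1 := by
        rw [pow_add, pow_mul]
        exact congrArg Subtype.val hj
      obtain ⟨i, -, hi⟩ := (Nat.dvd_prime_pow hp.out).1 (orderOf_dvd_of_pow_eq_one h2)
      exact ⟨i, hi⟩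
    · rintro ⟨k, h⟩
      obtain ⟨i, -, hi⟩ := (Nat.dvd_prime_pow hp.out).1 (h ▸ orderOf_map_dvd f g)
      exact ⟨i, hi⟩
  have h2 : C = (A.comap f).map H.subtype := by
    have h3 : A.comap f = Subgroup.closure (f ⁻¹' {y | ∃ k, orderOf y = p ^ k}) := by
      rw [hA, ← Set.image_preimage_eq {y | ∃ k, orderOf y = p ^ k} hf, ← MonoidHom.map_closure,
        comap_map_eq, Set.preimage_image_preimage, sup_eq_left]
      exact fun g hg => subset_closure ⟨0, by rw [MonoidHom.mem_ker.1 hg]; simp⟩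
    rw [h3, MonoidHom.map_closure, hC]
    congr 1
    ext g
    exact ⟨fun h => ⟨⟨g, h.1⟩, (h1 _).2 h.2, rfl⟩, by
      rintro ⟨y, hy, rfl⟩
      exact ⟨y.2, (h1 y).1 hy⟩⟩
  have h3 : C ≤ H := h2 ▸ map_subtype_le _
  have h4 : ∀ g : C, (f.comp (inclusion h3)) g ∈ A := fun g => by
    obtain ⟨y, hy, e⟩ := h2.le g.2
    rw [MonoidHom.comp_apply, show inclusion h3 g = y from Subtype.ext e.symm]
    exact hy
  refine ⟨e.toMonoidHom.comp ((f.comp (inclusion h3)).codRestrict A h4),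
    e.surjective.comp fun a => ?_, fun g => ?_⟩
  · obtain ⟨y, hy⟩ := hf a
    exact ⟨⟨y, h2.ge ⟨y, by rw [SetLike.mem_coe, mem_comap, hy]; exact a.2, rfl⟩⟩, Subtype.ext hy⟩
  · rw [MonoidHom.comp_apply, MulEquiv.coe_toMonoidHom, e.map_eq_one_iff, Subtype.ext_iff]
    exact ⟨fun h => ⟨_, h, rfl⟩, by
      rintro ⟨y, hy, e⟩
      change f (inclusion h3 g) = 1
      rwa [show inclusion h3 g = y from Subtype.ext e.symm]⟩

abbrev SL25 := Matrix.SpecialLinearGroup (Fin 2) (ZMod 5)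

theorem sl25_aut_sq (α : MulAut SL25) : ∃ s, ∀ x, α (α x) = s * x * s⁻¹ := by
  have := Fact.mk Nat.prime_five
  obtain ⟨g, σ, h⟩ := H65.Phan.sl_aut_two α
  have hσ : ∀ x : SL25, x.1.map σ = x.1 := fun x => by
    ext i j
    exact congrFun (congrArg DFunLike.coe (Subsingleton.elim σ.toRingHom (RingHom.id _))) _
  have hd : g.1.det ≠ 0 := g.det_ne_zero
  refine ⟨⟨g.1.det⁻¹ • (g.1 * g.1), by
    rw [Matrix.det_smul, Matrix.det_mul]
    simp only [Fintype.card_fin]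
    field_simp⟩, fun x => eq_mul_inv_of_mul_eq (Subtype.ext ?_)⟩
  change (α (α x)).1 * (g.1.det⁻¹ • (g.1 * g.1)) = (g.1.det⁻¹ • (g.1 * g.1)) * x.1
  rw [Matrix.mul_smul, Matrix.smul_mul, ← mul_assoc, h, hσ, mul_assoc, h, hσ, mul_assoc]

theorem fstar_sl25 {X : Type*} [Group X] [Finite X] (e : generalizedFittingSubgroup X ≃* SL25) :
    generalizedFittingSubgroup X = Subgroup.closure {y | ∃ k, orderOf y = 3 ^ k} := by
  have := Fact.mk Nat.prime_five
  set E := generalizedFittingSubgroup X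
  have : E.Normal := H14.fstar_normal X
  set A := Subgroup.closure {y : X | ∃ k, orderOf y = 3 ^ k}
  refine le_antisymm ?_ ((closure_le _).2 fun y ⟨k, hk⟩ => ?_)
  · have hA : A.Normal := ⟨fun x hx g => conj_mem_of_mem_nrm (mem_nrm_of_cj_le (by
      rw [cj, MonoidHom.map_closure]
      refine closure_mono ?_
      rintro _ ⟨y, ⟨k, hk⟩, rfl⟩
      exact ⟨k, (orderOf_conj g y).trans hk⟩)) hx⟩
    have := (hA.subgroupOf E).map e.toMonoidHom e.surjective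
    rcases H61.Post.normal_cases ⟨(2 : ZMod 5), by decide +revert, by decide +revert⟩
      ((A.subgroupOf E).map e.toMonoidHom) with h | h
    · intro x hx
      obtain ⟨y, hy, h1⟩ : e ⟨x, hx⟩ ∈ (A.subgroupOf E).map e.toMonoidHom := h ▸ mem_top _
      rw [e.injective h1] at hy
      exact hy
    · obtain ⟨y, hy⟩ := exists_prime_orderOf_dvd_card' (G := E) 3 (by
        rw [Nat.card_congr e.toEquiv, H12.card_sl2p]; norm_num)
      have h1 := H61.sl_mem_center_iff.1 (h (mem_map_of_mem _ (x := y)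
        (subset_closure ⟨1, (orderOf_coe y).trans hy⟩)))
      have h2 : y ^ 2 = 1 := e.injective (by
        rw [map_pow, map_one]
        rcases h1 with h1 | h1 <;> exact (congrArg (· ^ 2) h1).trans (by simp))
      have := orderOf_dvd_of_pow_eq_one h2
      rw [hy] at this
      omega
  · obtain ⟨s, hs⟩ := sl25_aut_sq (e.symm.trans ((MulAut.conjNormal y : MulAut E).trans e))
    have h1 : (e.symm s : X)⁻¹ * y ^ 2 ∈ E := H14.centralizer_fstar_le fun x hx => by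
      have h2 := congrArg (fun t => (e.symm t : X)) (hs (e ⟨x, hx⟩))
      simp only [MulEquiv.trans_apply, MulEquiv.symm_apply_apply, map_mul, map_inv,
        MulAut.conjNormal_apply, coe_mul, coe_inv] at h2
      calc x * ((e.symm s : X)⁻¹ * y ^ 2) = (e.symm s : X)⁻¹ *
          ((e.symm s : X) * x * (e.symm s : X)⁻¹) * y ^ 2 := by group
        _ = (e.symm s : X)⁻¹ * y ^ 2 * x := by rw [← h2, pow_two]; group
    have h2 : y ^ 2 ∈ E := (E.mul_mem_cancel_left (inv_mem (e.symm s).2)).1 h1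
    obtain ⟨m, hm⟩ := exists_pow_eq_self_of_coprime (x := y) (n := 2)
      (hk ▸ (by norm_num : Nat.Coprime 2 3).pow_right k)
    exact hm ▸ pow_mem h2 m

omit [Finite G] in
theorem fstar_equiv {T : Type*} [Group T] [Finite T] [IsSimpleGroup T] (hT : ¬ IsMulCommutative T)
    (h : Nonempty (G ≃* T) ∨ Nonempty (G ≃* MulAut T)) :
    Nonempty (generalizedFittingSubgroup G ≃* T) := by
  have hc : center T = ⊥ := (inferInstance : (center T).Normal).eq_bot_or_eq_top.resolve_right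
    fun e => hT ⟨⟨fun a b => mem_center_iff.1 (e ▸ mem_top b) a⟩⟩
  have key : ∀ {H : Type _} [Group H] [Finite H] (e : G ≃* H) (L : Subgroup H) [L.Normal]
      (f : T ≃* L), Cent L = ⊥ → Nonempty (generalizedFittingSubgroup G ≃* T) := by
    intro H _ _ e L _ f hL
    have := f.symm.isSimpleGroup
    have h1 := H89.fstar_eq_of_simple L (fun h => hT ⟨⟨fun a b => f.injective (by
      rw [map_mul, map_mul, h.1.1])⟩⟩) hL
    rw [← H14.map_fstar_mulEquiv e] at h1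
    exact ⟨((e.subgroupMap _).trans (MulEquiv.subgroupCongr h1)).trans f.symm⟩
  rcases h with ⟨⟨e⟩⟩ | ⟨⟨e⟩⟩
  · exact key e ⊤ topEquiv.symm (by rw [Cent, coe_top, centralizer_univ, hc])
  · have hi : Function.Injective (MulAut.conj : T →* MulAut T) :=
      (injective_iff_map_eq_one _).2 fun a ha => mem_bot.1 (hc ▸ mem_center_iff.2 fun g =>
        (mul_inv_eq_iff_eq_mul.1 (DFunLike.congr_fun ha g)).symm)
    refine key e (Inn T) (MonoidHom.ofInjective hi) (eq_bot_iff.2 fun φ hφ => ?_)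
    ext g
    refine hi ?_
    have h1 := hφ _ ⟨g, rfl⟩
    ext x
    have h2 := DFunLike.congr_fun h1 (φ⁻¹ x)
    simpa using h2.symm

theorem s2913_of (h : R5523.{u}) (Z : Subgroup G) (hZ : Nat.card ↥Z = 3) (S : Sylow 3 ↥(Subgroup.centralizer (Z : Set G))) (J : Subgroup G) (hJS : J ≤ ((S : Subgroup ↥(Subgroup.centralizer (Z : Set G))).map (Subgroup.centralizer (Z : Set G)).subtype)) (hJ : Cfsg.IsElementaryAbelian 3 J) (hJcard : Nat.card ↥J = 3 ^ 4) (hQ : Cfsg.IsExtraspecial 3 ↥(Cfsg.generalizedFittingSubgroup ↥(Subgroup.centralizer (Z : Set G)))) (hQcard : Nat.card ↥(Cfsg.generalizedFittingSubgroup ↥(Subgroup.centralizer (Z : Set G))) = 3 ^ 5) [hQn : (Cfsg.generalizedFittingSubgroup ↥(Subgroup.centralizer (Z : Set G))).Normal] (hexp : ∀ x ∈ Cfsg.generalizedFittingSubgroup ↥(Subgroup.centralizer (Z : Set G)), x ^ 3 = 1) (hFMQ : Nonempty (↥(Cfsg.generalizedFittingSubgroup (↥(Subgroup.centralizer (Z : Set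 G)) ⧸ Cfsg.generalizedFittingSubgroup ↥(Subgroup.centralizer (Z : Set G)))) ≃* Matrix.SpecialLinearGroup (Fin 2) (ZMod 5))) [hJn : (J.subgroupOf (Subgroup.normalizer (J : Set G))).Normal] (hA6 : Nonempty (↥(Subgroup.closure {x : ↥(Subgroup.normalizer (J : Set G)) ⧸ J.subgroupOf (Subgroup.normalizer (J : Set G)) | ∃ k : ℕ, orderOf x = 3 ^ k}) ≃* ↥(alternatingGroup (Fin 6)))) : Cfsg.Spor.IsoMcL ↥(Cfsg.generalizedFittingSubgroup G) := by
  have hZp : (Nat.card Z).Prime := hZ ▸ Nat.prime_three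
  have hZ3 : IsPGroup 3 Z := IsPGroup.of_card (n := 1) hZ
  set Q := H14.fstarOf (Cent Z) with hQdef
  set S' := (S : Subgroup (Cent Z)).map (Cent Z).subtype
  have eQ : generalizedFittingSubgroup (Cent Z) ≃* Q :=
    equivMapOfInjective _ _ (Cent Z).subtype_injective
  have hQc : Nat.card Q = 3 ^ 5 := (card_map_subtype _).trans hQcard
  have hQp : IsPGroup 3 Q := IsPGroup.of_card hQc
  have hQM : Q ≤ Cent Z := map_subtype_le _
  have hSM : S' ≤ Cent Z := map_subtype_le _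
  have hSp : IsPGroup 3 S' := S.isPGroup'.map _
  have hCQ : Cent Z ⊓ Cent Q ≤ Q :=
    (H14.inf_centralizer_fstarOf_le _).trans (H14.fitOf_le_fstarOf _)
  have hZQ : Z ≤ Zc Q := le_inf (le_trans (le_inf (comm_iff_le_cent.1
    (comm_of_cyclic (cyclic_of_card_prime hZp))) (le_cent_symm hQM)) hCQ) (le_cent_symm hQM)
  have hQex : IsExtraspecial 3 Q := H78.isExtraspecial_of_equiv eQ hQ
  have h1 : Z = Zc Q := eq_of_le_of_card_eq hZQ (by rw [hZ, card_zc, hQex.2])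
  have hQS : Q ≤ S' := map_mono ((IsPGroup.of_card hQcard).le_sylow_of_normal S)
  have h2 : Z = Zc S' := le_antisymm (le_inf (hZQ.trans (inf_le_left.trans hQS)) (le_cent_symm hSM))
    (h1.ge.trans' (le_inf ((inf_le_inf hSM (cent_anti hQS)).trans hCQ)
      (inf_le_right.trans (cent_anti hQS))))
  have h3 : ∀ P : Subgroup G, IsPGroup 3 P → P ≤ Nrm Z → P ≤ Cent Z := fun P hP hn => by
    have h4 := hZ3.to_sup_of_normal_left' hP hn
    exact le_cent_symm ((nil_le_zc_of_prime h4.isNilpotent (normalIn_sup_left hn) hZp).trans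
      (inf_le_right.trans (cent_anti le_sup_right)))
  have h4 : ∀ P : Subgroup G, IsPGroup 3 P → S' ≤ P → P = S' := fun P hP hle => by
    refine (nil_eq_of_inf_nrm_le hP.isNilpotent hle ?_).symm
    have h5 := h3 (P ⊓ Nrm S') (hP.to_le inf_le_left) (h2 ▸ nrm_zc inf_le_right)
    have h6 := S.3 (Q := (P ⊓ Nrm S').subgroupOf (Cent Z)) (hP.to_le inf_le_left).comap_subtype
      fun x hx => ⟨hle ⟨x, hx, rfl⟩, le_nrm_self (H := S') ⟨x, hx, rfl⟩⟩
    exact fun x hx => ⟨⟨x, h5 hx⟩, h6.le hx, rfl⟩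
  have h5 : Q = pCoreOf 3 (Cent Z) := H14.fstarOf_eq_pCoreOf_iff.2
    (H14.fstar_eq_pCore_iff_isPGroup.2 (IsPGroup.of_card hQcard))
  have h6 : Q = pCoreOf 3 (Nrm Z) := le_antisymm
    (H98.le_pCoreOf hQp (hQM.trans (cent_le_nrm Z))
      ((nrm_le_nrm_cent Z).trans (H14.normalizer_le_normalizer_fstarOf _)))
    (h5 ▸ H98.le_pCoreOf (H98.isPGroup_pCoreOf _)
      (h3 _ (H98.isPGroup_pCoreOf _) (H98.pCoreOf_le _))
      (H98.le_normalizer_pCoreOf_of_le (cent_le_nrm Z)))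
  have hJp : IsPGroup 3 J := IsPGroup.of_card hJcard
  obtain ⟨eL⟩ := hFMQ
  obtain ⟨eM⟩ := hA6
  have hset : {g : G | g ∈ Nrm Z ∧ ∃ k, orderOf g = 3 ^ k} =
      {g : G | g ∈ Cent Z ∧ ∃ k, orderOf g = 3 ^ k} := by
    ext g
    exact ⟨fun ⟨a, k, hk⟩ => ⟨h3 (zpowers g) (IsPGroup.of_card ((Nat.card_zpowers g).trans hk))
      (zpowers_le.2 a) (mem_zpowers g), k, hk⟩, fun ⟨a, b⟩ => ⟨cent_le_nrm Z a, b⟩⟩
  obtain ⟨π, p1, p2⟩ := lift_pi (p := 3) (QuotientGroup.mk' (J.subgroupOf (Nrm J)))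
    (QuotientGroup.mk'_surjective _) (by rw [QuotientGroup.ker_mk']; exact hJp.comap_subtype)
    rfl eM rfl
  obtain ⟨ρ, r1, r2⟩ := lift_pi (p := 3) (QuotientGroup.mk' (generalizedFittingSubgroup (Cent Z)))
    (QuotientGroup.mk'_surjective _)
    (by rw [QuotientGroup.ker_mk']; exact IsPGroup.of_card hQcard) (fstar_sl25 eL) eL
    (congrArg Subgroup.closure hset)
  rw [QuotientGroup.ker_mk'] at p2 r2
  rw [subgroupOf_map_subtype, inf_eq_left.2 le_normalizer] at p2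
  have : Finite Spor.McL := Nat.finite_of_card_ne_zero (by rw [H77.card_McL]; norm_num)
  have := H77.simple_McL
  refine fstar_equiv (fun hc => ?_) (h G ⟨S', hSp, h4 _⟩ Z J _ _ Q ⟨h2, hJS, hJ.1, hJ.2, hJcard, rfl,
    fun g hg => subset_closure ⟨le_nrm_self hg, pelt hJp hg⟩, ⟨π, p1, p2⟩, rfl, h6, hQex, hQc,
    ?_, fun g hg => subset_closure ⟨cent_le_nrm Z (hQM hg), pelt hQp hg⟩, ⟨ρ, r1, r2⟩, ?_⟩)
  · have h7 : (Nat.card Spor.McL).Prime := Group.is_simple_iff_prime_card.1 inferInstance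
    rw [H77.card_McL] at h7
    norm_num at h7
  · rintro _ ⟨x, hx, rfl⟩
    exact congrArg Subtype.val (hexp x hx)
  · change Cent (pCoreOf 3 (Cent Z)) ≤ pCoreOf 3 (Cent Z)
    rw [← h5]
    exact (le_inf (cent_anti (hZQ.trans inf_le_left)) le_rfl).trans hCQ

end H87.McW
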