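import Cfsg.Agent.H86.M8.Def2

/-! Row S3384, part M, slot N4: the lower bound for the normaliser of the torus. -/

set_option autoImplicit false

namespace H87.O84N4

open H56 Subgroup H86.M8

theorem hom_mem (h : commutator S = ⊤) (f : S →* O Q) (p : S) : f p ∈ commutator (O Q) := by
  have h1 : (commutator S).map f ≤ commutator (O Q) := by
    rw [commutator_def, map_commutator]
    exact commutator_mono le_top le_top
  exact h1 ⟨p, h ▸ mem_top p, rfl⟩

theorem rh_swap {i j : Fin 4} (h : i ≠ j) : Rh i j sS = Pm (Equiv.swap i j) :=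
  O.ext fun x => funext fun k => by
    rw [Rh_apply h, Pm_apply, Equiv.symm_swap, Equiv.swap_apply_def]
    split_ifs <;> simp [sS]

theorem ka_ka {i j : Fin 4} (h : i ≠ j) : ka i * ka j = Lh i j sS * Rh i j sS :=
  O.ext fun x => funext fun k => by
    simp only [O.mul_apply, ka_apply, Lh_apply h, Rh_apply h, if_true, if_neg h.symm, sS]
    split_ifs with h1 h2 h2
    · exact (h (h1.symm.trans h2)).elim
    all_goals simp [*]

theorem ke_tt (ε : Fin 4 → Bool) (a : Fin 4 → ZMod 5) :
    ke ε * tt a * (ke ε)⁻¹ = tt fun k => if ε k then -a k else a k :=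
  mul_inv_eq_iff_eq_mul.2 (O.ext fun x => funext fun k => by
    simp only [O.mul_apply, ke_apply, tt_apply]
    split_ifs <;> simp [st_zt, mul_comm])

theorem pm_tt (π : Equiv.Perm (Fin 4)) (a : Fin 4 → ZMod 5) :
    Pm π * tt a * (Pm π)⁻¹ = tt fun k => a (π.symm k) :=
  mul_inv_eq_iff_eq_mul.2 (O.ext fun x => funext fun k => by
    simp only [O.mul_apply, Pm_apply, tt_apply])

theorem tt_mem (a : Fin 4 → ZMod 5) : tt a ∈ commutator (O Q) := by
  have h := commutator_mem_commutator (mem_top (ke fun _ => true)) (mem_top (tt (a + a)))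
  rw [commutatorElement_def, ke_tt, ← map_inv, ← map_mul] at h
  refine (Eq.to_iff (congrArg (fun t => tau t ∈ commutator (O Q)) ?_)).1 h
  refine Multiplicative.toAdd.injective (funext fun k => ?_)
  have : ∀ b : ZMod 5, -(b + b) + -(b + b) = b := by decide
  exact this (a k)

/-- the even sign patterns -/
def ev (e : Bool × Bool × Bool) : Fin 4 → Bool := ![e.1, e.2.1, e.2.2, xor e.1 (xor e.2.1 e.2.2)]

theorem ke_mem (h : commutator S = ⊤) (e : Bool × Bool × Bool) : ke (ev e) ∈ commutator (O Q) := by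
  have k : ∀ i j : Fin 4, i ≠ j → ka i * ka j ∈ commutator (O Q) := fun i j hij => by
    rw [ka_ka hij]
    exact mul_mem (hom_mem h _ _) (hom_mem h _ _)
  obtain ⟨a, b, c⟩ := e
  have k4 := mul_mem (k 0 1 (by decide)) (k 2 3 (by decide))
  rw [← mul_assoc] at k4
  cases a <;> cases b <;> cases c <;> simp [ke, ev, k, k4]

theorem pm_mem (h : commutator S = ⊤) (π : Equiv.Perm (Fin 4)) : Pm π ∈ commutator (O Q) := by
  induction π using Equiv.Perm.swap_induction_on with
  | one => simp
  | swap_mul f x y hxy ih =>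
    rw [map_mul, ← rh_swap hxy]
    exact mul_mem (hom_mem h _ _) ih

theorem norm_mem {g : O Q} (h : ∀ a, ∃ b, g * tt a * g⁻¹ = tt b) :
    g ∈ normalizer (T0 : Set (O Q)) := by
  have : Finite (T0 : Set (O Q)) := Set.finite_range tau
  refine mem_normalizer_fintype (S := (T0 : Set (O Q))) fun _ ⟨a, e⟩ => ?_
  obtain ⟨b, hb⟩ := h a.toAdd
  exact ⟨_, hb.symm.trans (by rw [← e]; rfl)⟩

theorem ev_apply (a : Fin 4 → ZMod 5) (ε : Fin 4 → Bool) (π : Equiv.Perm (Fin 4)) (x : V)
    (k : Fin 4) : (tt a * ke ε * Pm π) x k =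
      zt (a k) * if ε k then star (x (π.symm k)) else x (π.symm k) := by
  simp only [O.mul_apply, tt_apply, ke_apply, Pm_apply]

theorem zt_ne : ∀ a, zt a ≠ 0 := by decide +kernel

theorem jN4 : N4 := by
  intro h
  have : Finite (O Q) := Finite.of_injective (fun g : O Q => (g : V → V)) DFunLike.coe_injective
  let f : (Fin 4 → ZMod 5) × (Bool × Bool × Bool) × Equiv.Perm (Fin 4) →
      ↥(normalizer (T0 : Set (O Q)) ⊓ commutator (O Q)) := fun p =>
    ⟨tt p.1 * ke (ev p.2.1) * Pm p.2.2, mul_mem (mul_mem (le_normalizer ⟨_, rfl⟩)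
      (norm_mem fun a => ⟨_, ke_tt _ a⟩)) (norm_mem fun a => ⟨_, pm_tt _ a⟩),
      mul_mem (mul_mem (tt_mem _) (ke_mem h _)) (pm_mem h _)⟩
  have inj : Function.Injective f := by
    rintro ⟨a, e, π⟩ ⟨a', e', π'⟩ hf
    have key : ∀ (x : V) k, zt (a k) * (if ev e k then star (x (π.symm k)) else x (π.symm k)) =
        zt (a' k) * if ev e' k then star (x (π'.symm k)) else x (π'.symm k) := fun x k => by
      rw [← ev_apply, ← ev_apply]
      exact congrFun (DFunLike.congr_fun (congrArg Subtype.val hf) x) k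
    obtain rfl : a = a' := funext fun k => zt_inj _ _ (by simpa using key (fun _ => 1) k)
    have he : ∀ k, ev e k = ev e' k := fun k => by
      have h1 := mul_left_cancel₀ (zt_ne _) (key (fun _ => zt 1) k)
      have h2 : star (zt 1) ≠ zt 1 := by decide +kernel
      revert h1
      generalize ev e k = s, ev e' k = s'
      intro h1
      cases s <;> cases s'
      exacts [rfl, (h2 h1.symm).elim, (h2 h1).elim, rfl]
    obtain rfl : e = e' := Prod.ext (he 0) (Prod.ext (he 1) (he 2))
    obtain rfl : π = π' := by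
      refine Equiv.symm_bijective.1 (Equiv.ext fun k => ?_)
      have h1 := mul_left_cancel₀ (zt_ne _) (key (Pi.single (π.symm k) 1) k)
      by_contra hne
      rw [Pi.single_eq_same, Pi.single_eq_of_ne (Ne.symm hne)] at h1
      simp at h1
    rfl
  have := Nat.card_le_card_of_injective f inj
  refine le_trans ?_ this
  simp [Fintype.card_perm, Nat.factorial]

end H87.O84N4
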