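import Cfsg.Agent.H42.PnSpec
import Cfsg.Agent.S4252
import Cfsg.Agent.S0035

/-! PN tower (row S3399): job FRO, the Frobenius kernel of `K`. -/

set_option autoImplicit false
set_option linter.unusedSectionVars false

namespace H87.PnFro

open Equiv MulAction Pointwise H2.Ln H42.PN

variable {α : Type} [Fintype α] [DecidableEq α] {K : Subgroup (Perm α)}

theorem orb_out {s u : α} (hs : s ∉ fp K) (hu : u ∈ orb K s) : u ∉ fp K := fun h => by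
  obtain ⟨x, hx, rfl⟩ := mem_orb.1 hu
  have : s = x s := by simpa using mem_fp.1 h x⁻¹ (K.inv_mem hx)
  exact hs (this ▸ h)

/-- The Frobenius kernel on one orbit. -/
theorem ker (h : ∀ x ∈ K, ∀ s ∉ fp K, ∀ s' ∉ fp K, x s = s → x s' = s' → x = 1 ∨ s = s') {s : α}
    (hs : s ∉ fp K) {x₀ : Perm α} (hx : x₀ ∈ K) (h1 : x₀ ≠ 1) (h2 : x₀ s = s) :
    ∃ R : Subgroup (Perm α), (∀ x, x ∈ R ↔ x ∈ K ∧ (x = 1 ∨ ∀ u ∈ orb K s, x u ≠ u)) ∧
      orb R s = orb K s := by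
  classical
  have hm : ∀ u, u ∈ orbit K s ↔ u ∈ orb K s := fun u =>
    ⟨fun ⟨g, e⟩ => mem_orb.2 ⟨g, g.2, e⟩, fun hu => let ⟨g, hg, e⟩ := mem_orb.1 hu; ⟨⟨g, hg⟩, e⟩⟩
  let a : orbit K s := ⟨s, mem_orbit_self s⟩
  have hc : 1 < Fintype.card (orbit K s) := by
    rw [mem_fp] at hs
    push Not at hs
    obtain ⟨k, hk, e⟩ := hs
    exact Fintype.one_lt_card_iff.2 ⟨⟨k s, ⟨k, hk⟩, rfl⟩, a, fun e' => e (congrArg Subtype.val e')⟩
  obtain ⟨f1, f2⟩ := Cfsg.Agent.S4252.result (G := K) (Ω := orbit K s) hc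
    (fun u v => exists_smul_eq K u v)
    ⟨⟨x₀, hx⟩, fun e => h1 (congrArg Subtype.val e), a, Subtype.ext h2⟩
    (fun g hg u v e1 e2 => Subtype.ext ((h g g.2 u (orb_out hs ((hm _).1 u.2)) v
      (orb_out hs ((hm _).1 v.2)) (congrArg Subtype.val e1) (congrArg Subtype.val e2)).resolve_left
        fun e => hg (Subtype.ext e))) a
  obtain ⟨N, n1, -, n3⟩ := Cfsg.Agent.S0035.result _ f1
  rw [f2] at n1
  have hN : ∀ g : K, g ∈ N ↔ g = 1 ∨ ∀ ω : orbit K s, g • ω ≠ ω := fun g => by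
    rw [← SetLike.mem_coe, n1]; rfl
  refine ⟨N.map K.subtype, fun x => ⟨?_, ?_⟩, ?_⟩
  · rintro ⟨g, hg, rfl⟩
    exact ⟨g.2, ((hN g).1 hg).imp (congrArg Subtype.val) fun e u hu e' =>
      e ⟨u, (hm u).2 hu⟩ (Subtype.ext e')⟩
  · rintro ⟨hk, e⟩
    exact ⟨⟨x, hk⟩, (hN _).2 (e.imp Subtype.ext fun e ω e' =>
      e ω ((hm _).1 ω.2) (congrArg Subtype.val e')), rfl⟩
  · ext u
    rw [mem_orb, mem_orb]
    constructor
    · rintro ⟨_, ⟨g, -, rfl⟩, e⟩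
      exact ⟨g, g.2, e⟩
    · rintro ⟨g, hg, rfl⟩
      obtain ⟨⟨n, b⟩, e, -⟩ := n3.existsUnique ⟨g, hg⟩
      refine ⟨(n : K), ⟨n, n.2, rfl⟩, ?_⟩
      have e1 : ((n : K) : Perm α) * ((b : K) : Perm α) = g := congrArg Subtype.val e
      have e2 : ((b : K) : Perm α) s = s := congrArg Subtype.val (mem_stabilizer_iff.1 b.2)
      rw [← e1, Perm.mul_apply, e2]

theorem jobFro : Fro := by
  intro α _ _ K hK h
  by_cases h0 : ∀ x ∈ K, x = 1 ∨ ∀ s ∉ fp K, x s ≠ s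
  · exact ⟨K, fun x => ⟨fun hx => ⟨hx, h0 x hx⟩, And.left⟩, hK, Or.inl rfl⟩
  push Not at h0
  obtain ⟨a, ha, a1, s, hs, a2⟩ := h0
  obtain ⟨R, hR, ho⟩ := ker h hs ha a1 a2
  have out : ∀ x ∈ K, x ∉ R → x ≠ 1 ∧ ∃ u ∈ orb K s, x u = u := fun x hx hn => by
    rw [hR] at hn
    push Not at hn
    exact hn hx
  have key : ∀ b ∈ K, b ≠ 1 → ∀ s' ∉ fp K, b s' = s' → s' ∈ orb K s := fun b hb b1 s' hs' b2 => by
    by_contra hn
    obtain ⟨R', hR', -⟩ := ker h hs' hb b1 b2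
    have un : ∀ x ∈ K, x ∉ R → x ∈ R' := fun x hx hx' => by
      obtain ⟨x1, u, hu, x2⟩ := out x hx hx'
      refine (hR' x).2 ⟨hx, Or.inr fun v hv e => hn ?_⟩
      obtain rfl := (h x hx u (orb_out hs hu) v (orb_out hs' hv) x2 e).resolve_left x1
      rw [← orb_eq hu, orb_eq hv]
      exact self_mem_orb
    have aR : a ∉ R := fun e => ((hR a).1 e).2.elim a1 fun e => e s self_mem_orb a2
    have bR : b ∉ R' := fun e => ((hR' b).1 e).2.elim b1 fun e => e s' self_mem_orb b2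
    have bR' : b ∈ R := by_contra fun e => bR (un b hb e)
    by_cases e : a * b ∈ R
    · exact aR ((R.mul_mem_cancel_right bR').1 e)
    · exact bR ((R'.mul_mem_cancel_left (un a ha aR)).1 (un _ (K.mul_mem ha hb) e))
  refine ⟨R, fun x => (hR x).trans (and_congr_right fun hx => ⟨fun e => ?_, fun e => ?_⟩), ?_,
    Or.inr ⟨s, hs, ho, fun x hx hn => ho ▸ (out x hx hn).2⟩⟩
  · by_cases x1 : x = 1
    · exact Or.inl x1
    · exact Or.inr fun u hu e' => e.resolve_left x1 u (key x hx x1 u hu e') e'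
  · exact e.imp_right fun e u hu => e u (orb_out hs hu)
  · rintro rfl
    refine hs (mem_fp.2 fun k hk => ?_)
    obtain ⟨x, hx, e⟩ := mem_orb.1 (ho ▸ mem_orb.2 ⟨k, hk, rfl⟩ : k s ∈ orb ⊥ s)
    rw [← e, Subgroup.mem_bot.1 hx, Perm.one_apply]

end H87.PnFro
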