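import Cfsg.Agent.H34.R5Spec

/-! Tower R5, slot SE: separated sides give coprime centraliser orders. -/

set_option autoImplicit false

namespace H87.R5SE
open Cfsg Subgroup H41.IT H34.R5

universe u

theorem cop (CA : JobCA.{u}) {G : Type u} [Group G] [Finite G] {x y : G} (k : K2 x y)
    (s : SZ x y) (hx : (orderOf x).Prime) (sep : ∀ g : G, g ≠ 1 → c g ∣ c x → ¬ c g ∣ c y) :
    (c x).Coprime (C x).index := by
  refine Nat.coprime_of_dvd fun p hp h1 h2 => ?_
  obtain ⟨w, -, -, -, hw, -, hne, he⟩ := (CA G x y k s hx).2 p hp h1 h2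
  refine sep (w * x) hne ?_ (dvd_trans ?_ hw)
  · exact card_dvd_of_le (by rw [he]; exact inf_le_right)
  · exact card_dvd_of_le (by rw [he]; exact inf_le_left)

theorem side {G : Type u} [Group G] [Finite G] {x y g : G} (g1 : g ≠ 1) (hc : Commute g y)
    (hco : (orderOf g).Coprime (orderOf y)) (hd : c g ∣ c x) :
    ∃ h : G, h ≠ 1 ∧ c h ∣ c x ∧ c h ∣ c y := by
  refine ⟨g * y, mul_ne_one' g1 hco, dvd_trans ?_ hd, ?_⟩
  · exact card_dvd_of_le (by rw [C_mul hc hco]; exact inf_le_left)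
  · exact card_dvd_of_le (by rw [C_mul hc hco]; exact inf_le_right)

theorem jobSE : JobSE.{u} := by
  intro CA G _ _ x y k sx sy hx hy sep
  have ca := cop CA k sx hx sep
  have cb := cop CA k.symm sy hy fun g g1 h1 h2 => sep g g1 h2 h1
  have hr := (CA G x y k sx hx).1
  have hs := (CA G y x k.symm sy hy).1
  have h0 : C x ⊓ C y = ⊥ := by
    by_contra hne
    have hcard : Nat.card ↥(C x ⊓ C y) ≠ 1 := fun m => hne (card_eq_one.1 m)
    obtain ⟨p, hp, hpd⟩ := Nat.exists_prime_and_dvd hcard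
    haveI := Fact.mk hp
    obtain ⟨g, hg⟩ := exists_prime_orderOf_dvd_card' p hpd
    have og : orderOf (g : G) = p := by rw [orderOf_coe, hg]
    have g1 : (g : G) ≠ 1 := fun m => hp.one_lt.ne' (by rw [← og, m, orderOf_one])
    have pa : p ∣ c x := og ▸ ord_dvd_c g.2.1
    have pb : p ∣ c y := og ▸ ord_dvd_c g.2.2
    have cs : (orderOf (g : G)).Coprime (orderOf y) := by
      rw [og, Nat.coprime_primes hp hy]
      intro m
      exact hp.one_lt.ne' (Nat.eq_one_of_dvd_coprimes ca pa (m ▸ hs))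
    have cr : (orderOf (g : G)).Coprime (orderOf x) := by
      rw [og, Nat.coprime_primes hp hx]
      intro m
      exact hp.one_lt.ne' (Nat.eq_one_of_dvd_coprimes cb pb (m ▸ hr))
    rcases k.cov g g1 with h | h
    · obtain ⟨w, w1, h1, h2⟩ := side g1 (mem_C.1 g.2.2) cs h
      exact sep w w1 h1 h2
    · obtain ⟨w, w1, h1, h2⟩ := side g1 (mem_C.1 g.2.1) cr h
      exact sep w w1 h2 h1
  have hb : c y = (C x).index := card_eq_index sx.cop h0
  exact ⟨hb ▸ ca, by rw [hb, card_mul_index]⟩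

end H87.R5SE
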