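import Cfsg.Agent.H87.RRK1R
import Cfsg.Agent.H90.OrdRed

/-! Row S3530, slot H2: the normaliser of the non-split torus. -/

set_option autoImplicit false

namespace H87.RRK

open Cfsg Subgroup H24 H70.Sq H10.W H70.RR H98

universe u

theorem cof {T : Type*} [Group T] {l n d ν : ℕ} (h : L2D T l n d ν) :
    ∃ k, Nat.card T = ν * k ∧ ∀ s : ℕ, s.Prime → s ≠ 2 → s ∣ ν → ¬ s ∣ k := by
  have two : ∀ s : ℕ, s.Prime → s ≠ 2 → ¬ s ∣ 2 := fun s hs h2 e =>
    h2 ((Nat.prime_dvd_prime_iff_eq hs Nat.prime_two).1 e)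
  have one : ∀ s : ℕ, s.Prime → ¬ s ∣ 1 := fun s hs e => hs.one_lt.ne' (Nat.dvd_one.1 e)
  rcases h.par with ⟨-, -, h1, h2⟩ | ⟨-, -, -, h1, h2⟩
  · refine ⟨l ^ n * d, by rw [h.card, h2], fun s hs s2 h3 h4 => ?_⟩
    rcases hs.dvd_mul.1 h4 with e | e
    · exact one s hs ((Nat.dvd_add_right e).1 (h2 ▸ h3))
    · exact two s hs s2 ((Nat.dvd_add_right e).1 (by rwa [h2, ← h1] at h3))
  · refine ⟨2 * (l ^ n * d), by rw [h.card, h2, ← h1]; ring, fun s hs s2 h3 h4 => ?_⟩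
    rcases hs.dvd_mul.1 ((hs.dvd_mul.1 h4).resolve_left (two s hs s2)) with e | e
    · refine one s hs ((Nat.dvd_add_right e).1 ?_)
      rw [← h1, show 2 * d + 1 + 1 = 2 * (d + 1) by ring, ← h2]
      exact h3.mul_left 2
    · exact one s hs ((Nat.dvd_add_right e).1 (h2 ▸ h3))

section
variable {H : Type*} [Group H] {T : Subgroup H} {l n d ν : ℕ}

theorem map_cen (y : T) : (centralizer ({y} : Set T)).map T.subtype =
    T ⊓ centralizer ({(y : H)} : Set H) := by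
  ext x
  constructor
  · rintro ⟨z, hz, rfl⟩
    exact ⟨z.2, mem_centralizer_singleton_iff.2
      (congrArg Subtype.val (mem_centralizer_singleton_iff.1 hz))⟩
  · exact fun hx => ⟨⟨x, hx.1⟩, mem_centralizer_singleton_iff.2
      (Subtype.ext (mem_centralizer_singleton_iff.1 hx.2)), rfl⟩

/-- The centralizer in `T` of an element of odd prime order dividing `ν`. -/
theorem cenH (h : L2D T l n d ν) {y : H} (hy : y ∈ T) {s : ℕ} (hs : s.Prime) (s2 : s ≠ 2)
    (hd : s ∣ ν) (e : orderOf y = s) : IsCyclic ↥(T ⊓ centralizer ({y} : Set H)) ∧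
      Nat.card ↥(T ⊓ centralizer ({y} : Set H)) = ν := by
  have e' : orderOf (⟨y, hy⟩ : T) = s := (orderOf_coe _).symm.trans e
  obtain ⟨h1, h2⟩ := h.cen ⟨y, hy⟩ (e' ▸ hs) (e' ▸ s2) (e' ▸ hd)
  rw [← map_cen ⟨y, hy⟩]
  exact ⟨isCyclic_of_surjective _ (equivMapOfInjective _ _ T.subtype_injective).surjective,
    by rw [card_map_of_injective T.subtype_injective, h2]⟩

variable [Finite H]

theorem cen_eq (h : L2D T l n d ν) {C : Subgroup H} (hC : C ≤ T) (c1 : IsCyclic C)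
    (c2 : Nat.card C = ν) {y : H} (hy : y ∈ C) {s : ℕ} (hs : s.Prime) (s2 : s ≠ 2)
    (hd : s ∣ ν) (e : orderOf y = s) : T ⊓ centralizer ({y} : Set H) = C := by
  refine (eq_of_le_of_card_ge (le_inf hC fun x hx => mem_centralizer_singleton_iff.2 ?_)
    (by rw [(cenH h (hC hy) hs s2 hd e).2, c2])).symm
  exact congrArg Subtype.val (c1.isMulCommutative.is_comm.comm ⟨x, hx⟩ ⟨y, hy⟩)

/-- The Sylow subgroups of odd order of the non-split torus. -/
theorem sylC [T.Normal] (h : L2D T l n d ν) {C : Subgroup H} (hC : C ≤ T) (c1 : IsCyclic C)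
    (c2 : Nat.card C = ν) {s : ℕ} (hs : s.Prime) (s2 : s ≠ 2) (hd : s ∣ ν) :
    ∃ P, IsSyl s P T ∧ normalizer (P : Set H) ≤ normalizer (C : Set H) := by
  have := Fact.mk hs
  obtain ⟨P, hP⟩ := exists_isSyl s C
  obtain ⟨k, hk, hk'⟩ := cof h
  have e1 : C.relIndex T = k := by
    have := card_mul_index (C.subgroupOf T)
    rw [Nat.card_congr (subgroupOfEquivOfLe hC).toEquiv, c2, hk] at this
    exact Nat.eq_of_mul_eq_mul_left (c2 ▸ Nat.card_pos) this
  refine ⟨P, isSyl_of_not_dvd_relIndex (hP.le.trans hC) hP.isPGroup fun e => ?_, fun g hg => ?_⟩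
  · rw [← relIndex_mul_relIndex P C T hP.le hC, e1] at e
    exact (hs.dvd_mul.1 e).elim hP.not_dvd_relIndex (hk' s hs s2 hd)
  · have P0 : P ≠ ⊥ := fun e => hP.eq_bot_iff.1 e (c2 ▸ hd)
    obtain ⟨j, hj⟩ := IsPGroup.iff_card.1 hP.isPGroup
    obtain ⟨⟨z, hz⟩, ez⟩ := ord_of_prime (G := P) hs (hj ▸ dvd_pow_self s fun e =>
      P0 (by rwa [e, pow_zero, card_eq_one] at hj))
    rw [← orderOf_coe] at ez
    change orderOf z = s at ez
    have e2 := cen_eq h hC c1 c2 (hP.le hz) hs s2 hd ez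
    have e3 := cen_eq h hC c1 c2 (hP.le (conj_mem_of_mem_normalizer hg hz)) hs s2 hd
      (((MulAut.conj g).orderOf_eq z).trans ez)
    refine mem_normalizer_iff.2 fun x => ?_
    conv_lhs => rw [← e2]
    conv_rhs => rw [← e3]
    simp only [mem_inf, mem_centralizer_singleton_iff]
    refine and_congr ⟨fun hx => Normal.conj_mem inferInstance x hx g, fun hx => by
      simpa [mul_assoc] using Normal.conj_mem inferInstance _ hx g⁻¹⟩ ⟨fun e => ?_, fun e => ?_⟩
    · calc _ = g * (x * z) * g⁻¹ := by group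
        _ = _ := by rw [e]; group
    · calc x * z = g⁻¹ * (g * x * g⁻¹ * (g * z * g⁻¹)) * g := by group
        _ = _ := by rw [e]; group

omit [Finite H] in
theorem solN {C : Subgroup H} (c1 : IsCyclic C) (hc : T ⊓ centralizer (C : Set H) ≤ C) :
    Group.IsSolvable ↥(normalizer (C : Set H) ⊓ T) := by
  let φ : ↥(normalizer (C : Set H) ⊓ T) →* MulAut C :=
    C.normalizerMonoidHom.comp (inclusion inf_le_left)
  have hφ : ∀ g (v : C), (φ g v : H) = g * v * (g : H)⁻¹ := fun _ _ => rfl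
  have hk : ∀ g ∈ φ.ker, (g : H) ∈ C := fun g hg => hc ⟨g.2.2, fun v hv => by
    have := hφ g ⟨v, hv⟩
    rw [MonoidHom.mem_ker.1 hg, MulAut.one_apply, eq_mul_inv_iff_mul_eq] at this
    exact this⟩
  have : Group.IsSolvable (MulAut C) := Group.isSolvable_of_comm fun a b =>
    (IsCyclic.mulAutMulEquiv C).injective (by rw [map_mul, map_mul, mul_comm])
  have : Group.IsSolvable φ.ker := Group.isSolvable_of_comm fun a b => Subtype.ext (Subtype.ext
    (congrArg (fun z : C => (z : H))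
      (c1.isMulCommutative.is_comm.comm ⟨_, hk _ a.2⟩ ⟨_, hk _ b.2⟩)))
  exact Group.isSolvable_of_ker_le_range φ.ker.subtype φ (by rw [range_subtype])

end

theorem jobH2 (kA : KitA.{u}) (kB : KitB.{u}) : JobH2.{u} := by
  intro m G H _ _ _ _ ψ A hF T l n d ν κ β p hO hL hp κ0 β0 βκ h3 hb
  by_contra! hn
  have := hO.nT
  have p0 : p 0 = 3 := (A.num.zero _).1 (hp 0 κ0.symm)
  obtain ⟨⟨y, hy⟩, ey⟩ := hL.on.of_dvd h3
  rw [← orderOf_coe] at ey
  change orderOf y = 3 at ey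
  obtain ⟨c1, c2⟩ := cenH hL hy Nat.prime_three (by decide) h3 ey
  set C := T ⊓ centralizer ({y} : Set H) with hC
  have yC : y ∈ C := ⟨hy, mem_centralizer_singleton_iff.2 rfl⟩
  have sK : Group.IsSolvable ((normalizer (C : Set H)).comap ψ) := kB.sol A.sol hO.nT hO.odd
    (solN c1 fun x hx => ⟨hx.1, mem_centralizer_singleton_iff.2 (hx.2 y yC).symm⟩)
  have key : ∀ s k : ℕ, s.Prime → s ≠ 2 → s ∣ ν → k.Coprime s → k.Coprime (Nat.card T) →
      ∀ g : G, orderOf g ∣ s * k → Ord ((normalizer (C : Set H)).comap ψ) (orderOf g) := by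
    intro s k hs s2 hd k1 k2 g hg
    obtain ⟨P, hP, hN⟩ := sylC hL inf_le_left c1 c2 hs s2 hd
    obtain ⟨t, ht⟩ := H90.OrdR.conj_mem_normalizer hs hP k1 k2 ((orderOf_map_dvd ψ g).trans hg)
    exact ord_comap A.sj (hN ht)
  have cT : ∀ i, i ≠ κ → i ≠ 0 → i ≠ β → (p i).Coprime (Nat.card T) := fun i h1 h2 h3 =>
    (hp i h1).1.coprime_iff_not_dvd.2 (hn i h1 h2 h3)
  have pair : ∀ i j, i ≠ κ → j ≠ κ → j ≠ 0 → j ≠ β → (i = 0 ∨ i = β) →
      Ord ((normalizer (C : Set H)).comap ψ) (p i * p j) := by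
    intro i j hi hj j0 jβ h
    have hij : i ≠ j := by rcases h with rfl | rfl <;> exact Ne.symm ‹_›
    obtain ⟨g, hg⟩ := hF i j _ _ hij (hp i hi) (hp j hj)
    refine hg ▸ key (p i) (p j) (hp i hi).1 (A.num.ne_two (hp i hi)) ?_
      (A.num.cop hij.symm (hp j hj) (hp i hi)) (cT j hj j0 jβ) g hg.dvd
    rcases h with rfl | rfl
    · rwa [p0]
    · exact hb
  have zb : Ord ((normalizer (C : Set H)).comap ψ) (p 0 * p β) := by
    obtain ⟨z, hz⟩ := IsCyclic.exists_ofOrder_eq_natCard (α := C)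
    obtain ⟨x, hx, ex⟩ := exists_ord_of_map (map_comap_eq_self_of_surjective A.sj _)
      (ord_mono (le_normalizer (H := C)) (Ord.of_dvd ⟨z, hz.trans c2⟩
        ((A.num.cop β0.symm (hp 0 κ0.symm) (hp β βκ)).mul_dvd_of_dvd_of_dvd (p0 ▸ h3) hb)))
    exact ex ▸ ord_mem hx
  refine kA.k4 A.num A.sub sK hp fun i j hi hj hij => ?_
  by_cases h1 : i = 0 ∨ i = β
  · by_cases h2 : j = 0 ∨ j = β
    · rcases h1 with rfl | rfl <;> rcases h2 with rfl | rfl
      · exact absurd rfl hij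
      · exact zb
      · exact mul_comm (p 0) _ ▸ zb
      · exact absurd rfl hij
    · exact pair i j hi hj (not_or.1 h2).1 (not_or.1 h2).2 h1
  · by_cases h2 : j = 0 ∨ j = β
    · exact mul_comm (p j) _ ▸ pair j i hj hi (not_or.1 h1).1 (not_or.1 h1).2 h2
    · push Not at h1 h2
      obtain ⟨g, hg⟩ := hF i j _ _ hij (hp i hi) (hp j hj)
      exact hg ▸ key (p β) (p i * p j) (hp β βκ).1 (A.num.ne_two (hp β βκ)) hb
        ((A.num.cop h1.2 (hp i hi) (hp β βκ)).mul_left (A.num.cop h2.2 (hp j hj) (hp β βκ)))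
        ((cT i hi h1.1 h1.2).mul_left (cT j hj h2.1 h2.2)) g (hg ▸ dvd_mul_left _ _)

end H87.RRK
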