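import Cfsg.Agent.H70.RRSpec
import Cfsg.Agent.H70.SqHH

/-! Row S3530, slot K1R: the quotient by the solvable radical has no single Ree component. -/

set_option autoImplicit false

namespace H87.RRK

open Cfsg Subgroup H24 H70.Sq H10.W H70.RR H98
open scoped commutatorElement

universe u

section
variable {G : Type u} [Group G]

theorem pg {r : ℕ} {W : Subgroup G} (h : IsElementaryAbelian r W) : IsPGroup r W :=
  fun x => ⟨1, Subtype.ext (by simpa using h.2 x x.2)⟩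

theorem ord_two {K : Subgroup G} {x v : G} {a b : ℕ} (hx : x ∈ K) (hv : v ∈ K)
    (ex : orderOf x = a) (ev : orderOf v = b) (hab : a.Coprime b) (hc : Commute x v) :
    Ord K (a * b) := by
  have := ord_mem (mul_mem hx hv)
  rwa [hc.orderOf_mul_eq_mul_orderOf_of_coprime (by rw [ex, ev]; exact hab), ex, ev] at this

theorem triple {m : ℕ} (h : Num m) (hs : Sub m G) {i j k : Fin 5} {a b c : ℕ} (hij : i ≠ j)
    (hik : i ≠ k) (hjk : j ≠ k) (ha : Cl m i a) (hb : Cl m j b) (hc : Cl m k c) {x y z : G}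
    (hx : orderOf x = a) (hy : orderOf y = b) (hz : orderOf z = c) (h1 : Commute x y)
    (h2 : Commute x z) (h3 : Commute y z) : False := by
  have := ord_of_commute3 h1 h2 h3 (by rw [hx, hy]; exact h.cop hij ha hb)
    (by rw [hx, hz]; exact h.cop hik ha hc) (by rw [hy, hz]; exact h.cop hjk hb hc)
  rw [hx, hy, hz] at this
  exact h.three i j k a b c hij hik hjk ha hb hc (hs.om this)

theorem ne_of_cl {m : ℕ} (h : Num m) {i j : Fin 5} {a b : ℕ} (hij : i ≠ j) (ha : Cl m i a)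
    (hb : Cl m j b) : a ≠ b := fun e => hij (h.uniq i j a ha (e ▸ hb))

theorem col_dvd_mu (m : ℕ) (j : Fin 5) : ∃ k, col m j ∣ H70.RR.mu m k := by
  fin_cases j
  · exact ⟨1, dvd_rfl⟩
  · exact ⟨2, dvd_mul_left _ _⟩
  · exact ⟨3, dvd_mul_left _ _⟩
  · exact ⟨4, dvd_rfl⟩
  · exact ⟨5, dvd_rfl⟩

theorem dvd_of_RG {m : ℕ} (h : RG.{u} m G) {j : Fin 5} {b : ℕ} (hb : Cl m j b) : b ∣ Nat.card G := by
  obtain ⟨k, hk⟩ := col_dvd_mu m j
  obtain ⟨g, hg⟩ := h.full k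
  exact hb.2.trans (hk.trans (hg ▸ orderOf_dvd_natCard g))

theorem cover {H : Type*} [Group H] {ψ : G →* H} {K M X : Subgroup G} {T : Subgroup H}
    (hT : T ≤ K.map ψ) (hM : M ≤ ψ.ker) (h : K ≤ M ⊔ X) : T ≤ X.map ψ := by
  refine hT.trans ((map_mono h).trans ?_)
  rw [Subgroup.map_sup, (map_eq_bot_iff M).2 hM, bot_sup_eq]

theorem noEx {s k : ℕ} (hs : s.Prime) (h2 : s ≠ 2) : NoEx s k 3 := fun l n _ _ e => by
  have h1 : Odd (s ^ (l + 1)) := (hs.odd_of_ne_two h2).pow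
  have h3 : Odd (3 ^ n) := (by decide : Odd 3).pow
  rw [e] at h1
  exact (Nat.not_even_iff_odd.2 h1) h3.add_one

theorem exp_of {m s k : ℕ} (hs : s.Prime) (hG : Sub m G) (h : ¬ Om m (s ^ (k + 1))) :
    Exp G s k := fun g ⟨j, hj⟩ => by
  obtain ⟨i, -, hi⟩ := (Nat.dvd_prime_pow hs).1 (orderOf_dvd_of_pow_eq_one hj)
  refine orderOf_dvd_iff_pow_eq_one.1 (hi ▸ pow_dvd_pow s (not_lt.1 fun hl => h ?_))
  exact (hi ▸ hG g).of_dvd (pow_dvd_pow s hl)

variable [Finite G]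

/-- A fixed vector of the given element. -/
theorem hh_pt {K W : Subgroup G} {r p q n : ℕ} (hr : r.Prime) (hp : p.Prime) (hq : q.Prime)
    (hW : IsElementaryAbelian r W) (hK : K ≤ normalizer (W : Set G)) (hqr : q ≠ r) (hpq : p ≠ q)
    (hE : NoEx p n q) {Q : Subgroup K} (hQ : IsPGroup q Q) {x t : K}
    (hx : x ∈ normalizer (Q : Set K)) (x1 : (x : G) ^ p ^ (n + 1) = 1) (ht : t ∈ Q)
    (hc : ((⁅x ^ p ^ n, t⁆ : K) : G) ∉ centralizer (W : Set G)) :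
    ∃ u ∈ W, orderOf u = r ∧ Commute (x : G) u := by
  have := Fact.mk hr
  obtain ⟨v, hv, h1⟩ := hh_loc hr hp hq hW hK hqr hpq hE hQ hx (Subtype.ext x1) ht hc
  have hu : (v * x) ^ p ^ (n + 1) ∈ W := by
    have := pow_mul_mem (hK x.2) (conj_mem_of_mem_normalizer' (hK x.2) hv) (p ^ (n + 1))
    rwa [x1, inv_one, one_mul, ← mul_assoc, ← mul_assoc, mul_inv_cancel, one_mul] at this
  refine ⟨_, hu, orderOf_eq_prime (hW.2 _ hu) h1, ?_⟩
  have c1 : Commute v ((v * x) ^ p ^ (n + 1)) :=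
    congrArg Subtype.val (hW.1.is_comm.comm ⟨v, hv⟩ ⟨_, hu⟩)
  simpa using c1.inv_left.mul_left ((Commute.refl (v * x)).pow_right (p ^ (n + 1)))

end

section
variable {m : ℕ} {G H : Type u} [Group G] [Finite G] [Group H] {ψ : G →* H}
  {T : Subgroup H}

/-- Claim C. -/
theorem claimC (kB : KitB.{u}) (kA : KitA.{u}) (hT : JobT.{u}) (A : Amb m ψ) (hO : H70.RR.One T)
    (hR : RG.{u} m T) {i j : Fin 5} {a b : ℕ} (hij : i ≠ j) (hi : i ≠ 0) (hj : j ≠ 0)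
    (ha : Cl m i a) (hb : Cl m j b) (hk : ¬ Rk a ψ.ker) : ¬ Ord ψ.ker (a * b) := by
  rintro ⟨⟨y, hy⟩, ey⟩
  rw [← orderOf_coe] at ey
  change orderOf y = a * b at ey
  obtain ⟨x, hx, ex⟩ := H5.exists_orderOf_of_dvd (g := y) (ey ▸ dvd_mul_right a b)
  obtain ⟨z, hz, ez⟩ := H5.exists_orderOf_of_dvd (g := y) (ey ▸ dvd_mul_left b a)
  have h1 := kB.p1 (ψ := ψ) (K := ⊤) (x := x) hO.toNS.perf
    (by rw [← MonoidHom.range_eq_map, MonoidHom.range_eq_top.2 A.sj]; exact le_top) ha.1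
    (A.num.ne_two ha) (by rwa [top_inf_eq]) ⟨trivial, zpowers_le_of_mem hy hx⟩ ex
  rw [top_inf_eq] at h1
  have hzm : z ∈ centralizer ({x} : Set G) ⊓ ψ.ker := ⟨mem_centralizer_singleton_iff.2
    (H5.commute_of_mem_zpowers (Commute.refl y) hz hx), zpowers_le_of_mem hy hz⟩
  have h7 := A.num.big j b hj hb
  have h3 : Ord (centralizer ({x} : Set G)) (3 * b) := by
    rcases hT G H ψ T _ b hO.simple hO.nab h1 (A.num.ab2 A.sub) (Or.inl (kA.top hR.rk3)) hb.1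
      (by omega) (ez ▸ orderOf_dvd_natCard _ hzm) with h | h
    · exact h
    · exact h b hb.1 (by omega) (dvd_of_RG hR hb)
  exact A.num.tri A.sub hi hij hj.symm ha ((A.num.zero 3).2 rfl) hb ex h3

/-- The centralizer of `W` does not cover `T`. -/
theorem nocov (kA : KitA.{u}) (A : Amb m ψ) (hR : RG.{u} m T) {j k : Fin 5} {b c : ℕ} (hjk : j ≠ k)
    (hj : j ≠ 0) (hk : k ≠ 0) (hb : Cl m j b) (hc : Cl m k c) {K W V : Subgroup G}
    (hW : IsElementaryAbelian b W) (W0 : W ≠ ⊥) (hV : IsElementaryAbelian c V) (V0 : V ≠ ⊥)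
    (hWV : V ≤ centralizer (W : Set G)) (hK : K ≤ normalizer (V : Set G)) :
    ¬ T ≤ (K ⊓ centralizer (W : Set G)).map ψ := fun h => by
  have h3 : Cl m 0 3 := (A.num.zero 3).2 rfl
  have h1 := kA.lift Nat.prime_three (by decide) h (kA.top hR.rk3)
  obtain ⟨x, hx, v, hv, ex, ev, c1⟩ := kA.f1 Nat.prime_three hc.1 (ne_of_cl A.num hk.symm h3 hc) h1
    (pg hV) V0 (inf_le_left.trans hK)
  obtain ⟨w, hw, ew⟩ := exists_ord_of_elem hb.1 hW W0
  exact triple A.num A.sub hj hjk hk.symm hb h3 hc ew ex ev (hx.2 w hw) (hWV hv w hw) c1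

/-- Two commuting sections. -/
theorem final (kA : KitA.{u}) (kB : KitB.{u}) (A : Amb m ψ) (hO : H70.RR.One T) (hR : RG.{u} m T)
    {j k : Fin 5} {b c : ℕ} (hjk : j ≠ k) (hj : j ≠ 0) (hk : k ≠ 0) (hb : Cl m j b) (hc : Cl m k c)
    {K W V : Subgroup G} (hW : IsElementaryAbelian b W) (W0 : W ≠ ⊥)
    (hV : IsElementaryAbelian c V) (V0 : V ≠ ⊥) (hWV : V ≤ centralizer (W : Set G))
    (hKW : K ≤ normalizer (W : Set G)) (hKV : K ≤ normalizer (V : Set G)) (hT : T ≤ K.map ψ) :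
    False := by
  have h3 : Cl m 0 3 := (A.num.zero 3).2 rfl
  have nW : ∀ g ∈ K ⊓ T.comap ψ, ψ g ≠ 1 → g ∉ centralizer (W : Set G) := fun g hg h1 h2 =>
    nocov kA A hR hjk hj hk hb hc hW W0 hV V0 hWV hKV (kB.cent hO.simple hT hKW hg.1 hg.2 h1 h2)
  have nV : ∀ g ∈ K ⊓ T.comap ψ, ψ g ≠ 1 → g ∉ centralizer (V : Set G) := fun g hg h1 h2 =>
    nocov kA A hR hjk.symm hk hj hc hb hV V0 hW W0 (le_centralizer_iff.1 hWV) hKW
      (kB.cent hO.simple hT hKV hg.1 hg.2 h1 h2)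
  have hK1 : (K ⊓ T.comap ψ).map ψ = T := by
    refine le_antisymm (map_le_iff_le_comap.2 inf_le_right) fun t ht => ?_
    obtain ⟨g, hg, rfl⟩ := hT ht
    exact ⟨g, ⟨hg, ht⟩, rfl⟩
  have key : ∀ s, Cl m 1 s → ∃ n, Fr T s n 3 ∧ Exp G s (n + 1) ∧ NoEx s n 3 := fun s hs => by
    obtain ⟨n, h1, h2⟩ := A.num.pow s hs
    exact ⟨n, hR.fr0 s n hs.1 h1, exp_of hs.1 A.sub h2, noEx hs.1 (A.num.ne_two hs)⟩
  have b3 := ne_of_cl A.num hj.symm h3 hb
  have c3 := ne_of_cl A.num hk.symm h3 hc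
  by_cases j1 : j = 1
  · obtain ⟨n, h1, h2, h4⟩ := key b (j1 ▸ hb)
    rcases hh_amb hK1 hb.1 hb.1 Nat.prime_three hW (inf_le_left.trans hKW) b3 b3.symm h1 h2 h4 with
      ⟨g, hg, e1, e2⟩ | h
    · exact nW g hg e1 e2
    · exact h.1 rfl
  by_cases k1 : k = 1
  · obtain ⟨n, h1, h2, h4⟩ := key c (k1 ▸ hc)
    rcases hh_amb hK1 hc.1 hc.1 Nat.prime_three hV (inf_le_left.trans hKV) c3 c3.symm h1 h2 h4 with
      ⟨g, hg, e1, e2⟩ | h
    · exact nV g hg e1 e2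
    · exact h.1 rfl
  obtain ⟨s, hs⟩ := A.num.ex 1
  obtain ⟨n, h1, h2, h4⟩ := key s hs
  have s3 := ne_of_cl A.num (by decide : (1 : Fin 5) ≠ 0) hs h3
  generalize K ⊓ T.comap ψ = K1, (inf_le_left : K ⊓ T.comap ψ ≤ K) = hle at *
  subst hK1
  obtain ⟨Q, x, hQ, hx, ⟨l, hl⟩, t, ht, hcm⟩ :=
    h1.lift (ψ.subgroupMap K1) (ψ.subgroupMap_surjective K1) hs.1 Nat.prime_three s3
  have x1 : (x : G) ^ s ^ (n + 1) = 1 := h2 x ⟨l, congrArg Subtype.val hl⟩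
  have g1 : ψ ((⁅x ^ s ^ n, t⁆ : K1) : G) ≠ 1 := fun e => hcm (by
    rw [← map_pow, ← commutatorElement_eq_one_iff_commute, ← map_commutatorElement]
    exact Subtype.ext e)
  obtain ⟨w, hw, ew, cw⟩ := hh_pt hb.1 hs.1 Nat.prime_three hW (hle.trans hKW) b3 s3 h4 hQ hx x1 ht
    (nW _ (SetLike.coe_mem _) g1)
  obtain ⟨v, hv, ev, cv⟩ := hh_pt hc.1 hs.1 Nat.prime_three hV (hle.trans hKV) c3 s3 h4 hQ hx x1 ht
    (nV _ (SetLike.coe_mem _) g1)
  have := Fact.mk hs.1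
  have ey : orderOf ((x : G) ^ s ^ n) = s := orderOf_eq_prime (by rw [← pow_mul, ← pow_succ, x1])
    fun e => hcm (by
      rw [← map_pow, show x ^ s ^ n = 1 from Subtype.ext e, map_one]
      exact Commute.one_left _)
  exact triple A.num A.sub (Ne.symm j1) (Ne.symm k1) hjk hs hb hc ey ew ev (cw.pow_left _)
    (cv.pow_left _) (hWV hv w hw)

/-- The minimal section has the colour `j`. -/
theorem core2 (kA : KitA.{u}) (kB : KitB.{u}) (A : Amb m ψ) (hO : H70.RR.One T) (hR : RG.{u} m T)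
    {i j k : Fin 5} {a b c : ℕ} (hij : i ≠ j) (hik : i ≠ k) (hjk : j ≠ k) (hj : j ≠ 0) (hk : k ≠ 0)
    (ha : Cl m i a) (hb : Cl m j b) (hc : Cl m k c) (nab : ¬ Ord ψ.ker (a * b))
    (nac : ¬ Ord ψ.ker (a * c)) {L W : Subgroup G} (hL : L ≤ ψ.ker) (aL : a ∣ Nat.card L)
    (cL : Rk c L) (hT : T ≤ (normalizer (L : Set G)).map ψ) (hW : IsElementaryAbelian b W)
    (W0 : W ≠ ⊥) (WL : W ≤ L) (hN : normalizer (L : Set G) ≤ normalizer (W : Set G)) : False := by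
  have := A.sol
  have sL : Group.IsSolvable L := Group.isSolvable_of_isSolvable_injective (inclusion_injective hL)
  have ac := ne_of_cl A.num hik ha hc
  obtain ⟨L', h1, h2, -, -, h5, -⟩ := kA.hall (K := L) {a, c} sL
  have sL' : Group.IsSolvable L' := Group.isSolvable_of_isSolvable_injective (inclusion_injective h1)
  have aL' : a ∣ Nat.card L' := (h2 a ha.1).2 ⟨Or.inl rfl, aL⟩
  obtain ⟨⟨u, hu⟩, eu⟩ := ord_of_prime ha.1 aL'
  rw [← orderOf_coe] at eu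
  change orderOf u = a at eu
  have L0 : L' ≠ ⊥ := fun e => ha.1.one_lt.ne' (by
    rw [e, mem_bot] at hu; rw [← eu, hu, orderOf_one])
  obtain ⟨r, Q, hr, QL, Q0, hQ, hn⟩ := kB.min (K := L') sL' L0 le_normalizer
  rw [sup_idem] at hn
  obtain ⟨z, hz, ez⟩ := exists_ord_of_elem hr hQ Q0
  have rc : r = c := by
    rcases ((h2 r hr).1 (ez ▸ orderOf_dvd_natCard _ (QL hz))).1 with rfl | h
    · obtain ⟨x, hx, v, hv, ex, ev, c1⟩ := kA.f1 hc.1 hr ac.symm (h5 c (Or.inr rfl) hc.1 cL)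
        (pg hQ) Q0 hn
      exact absurd (ord_two (hL (h1 (QL hv))) (hL (h1 hx)) ev ex (A.num.cop hik ha hc) c1.symm) nac
    · exact h
  subst rc
  have LW : L ≤ normalizer (W : Set G) := le_normalizer.trans hN
  have XL : zpowers u ≤ L' := zpowers_le_of_mem hu
  have c1 : ⁅zpowers u, Q⁆ ≤ centralizer (W : Set G) := by
    by_contra hne
    refine A.num.ne_two hc (H22.hh_prime_fix_sub hb.1 hc.1 ha.1 (ne_of_cl A.num hjk hb hc) ac
      (zpowers u) Q W (by rw [Nat.card_zpowers, eu]) (pg hQ) (XL.trans hn) hW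
      (XL.trans (h1.trans LW)) (QL.trans (h1.trans LW)) ?_ hne).1
    by_contra h0
    obtain ⟨w, hw, ew⟩ := exists_ord_of_elem (W := W ⊓ centralizer (zpowers u : Set G)) hb.1
      ⟨IsMulCommutative.of_comm fun x y => Subtype.ext
        (congrArg (fun z : W => (z : G)) (hW.1.is_comm.comm ⟨x.1, x.2.1⟩ ⟨y.1, y.2.1⟩)),
        fun x hx => hW.2 x hx.1⟩ h0
    exact nab (ord_two (hL (h1 hu)) (hL (WL hw.1)) eu ew (A.num.cop hij ha hb)
      (hw.2 u (mem_zpowers u)))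
  have z1 : ⁅u, z⁆ ≠ 1 := fun e => nac (ord_two (hL (h1 hu)) (hL (h1 (QL hz))) eu ez
    (A.num.cop hik ha hc) (commutatorElement_eq_one_iff_commute.1 e))
  have zQ : ⁅u, z⁆ ∈ Q := by
    rw [commutatorElement_def]
    exact mul_mem (conj_mem_of_mem_normalizer (hn hu) hz) (inv_mem hz)
  have := Fact.mk hr
  have cM : r ∣ Nat.card ↥(L ⊓ centralizer (W : Set G)) :=
    orderOf_eq_prime (hQ.2 _ zQ) z1 ▸ orderOf_dvd_natCard _
      (show ⁅u, z⁆ ∈ L ⊓ centralizer (W : Set G) from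
        ⟨h1 (QL zQ), c1 (commutator_mem_commutator (mem_zpowers u) hz)⟩)
  obtain ⟨P, V, hP, VP, V0, hV, -, hNP, hcov⟩ := kB.syl (K := normalizer (L : Set G)) hr
    (inf_le_left.trans le_normalizer) (le_normalizer_inf le_rfl (le_normalizer_centralizer hN)) cM
  exact final kA kB A hO hR hjk hj hk hb hc hW W0 hV V0 (VP.trans (hP.le.trans inf_le_right))
    (inf_le_left.trans hN) (inf_le_right.trans hNP) (cover hT (inf_le_left.trans hL) hcov)

/-- Three colours divide the order of the radical, one with cyclic Sylow subgroups. -/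
theorem core (kA : KitA.{u}) (kB : KitB.{u}) (hT : JobT.{u}) (A : Amb m ψ) (hO : H70.RR.One T)
    (hR : RG.{u} m T) {i j k : Fin 5} {a b c : ℕ} (hij : i ≠ j) (hik : i ≠ k) (hjk : j ≠ k)
    (hi : i ≠ 0) (hj : j ≠ 0) (hk : k ≠ 0) (ha : Cl m i a) (hb : Cl m j b) (hc : Cl m k c)
    (aR : a ∣ Nat.card ψ.ker) (bR : b ∣ Nat.card ψ.ker) (cR : c ∣ Nat.card ψ.ker) :
    Rk a ψ.ker := by
  by_contra hk0
  have := A.sol
  have nab := claimC kB kA hT A hO hR hij hi hj ha hb hk0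
  have nac := claimC kB kA hT A hO hR hik hi hk ha hc hk0
  have ab := ne_of_cl A.num hij ha hb
  have ac := ne_of_cl A.num hik ha hc
  have bc : Ord ψ.ker (b * c) := ((H5.three_primes ha.1 hb.1 hc.1 ab ac
    (ne_of_cl A.num hjk hb hc) aR bR cR).resolve_left nab).resolve_left nac
  have rb : Rk b ψ.ker := by_contra fun h => claimC kB kA hT A hO hR hjk hj hk hb hc h bc
  have rc : Rk c ψ.ker := by_contra fun h =>
    claimC kB kA hT A hO hR hjk.symm hk hj hc hb h (mul_comm b c ▸ bc)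
  obtain ⟨L, h1, h2, -, -, h5, h6⟩ := kA.hall (K := ψ.ker) {a, b, c} A.sol
  have sL : Group.IsSolvable L := Group.isSolvable_of_isSolvable_injective (inclusion_injective h1)
  have aL : a ∣ Nat.card L := (h2 a ha.1).2 ⟨Or.inl rfl, aR⟩
  have bL := h5 b (Or.inr (Or.inl rfl)) hb.1 rb
  have cL := h5 c (Or.inr (Or.inr rfl)) hc.1 rc
  have hcov : T ≤ (normalizer (L : Set G)).map ψ := by
    have := h6 ⊤ le_top (normalizer_eq_top _).ge
    rw [top_inf_eq] at this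
    exact cover (K := ⊤)
      (by rw [← MonoidHom.range_eq_map, MonoidHom.range_eq_top.2 A.sj]; exact le_top) le_rfl this
  have L0 : L ≠ ⊥ := fun e => ha.1.one_lt.ne' (by rwa [e, card_bot, Nat.dvd_one] at aL)
  obtain ⟨r, W, hr, WL, W0, hW, hn⟩ := kB.min (K := normalizer (L : Set G)) sL L0 le_rfl
  obtain ⟨z, hz, ez⟩ := exists_ord_of_elem hr hW W0
  rcases ((h2 r hr).1 (ez ▸ orderOf_dvd_natCard _ (WL hz))).1 with rfl | rfl | rfl
  · obtain ⟨x, hx, v, hv, ex, ev, c1⟩ := kA.f1 hb.1 hr ab.symm bL (pg hW) W0 (le_sup_right.trans hn)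
    exact nab (ord_two (h1 (WL hv)) (h1 hx) ev ex (A.num.cop hij ha hb) c1.symm)
  · exact core2 kA kB A hO hR hij hik hjk hj hk ha hb hc nab nac h1 aL cL hcov hW W0 WL
      (le_sup_left.trans hn)
  · exact core2 kA kB A hO hR hik hij hjk.symm hk hj ha hc hb nac nab h1 aL bL hcov hW W0 WL
      (le_sup_left.trans hn)

/-- One of two colours divides the order of the radical. -/
theorem one_dvd (A : Amb m ψ) (hF : Full m G) (hO : H70.RR.One T) (hR : RG.{u} m T) {i j : Fin 5} {a b : ℕ}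
    (hij : i ≠ j) (ha : Cl m i a) (hb : Cl m j b) (na : ¬ a ∣ 2 * m + 1) (nb : ¬ b ∣ 2 * m + 1) :
    a ∣ Nat.card ψ.ker ∨ b ∣ Nat.card ψ.ker := by
  by_contra! h
  obtain ⟨g, hg⟩ := hF i j a b hij ha hb
  have := hO.nT
  have h1 : ψ g ∈ T := by
    have := mem_sup_of_out (T := T) (g := ψ g) (by
      rw [hR.out]
      exact Nat.Coprime.coprime_dvd_left (hg ▸ orderOf_map_dvd ψ g)
        (Nat.Coprime.mul_left ((ha.1.coprime_iff_not_dvd).2 na) ((hb.1.coprime_iff_not_dvd).2 nb)))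
    rwa [hO.cent, sup_bot_eq] at this
  obtain ⟨k, hk⟩ := hR.sub ⟨_, h1⟩
  refine A.num.mono i j a b k hij ha hb (Dvd.dvd.trans ?_ hk)
  rw [← hg, ← orderOf_coe]
  refine orderOf_dvd_of_pow_eq_one (orderOf_eq_one_iff.1 (Nat.eq_one_of_dvd_coprimes
    (Nat.Coprime.mul_left ((ha.1.coprime_iff_not_dvd).2 h.1) ((hb.1.coprime_iff_not_dvd).2 h.2))
    (hg ▸ orderOf_pow_dvd _) (orderOf_dvd_natCard _ ?_)))
  rw [MonoidHom.mem_ker, map_pow]
  exact pow_orderOf_eq_one _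

end

theorem third : ∀ κ i : Fin 5, κ ≠ 0 → i ≠ 0 → i ≠ κ →
    ∃ j k, i ≠ j ∧ i ≠ k ∧ j ≠ k ∧ j ≠ 0 ∧ k ≠ 0 ∧ j ≠ κ ∧ k ≠ κ := by decide

theorem jobK1R (kA : KitA.{u}) (kB : KitB.{u}) (hT : JobT.{u}) : JobK1R.{u} := by
  intro m G H _ _ _ _ ψ A hF T hO hR
  have := A.sol
  obtain ⟨p, hp, hp'⟩ : ∃ p : Fin 5 → ℕ, (∀ i, Cl m i (p i)) ∧ ∀ i, i ≠ 0 → ¬ p i ∣ 2 * m + 1 := by
    have : ∀ i : Fin 5, ∃ s, Cl m i s ∧ (i ≠ 0 → ¬ s ∣ 2 * m + 1) := fun i => by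
      by_cases h : i = 0
      · exact (A.num.ex i).imp fun s hs => ⟨hs, fun h' => absurd h h'⟩
      · exact (A.num2.ndvd i h).imp fun s hs => ⟨hs.1, fun _ => hs.2⟩
    choose p h1 h2 using this
    exact ⟨p, h1, h2⟩
  obtain ⟨κ, κ0, hκ⟩ : ∃ κ : Fin 5, κ ≠ 0 ∧ ∀ i, i ≠ 0 → i ≠ κ → p i ∣ Nat.card ψ.ker := by
    by_cases h : ∃ κ : Fin 5, κ ≠ 0 ∧ ¬ p κ ∣ Nat.card ψ.ker
    · obtain ⟨κ, h0, h1⟩ := h
      exact ⟨κ, h0, fun i hi e => (one_dvd A hF hO hR e (hp i) (hp κ) (hp' i hi)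
        (hp' κ h0)).resolve_right h1⟩
    · push Not at h
      exact ⟨1, by decide, fun i hi _ => h i hi⟩
  have rk : ∀ i, i ≠ 0 → i ≠ κ → Rk (p i) ψ.ker := fun i h0 h1 => by
    obtain ⟨j, k, e1, e2, e3, e4, e5, e6, e7⟩ := third κ i κ0 h0 h1
    exact core kA kB hT A hO hR e1 e2 e3 h0 e4 e5 (hp i) (hp j) (hp k) (hκ i h0 h1) (hκ j e4 e6)
      (hκ k e5 e7)
  obtain ⟨E, -, hE, nE⟩ := kA.top hR.rk3
  have sK : Group.IsSolvable (E.comap ψ) := kB.sol (N := ⊤) A.sol inferInstance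
    (by rw [index_top]; exact odd_one) (by
      rw [inf_top_eq]
      exact Group.isSolvable_of_comm hE.1.is_comm.comm)
  have rK : ∀ i, i ≠ κ → Rk (p i) (E.comap ψ) := fun i hi => by
    by_cases h0 : i = 0
    · rw [(A.num.zero (p i)).1 (h0 ▸ hp i)]
      exact kA.lift Nat.prime_three (by decide) (map_comap_eq_self_of_surjective A.sj E).ge
        ⟨E, le_rfl, hE, nE⟩
    · exact (rk i h0 hi).mono (ker_le_comap ψ E)
  exact kA.k4 A.num A.sub sK (fun i _ => hp i) fun i j hi hj hij =>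
    kA.nc2 (hp i).1 (hp j).1 (ne_of_cl A.num hij (hp i) (hp j)) sK (rK i hi) (rK j hj)

end H87.RRK
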