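/- Tower SP4, odd characteristic: a non-trivial normal subgroup makes the system constrained. -/
import Cfsg.Agent.H87.S4F1

set_option autoImplicit false

namespace H87.S4
open Cfsg Cfsg.FusionSystem H92 H92.Es H93 Subgroup

universe u v

variable {K : Type v} {Ω : Type u} [Field K] [Group Ω] {S : Subgroup Ω} {m : K → K → K → K → Ω}
  {F : FusionSystem S} {A' B E : Subgroup Ω} {c y w a l l' : K} {g t t' x : Ω} {p : ℕ}

/-- `t` inverts `A'` modulo `B`. -/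
def Iv (A' B : Subgroup Ω) (t : Ω) : Prop := t ∈ Nm B ∧ ∀ x ∈ A', x * (t * x * t⁻¹) ∈ B

theorem Iv.div (h : Iv A' B t) (h' : Iv A' B t') : t⁻¹ * t' ∈ Tv A' B :=
  ⟨mul_mem ((Nm B).inv_mem h.1) h'.1, fun x hx => by
    have := conj_mem_of_Nm' h.1 (B.mul_mem (B.inv_mem (h.2 x hx)) (h'.2 x hx))
    convert this using 1; group⟩

theorem Iv.conj (h : Iv A' B t) (h1 : g ∈ Nm A') (h2 : g ∈ Nm B) : Iv A' B (g⁻¹ * t * g) :=
  ⟨mul_mem (mul_mem ((Nm B).inv_mem h2) h.1) h2, fun x hx => by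
    have := conj_mem_of_Nm' h2 (h.2 _ (conj_mem_of_Nm h1 hx))
    convert this using 1; group⟩

/-- The signs of the involution on the layers of `S`. -/
def Tau (F : FusionSystem S) (h : Co S m) (t : Ω) : Prop :=
  t ∈ Aut F S ∧ Iv S h.V t ∧ t ∈ Tv h.V h.Y ∧ Iv h.Y h.Z t ∧ t ∈ Ct h.Z

variable (h : Co S m) (h2 : (2 : K) ≠ 0)
include h h2

theorem Tau.conj (ht : Tau F h t) (hg : g ∈ Aut F S) : Tau F h (g⁻¹ * t * g) := by
  have n := Aut_le_Nm F S hg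
  obtain ⟨e1, e2, e3⟩ := h.nmS h2 n
  exact ⟨mul_mem (mul_mem ((Aut F S).inv_mem hg) ht.1) hg, ht.2.1.conj n e3,
    conj_mem_of_Nm' (mem_Nm_Tv e3 e2) ht.2.2.1, ht.2.2.2.1.conj e2 e1,
    conj_mem_of_Nm' (mem_Nm_Ct e1) ht.2.2.2.2⟩

theorem Tau.mem_Q (ht : Tau F h t) (hQ : ∀ x ∈ h.Q l, x * (t * x * t⁻¹) ∈ h.Y) (hx : x ∈ S)
    (e : x * (t * x * t⁻¹) ∈ h.Y) : x ∈ h.Q l := by
  obtain ⟨c, y, w, a, rfl⟩ := h.surj x hx
  obtain ⟨y1, w1, e1⟩ := h.exY (hQ (m (l * a) 0 0 a) (by simp))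
  obtain ⟨y2, w2, e2⟩ := h.exY (ht.2.2.1.2 (m (c - l * a) y w 0) (by simp))
  have r : m c y w a = m (c - l * a) y w 0 * m (l * a) 0 0 a := by rw [h.mul]; simp
  have r' : t * m c y w a * t⁻¹ =
      (m (c - l * a) y w 0 * m 0 y2 w2 0) * ((m (l * a) 0 0 a)⁻¹ * m 0 y1 w1 0) := by
    rw [← e1, ← e2]; conv_lhs => rw [r]
    group
  rw [r'] at e
  simp only [h.inv, h.mul, Co.mem_Y] at e
  exact h.mem_Q.2 (mul_left_cancel₀ h2 (by linear_combination e.1))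

variable [hp : Fact p.Prime] [Finite Ω] (hF : SatA p F)
include hF

omit h2 in
theorem Tau.trans (ht : Tau F h t) (ht' : Tau F h t') (hx : x ∈ S)
    (e : x * (t * x * t⁻¹) ∈ h.Y) : x * (t' * x * t'⁻¹) ∈ h.Y := by
  have e1 : t⁻¹ * t' ∈ S ⊔ Ct S := st_le hF le_rfl (le_Nm S) (L := [h.V, h.Y, h.Z])
    (by simpa using ⟨h.V_le, h.Y_le, h.Z_le⟩)
    (fun s hs => ⟨mem_Tv_mono (h.S_Tv hs) h.Y_le_V h.V_le, h.S_St h.V_le hs⟩)
    ⟨mul_mem ((Aut F S).inv_mem ht.1) ht'.1, ht.2.1.div ht'.2.1,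
      mul_mem ((Tv _ _).inv_mem ht.2.2.1) ht'.2.2.1, ht.2.2.2.1.div ht'.2.2.2.1,
      mul_mem ((Ct _).inv_mem ht.2.2.2.2) ht'.2.2.2.2⟩
  have e2 : t⁻¹ * t' ∈ Tv S h.Y := sup_le h.S_Tv
    (fun _ hc => mem_Tv_of_Ct hc (Ct_le_Nm _ (Ct_anti h.Y_le hc))) e1
  have := mul_mem e (conj_mem_of_Nm ht.2.2.1.1 (e2.2 x hx))
  convert this using 1; group

variable [Finite K] [CharP K p]

/-- The torus and the Weyl element of an essential `Q l`. -/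
theorem essQ (hS : JobSP.{v}) (hE : F.IsEssential p (h.Q l)) :
    (∀ s, s ≠ 0 → ∃ k ∈ Aut F S, k ∈ Ct h.Z ∧
      (∀ y w, ∃ w', k * m 0 y w 0 * k⁻¹ = m 0 (s * y) w' 0) ∧
      (∀ y w a, ∃ y' w', k * m (l * a) y w a * k⁻¹ = m (l * (s⁻¹ * a)) y' w' (s⁻¹ * a)) ∧
      ∀ c y w, ∃ y' w', k * m c y w 0 * k⁻¹ = m (s ^ 2 * c) y' w' 0) ∧
    ∃ g ∈ Aut F (h.Q l), ∀ y w, g * m 0 y w 0 * g⁻¹ ∈ h.V → y = 0 := by
  have hZ : Aut F (h.Q l) ≤ Nm h.Z := fun g hg =>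
    h.cenQ h2 l ▸ mem_Nm_inf (Aut_le_Nm F _ hg) (mem_Nm_Ct (Aut_le_Nm F _ hg))
  have hn : S ≤ Nm (h.Q l) := h.le_Nm (h.Y_le_Q l) (h.Q_le l)
  have hA : S ≤ Aut F (h.Q l) := fun s hs => Nm_le_Aut F _ ⟨hs, hn hs⟩
  let π : Ω → K × K := fun g => ((h.co g).2.2.2, (h.co g).2.1 - l * (h.co g).2.2.2 ^ 2 / 2)
  have hπ : ∀ c y w a, π (m c y w a) = (a, y - l * a ^ 2 / 2) := fun c y w a => by simp [π]
  have ker : ∀ x ∈ h.Q l, π x = 0 ↔ x ∈ h.Z := fun x hx => by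
    obtain ⟨y, w, a, rfl⟩ := h.exQ hx
    rw [hπ, Prod.ext_iff, h.mem_Z]
    exact ⟨fun ⟨e1, e2⟩ => by obtain rfl : a = 0 := e1; simpa using e2,
      by rintro ⟨-, rfl, rfl⟩; simp⟩
  obtain ⟨I, hI⟩ := exists_act p (E := h.Q l) (π := π) (fun x hx x' hx' => by
      obtain ⟨y, w, a, rfl⟩ := h.exQ hx
      obtain ⟨y', w', a', rfl⟩ := h.exQ hx'
      rw [h.mul, hπ, hπ, hπ]
      exact Prod.ext rfl (by simp only [Prod.snd_add]; field_simp; ring))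
    (fun v => ⟨m (l * v.1) (v.2 + l * v.1 ^ 2 / 2) 0 v.1, by simp, by simp [hπ]⟩) (Aut_le_Nm F _)
    fun g hg x hx e => (ker _ (conj_mem_of_Nm (Aut_le_Nm F _ hg) hx)).2
      (conj_mem_of_Nm (hZ hg) ((ker x hx).1 e))
  have act : ∀ {g γ}, g ∈ Aut F (h.Q l) → (∀ x ∈ h.Q l, γ (π x) = π (g * x * g⁻¹)) →
      ∀ y w a, ∃ y' w' a', g * m (l * a) y w a * g⁻¹ = m (l * a') y' w' a' ∧
        (γ : A (K × K)) (a, y - l * a ^ 2 / 2) = (a', y' - l * a' ^ 2 / 2) := fun hg r y w a => by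
    obtain ⟨y', w', a', e⟩ := h.exQ (conj_mem_of_Nm (Aut_le_Nm F _ hg)
      (h.mem_Q.2 rfl : m (l * a) y w a ∈ h.Q l))
    exact ⟨y', w', a', e, by rw [← hπ (l * a) y w, r _ (h.mem_Q.2 rfl), e, hπ]⟩
  have sy := syl_act hF hI hE.2.1
  rw [inf_eq_left.2 hn] at sy
  have cS : ∀ {c' y' w' a' : K} {γ : A (K × K)},
      (∀ x ∈ h.Q l, γ (π x) = π (m c' y' w' a' * x * (m c' y' w' a')⁻¹)) →
      ∀ x y, γ (x, y) = (x, y + (l * a' - c') * x) := fun r x y => by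
    have := r (m (l * x) (y + l * x ^ 2 / 2) 0 x) (h.mem_Q.2 rfl)
    rw [h.conj, hπ, hπ, add_sub_cancel_right] at this
    rw [this]; congr 1; ring
  obtain ⟨φ, -, tor, γ, hγ, wy⟩ := hS p K (I (Aut F (h.Q l))) (I (Aut F (h.Q l) ⊓ Ct h.Z)) (I S)
    (fun γ => (hI.mem S hA γ).trans ⟨fun ⟨s, hs, r⟩ => by
      obtain ⟨c', y', w', a', rfl⟩ := h.surj s hs
      exact ⟨_, cS r⟩, fun ⟨t, e⟩ => by
      obtain ⟨γ', r⟩ := hI.ex _ (hA (h.mem (-t) 0 0 0))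
      obtain rfl : γ = γ' := LinearEquiv.ext fun v => by
        rw [show v = (v.1, v.2) from rfl, e, cS r]; simp
      exact ⟨_, h.mem .., r⟩⟩) sy (hI.mono _ _ (le_inf hA h.Z_cen))
    (hI.nm _ _ inf_le_left le_rfl fun g hg => mem_Nm_inf (le_Nm _ hg) (mem_Nm_Ct (hZ hg))) (by
      by_contra hc
      push Not at hc
      refine not_YZ hF h hE (h.Y_le_Q l) hZ fun g hg => mem_Nm_of_conj fun x hx => ?_
      obtain ⟨y, w, rfl⟩ := h.exY hx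
      obtain ⟨γ, r⟩ := hI.ex g hg
      obtain ⟨y', w', a', e1, e2⟩ := act hg r y w 0
      have := hc γ ((hI.mem _ le_rfl γ).2 ⟨g, hg, r⟩) (y - l * 0 ^ 2 / 2)
      rw [e2] at this
      obtain rfl : a' = 0 := this
      rw [mul_zero] at e1
      rw [e1]; simp)
  refine ⟨fun s hs => ?_, ?_⟩
  · obtain ⟨γ, hγ, d⟩ := tor s hs
    obtain ⟨g, hg, r⟩ := (hI.mem _ inf_le_left γ).1 hγ
    have a1 : ∀ y w a, ∃ y' w', g * m (l * a) y w a * g⁻¹ = m (l * (s⁻¹ * a)) y' w' (s⁻¹ * a) :=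
      fun y w a => by
      obtain ⟨y', w', a', e1, e2⟩ := act hg.1 r y w a
      rw [← sub_add_cancel (y - l * a ^ 2 / 2) (φ a), d] at e2
      obtain rfl : s⁻¹ * a = a' := congrArg Prod.fst e2
      exact ⟨y', w', e1⟩
    have a2 : ∀ y w, ∃ w', g * m 0 y w 0 * g⁻¹ = m 0 (s * y) w' 0 := fun y w => by
      obtain ⟨y', w', a', e1, e2⟩ := act hg.1 r y w 0
      have := d 0 y
      simp only [map_zero, add_zero, mul_zero] at this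
      simp only [ne_eq, OfNat.ofNat_ne_zero, not_false_eq_true, zero_pow, mul_zero, zero_div,
        sub_zero, this, Prod.mk.injEq] at e1 e2
      obtain ⟨rfl, e2⟩ := e2
      exact ⟨w', by rw [e1, e2]; simp⟩
    obtain ⟨k, hk, e⟩ := ext_chain hF (h.Q_le l) hn (L := [h.Y, h.Z])
      (by simpa using ⟨h.Y_le, h.Z_le⟩) (h.S_St (h.Q_le l)) hg.1 (by
        simp only [List.mem_cons, List.not_mem_nil, or_false, forall_eq_or_imp, forall_eq]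
        refine ⟨mem_Nm_of_conj fun x hx => ?_, hZ hg.1⟩
        obtain ⟨y, w, rfl⟩ := h.exY hx
        obtain ⟨w', e⟩ := a2 y w
        rw [e]; simp)
    have ek := conj_eq_iff_Ct.2 e
    have b1 : ∀ y w a, ∃ y' w', k * m (l * a) y w a * k⁻¹ = m (l * (s⁻¹ * a)) y' w' (s⁻¹ * a) :=
      fun y w a => by rw [ek _ (h.mem_Q.2 rfl)]; exact a1 y w a
    have b2 : ∀ y w, ∃ w', k * m 0 y w 0 * k⁻¹ = m 0 (s * y) w' 0 :=
      fun y w => by rw [ek _ (by simp)]; exact a2 y w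
    refine ⟨k, hk, mem_of_div hg.2 e (Ct_anti (h.Z_le_Y.trans (h.Y_le_Q l))), b2, b1,
      fun c y w => ?_⟩
    obtain ⟨c1, y1, w1, e1⟩ := h.exV (conj_mem_of_Nm (h.nmS h2 (Aut_le_Nm F S hk)).2.2
      (h.mem_V.2 rfl : m c y w 0 ∈ h.V))
    obtain ⟨y2, w2, e2⟩ := b1 0 0 1
    obtain ⟨w3, e3⟩ := b2 (1 * c - 0 * (l * 1)) (2 * 1 * y + 1 ^ 2 * c - 2 * 0 * 0 + 0 ^ 2 * (l * 1)
      - 2 * 0 * 1 * c)
    have e4 := h.tv (l * (s⁻¹ * 1)) y2 w2 (s⁻¹ * 1) c1 y1 w1 0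
    rw [← e1, ← e2] at e4
    rw [← h.tv (l * 1) 0 0 1 c y w 0] at e3
    have e5 := (h.inj ((e4.symm.trans (by group)).trans e3)).2.1
    obtain rfl : c1 = s ^ 2 * c := by field_simp at e5; linear_combination e5
    exact ⟨y1, w1, e1⟩
  · obtain ⟨g, hg, r⟩ := (hI.mem _ inf_le_left γ).1 hγ
    refine ⟨g, hg.1, fun y w e => ?_⟩
    obtain ⟨y', w', a', e1, e2⟩ := act hg.1 r y w 0
    have := wy 0 y
    simp only [map_zero, add_zero] at this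
    simp only [ne_eq, OfNat.ofNat_ne_zero, not_false_eq_true, zero_pow, mul_zero, zero_div,
      sub_zero, this, Prod.mk.injEq] at e1 e2
    rw [e1, h.mem_V] at e
    exact e2.1.trans e

theorem tauQ (hS : JobSP.{v}) (hE : F.IsEssential p (h.Q l)) :
    ∃ t, Tau F h t ∧ ∀ x ∈ h.Q l, x * (t * x * t⁻¹) ∈ h.Y := by
  obtain ⟨t, ht, hc, b2, b1, b3⟩ := (essQ h h2 hF hS hE).1 (-1) (by simp)
  obtain ⟨e1, e2, e3⟩ := h.nmS h2 (Aut_le_Nm F S ht)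
  refine ⟨t, ⟨ht, ⟨e3, fun x hx => ?_⟩, ⟨e2, fun x hx => ?_⟩, ⟨e1, fun x hx => ?_⟩, hc⟩,
    fun x hx => ?_⟩
  · obtain ⟨c, y, w, a, rfl⟩ := h.surj x hx
    obtain ⟨y1, w1, r1⟩ := b1 0 0 a
    obtain ⟨y2, w2, r2⟩ := b3 (c - l * a) y w
    have r : m c y w a = m (c - l * a) y w 0 * m (l * a) 0 0 a := by rw [h.mul]; simp
    have r' : t * m c y w a * t⁻¹ =
        (t * m (c - l * a) y w 0 * t⁻¹) * (t * m (l * a) 0 0 a * t⁻¹) := by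
      conv_lhs => rw [r]
      group
    rw [r', r1, r2]
    simp [h.mul]
  · obtain ⟨c, y, w, rfl⟩ := h.exV hx
    obtain ⟨y2, w2, r2⟩ := b3 c y w
    rw [r2]; simp [h.inv, h.mul]
  · obtain ⟨y, w, rfl⟩ := h.exY hx
    obtain ⟨w2, r2⟩ := b2 y w
    rw [r2]; simp [h.mul]
  · obtain ⟨y, w, a, rfl⟩ := h.exQ hx
    obtain ⟨y2, w2, r2⟩ := b1 y w a
    rw [r2]; simp [h.mul]

theorem Q_uniq (hS : JobSP.{v}) (hE : F.IsEssential p (h.Q l)) (hE' : F.IsEssential p (h.Q l')) :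
    h.Q l' ≤ h.Q l := fun x hx => by
  obtain ⟨t, ht, e⟩ := tauQ h h2 hF hS hE
  obtain ⟨t', ht', e'⟩ := tauQ h h2 hF hS hE'
  exact ht.mem_Q h h2 e (h.Q_le _ hx) (ht'.trans h hF ht (h.Q_le _ hx) (e' x hx))

theorem Q_inv (hS : JobSP.{v}) (hE : F.IsEssential p (h.Q l)) : Aut F S ≤ Nm (h.Q l) :=
  fun g hg => mem_Nm_of_conj fun x hx => by
  obtain ⟨t, ht, e⟩ := tauQ h h2 hF hS hE
  refine ht.mem_Q h h2 e (conj_mem_of_Nm (Aut_le_Nm F S hg) (h.Q_le _ hx)) ?_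
  have := conj_mem_of_Nm (h.nmS h2 (Aut_le_Nm F S hg)).2.1
    (ht.trans h hF (ht.conj h h2 hg) (h.Q_le _ hx) (e x hx))
  convert this using 1; group

theorem not_both (hS : JobSP.{v}) (h3 : V3.{v}) (hp2 : p ≠ 2) (h0 : F.core ≠ ⊥)
    (hE : F.IsEssential p (h.Q l)) (hV : F.IsEssential p h.V) : False := by
  obtain ⟨tor, g, hg, wy⟩ := essQ h h2 hF hS hE
  have hc := isNormal_core F
  have RQ := le_of_normal_of_essential hF.pg hF.sat hc hE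
  have RV := le_of_normal_of_essential hF.pg hF.sat hc hV
  have RZ : F.core ≤ h.Z := fun r hr => by
    obtain ⟨y, w, rfl⟩ := h.exY (h.V_inf_Q l ▸ ⟨RV hr, RQ hr⟩ : r ∈ h.Y)
    obtain rfl := wy y w (RV (conj_mem_of_Nm (Aut_le_Nm_of_normal hF hc hE.1.1 RQ hg) hr))
    simp
  have hn : S ≤ Nm h.V := h.le_Nm h.Y_le_V h.V_le
  have hA : S ≤ Aut F h.V := fun s hs => Nm_le_Aut F _ ⟨hs, hn hs⟩
  let π : Ω → K × K × K := fun g => ((h.co g).1, (h.co g).2.1, (h.co g).2.2.1)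
  have hπ : ∀ c y w a, π (m c y w a) = (c, y, w) := fun c y w a => by simp [π]
  obtain ⟨I, hI⟩ := exists_act p (E := h.V) (π := π) (fun x hx x' hx' => by
      obtain ⟨c, y, w, rfl⟩ := h.exV hx
      obtain ⟨c', y', w', rfl⟩ := h.exV hx'
      rw [h.mul, hπ, hπ, hπ]; simp)
    (fun v => ⟨m v.1 v.2.1 v.2.2 0, by simp, hπ ..⟩) (Aut_le_Nm F _) fun g _ x hx e => by
      obtain ⟨c, y, w, rfl⟩ := h.exV hx
      rw [hπ] at e
      obtain ⟨rfl, rfl, rfl⟩ : c = 0 ∧ y = 0 ∧ w = 0 := by simpa using e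
      rw [h.one, mul_one, mul_inv_cancel, ← h.one, hπ]; rfl
  have act : ∀ {g} {γ : A (K × K × K)}, (∀ x ∈ h.V, γ (π x) = π (g * x * g⁻¹)) →
      ∀ {c y w c' y' w'}, g * m c y w 0 * g⁻¹ = m c' y' w' 0 → γ (c, y, w) = (c', y', w') :=
    fun r c y w c' y' w' e => by rw [← hπ c y w 0, r _ (h.mem_V.2 rfl), e, hπ]
  have sy := syl_act hF hI hV.2.1
  rw [inf_eq_left.2 hn] at sy
  have cS : ∀ {c' y' w' a' : K} {γ : A (K × K × K)},
      (∀ x ∈ h.V, γ (π x) = π (m c' y' w' a' * x * (m c' y' w' a')⁻¹)) →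
      ∀ c y w, γ (c, y, w) = (c, y + a' * c, w + 2 * a' * y + a' ^ 2 * c) := fun r c y w =>
    act r (by rw [h.conj]; simp)
  obtain ⟨⟨r, hr⟩, r1⟩ := (Subgroup.ne_bot_iff_exists_ne_one).1 h0
  obtain ⟨w0, rfl⟩ := h.exZ (RZ hr)
  have key := h3 p K (I (Aut F h.V)) (I S) hp2 ⟨fun γ => (hI.mem S hA γ).trans ⟨fun ⟨s, hs, r⟩ => by
      obtain ⟨c', y', w', a', rfl⟩ := h.surj s hs
      exact ⟨_, cS r⟩, fun ⟨t, e⟩ => by
      obtain ⟨γ', r⟩ := hI.ex _ (hA (h.mem 0 0 0 t))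
      obtain rfl : γ = γ' := LinearEquiv.ext fun v => by
        rw [show v = (v.1, v.2.1, v.2.2) from rfl, e, cS r]
      exact ⟨_, h.mem .., r⟩⟩, sy⟩ (fun s hs => ?_) w0
    (fun e => r1 (Subtype.ext (by simp [e, h.one]))) fun γ hγ => ?_
  · have f : ∀ g ∈ Aut F h.V, ∀ c y w, ∃ γ, (PZ γ ∧ PY γ) ∧ ∃ c' y' w',
        g * m c y w 0 * g⁻¹ = m c' y' w' 0 ∧ γ (c, y, w) = (c', y', w') := fun g hg c y w => by
      obtain ⟨γ, r⟩ := hI.ex g hg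
      obtain ⟨c', y', w', e⟩ := h.exV (conj_mem_of_Nm (Aut_le_Nm F _ hg)
        (h.mem_V.2 rfl : m c y w 0 ∈ h.V))
      exact ⟨γ, key γ ((hI.mem _ le_rfl γ).2 ⟨g, hg, r⟩), c', y', w', e, act r e⟩
    refine not_YZ hF h hV h.Y_le_V (fun g hg => mem_Nm_of_conj fun x hx => ?_)
      fun g hg => mem_Nm_of_conj fun x hx => ?_
    · obtain ⟨w, rfl⟩ := h.exZ hx
      obtain ⟨γ, k, c', y', w', e1, e2⟩ := f g hg 0 0 w
      obtain ⟨w1, e3⟩ := k.1 w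
      rw [e1]; simpa using (by simpa [e3, eq_comm] using e2 : c' = 0 ∧ y' = 0 ∧ w' = w1).imp_right
        And.left
    · obtain ⟨y, w, rfl⟩ := h.exY hx
      obtain ⟨γ, k, c', y', w', e1, e2⟩ := f g hg 0 y w
      have := k.2 y w
      rw [e2] at this
      rw [e1]; simpa using this
  · obtain ⟨k, hk, hc, b2, -, b3⟩ := tor s hs
    have hk' := mem_Aut_of_le hk le_rfl h.V_le (h.nmS h2 (Aut_le_Nm F S hk)).2.2
    obtain ⟨γ, r⟩ := hI.ex k hk'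
    refine ⟨γ, (hI.mem _ le_rfl γ).2 ⟨k, hk', r⟩, fun c y w => ?_, fun y w => ?_,
      fun w => act r (conj_eq_of_Ct hc (by simp))⟩
    · obtain ⟨y', w', e⟩ := b3 c y w
      rw [act r e]
    · obtain ⟨w', e⟩ := b2 y w
      rw [act r e]
  · obtain ⟨g, hg, r⟩ := (hI.mem _ le_rfl γ).1 hγ
    obtain ⟨w, e⟩ := h.exZ (RZ (conj_mem_of_Nm (Aut_le_Nm_of_normal hF hc hV.1.1 RV hg) hr))
    exact ⟨w, act r e⟩

omit h h2 hF hp [Finite Ω] [Finite K] [CharP K p] in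
theorem jobFO : JobFO.{u, v} := fun hT hS h3 p _ K _ _ _ Ω _ _ S F m hp2 hF h h0 => by
  have h2 : (2 : K) ≠ 0 := fun e => hp2 ((Nat.prime_dvd_prime_iff_eq Fact.out Nat.prime_two).1
    ((CharP.cast_eq_zero_iff K p 2).1 (by exact_mod_cast e)))
  by_cases hQ : ∃ l, F.IsEssential p (h.Q l)
  · obtain ⟨l, hl⟩ := hQ
    refine SatA.constrained_of hF (normal_of_ess hF (Q := h.Q l) ?_) (centric_Ct_le hl.1)
    rintro P (rfl | hP)
    · exact ⟨h.Q_le l, Q_inv h h2 hF hS hl⟩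
    rcases ess_cases hF h h2 hP hT h0 with rfl | ⟨l', rfl⟩
    · exact (not_both h h2 hF hS h3 hp2 h0 hl hP).elim
    · rw [le_antisymm (Q_uniq h h2 hF hS hl hP) (Q_uniq h h2 hF hS hP hl)]
      exact ⟨le_rfl, Aut_le_Nm F _⟩
  · refine SatA.constrained_of hF (normal_of_ess hF (Q := h.V) ?_)
      ((inf_le_inf_left _ (Ct_anti h.Y_le_V)).trans (h.cY h2).le)
    rintro P (rfl | hP)
    · exact ⟨h.V_le, fun g hg => (h.nmS h2 (Aut_le_Nm F _ hg)).2.2⟩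
    rcases ess_cases hF h h2 hP hT h0 with rfl | ⟨l', rfl⟩
    · exact ⟨le_rfl, Aut_le_Nm F _⟩
    · exact (hQ ⟨_, hP⟩).elim

end H87.S4
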