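/- Tower SP4: assembly. -/
import Cfsg.Agent.H87.S4FO
import Cfsg.Agent.H31.S4CO
import Cfsg.Agent.H10.SpSP
import Cfsg.Agent.H29.S4V3
import Cfsg.Agent.H29.S4NZ
import Cfsg.Agent.H29.S4P2
import Cfsg.Agent.H38.S4Des
import Cfsg.Agent.H38.S4Num
import Cfsg.Agent.H93.Wrap
import Cfsg.Agent.H94.Tr3
import Cfsg.Agent.H94.S4Cond
import Cfsg.Agent.H9.R2Cand

set_option autoImplicit false

namespace H87.S4
open Cfsg Cfsg.FusionSystem H92 H93 Subgroup

universe u v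

theorem s5260_of (hM2 : JobM2.{v}) (hM4 : JobM4.{v}) (hF2 : JobF2.{u, v}) {Ω : Type u} [Group Ω]
    {S : Subgroup Ω} [Finite S] (p : ℕ) [Fact p.Prime] (hS : IsPGroup p S) (F : FusionSystem S)
    (hF : F.IsSaturated p) {K : Type v} [Field K] [Fintype K] [CharP K p]
    (T : Sylow p (Matrix.symplecticGroup (Fin 2) K))
    (e : S ≃* (T : Subgroup (Matrix.symplecticGroup (Fin 2) K))) (hex : F.IsExotic p) :
    F.core = ⊥ := by
  by_contra h0
  obtain ⟨a, b, S', F', h, hA⟩ := H93.exists_satA hS hF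
  obtain ⟨m, hm⟩ := H31.S4CO.jobCO p K T
  have H := (hm.map e.symm).map (h.1.equiv le_rfl h.1.img_top)
  have h1 : F'.core ≠ ⊥ := fun r => h0 (h.symm.core_eq_bot r)
  refine hex.2 ?_
  by_cases hp : p = 2
  · subst hp
    obtain ⟨G, _, _, ι, hι, T', hT⟩ := hF2 H10.S4.jobSP H29.S4.jobP2 H29.S4.jobW hM2 hM4 K _ S' F'
      _ hA H h1
    obtain ⟨ι', h2, h3, -⟩ := h.symm.isRealizedBy' hι
    exact H9.isRealizable_of h2 T' (hT.trans h3.symm)
  · exact H94.isRealizable_of_constrained hS (h.symm.isConstrained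
      (jobFO H10.S4.jobTRK H10.S4.jobSP (H29.S4.jobV3 H10.S4.jobSP H29.S4.jobNZ H38.S4.jobDiv
        H38.S4.jobNum) p K _ S' F' _ hp hA H h1))

end H87.S4
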