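/- Extraspecial subgroup of index `p`: a small kit (bilinearity, the power map, uniserial action). -/
import Cfsg.Agent.H87.XPSpec
import Cfsg.Agent.H92.EsX

set_option autoImplicit false
set_option linter.unusedSectionVars false

namespace H87.XP
open Cfsg H92 H93 Subgroup H92.Es H92.P5 H87.F3
open scoped commutatorElement

universe u

variable {Ω : Type u} [Group Ω] {S Q Z X Y : Subgroup Ω} {c d g q s v v' w x y z : Ω} {p : ℕ}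

theorem com_mul (x y w : Ω) : ⁅x * y, w⁆ = x * ⁅y, w⁆ * x⁻¹ * ⁅x, w⁆ := by
  simp only [commutatorElement_def]; group

theorem com_mul' (w x y : Ω) : ⁅w, x * y⁆ = ⁅w, x⁆ * (x * ⁅w, y⁆ * x⁻¹) := by
  simp only [commutatorElement_def]; group

theorem com_cj (g x y : Ω) : ⁅g * x * g⁻¹, g * y * g⁻¹⁆ = g * ⁅x, y⁆ * g⁻¹ := by
  simp only [commutatorElement_def]; group

theorem com_zpow (h : Commute x ⁅x, w⁆) (k : ℤ) : ⁅x ^ k, w⁆ = ⁅x, w⁆ ^ k := by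
  have e : w * x * w⁻¹ = ⁅x, w⁆⁻¹ * x := by simp only [commutatorElement_def]; group
  have : ⁅x ^ k, w⁆ = x ^ k * ((w * x * w⁻¹) ^ k)⁻¹ := by
    rw [conj_zpow]; simp only [commutatorElement_def]; group
  rw [this, e, (h.symm.inv_left).mul_zpow, mul_inv_rev, ← mul_assoc, mul_inv_cancel, one_mul,
    inv_zpow, inv_inv]

theorem com_zpow' (h : Commute x ⁅w, x⁆) (k : ℤ) : ⁅w, x ^ k⁆ = ⁅w, x⁆ ^ k := by
  rw [← commutatorElement_inv, com_zpow (commutatorElement_inv w x ▸ h.inv_right), ← inv_zpow,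
    commutatorElement_inv]

variable [hp : Fact p.Prime] [Finite Ω]

namespace XS
variable (h : XS p S Q Z)
include h

theorem pg : IsPGroup p S := h.sp.pg
theorem lQ : Q ≤ S := h.sp.le
theorem nQ : S ≤ Nm Q := h.sp.nm
theorem lS : Z ≤ S := h.lZ.trans h.lQ
theorem nZ : S ≤ Nm Z := h.cen.trans (Ct_le_Nm Z)
theorem cZ : Nat.card Z = p := by simpa using h.sZ.card
theorem eZ : Z = S ⊓ Ct S := le_antisymm (le_inf h.lS (le_Ct_comm.1 h.cen)) h.zc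
theorem nm_Z (hg : g ∈ Nm S) : g ∈ Nm Z := h.eZ ▸ mem_Nm_inf hg (mem_Nm_Ct hg)
theorem pZ (hz : z ∈ Z) : z ^ p = 1 := mem_bot.1 (h.sZ.pow hz)
theorem com (hx : x ∈ Q) (hy : y ∈ Q) : ⁅x, y⁆ ∈ Z := com_of_tv (h.tv hx) hy
theorem cj_Z (hs : s ∈ S) (hz : z ∈ Z) : s * z * s⁻¹ = z := conj_eq_of_Ct (h.cen hs) hz
theorem comm_Z (hs : s ∈ S) (hz : z ∈ Z) : Commute s z := mul_inv_eq_iff_eq_mul.1 (h.cj_Z hs hz)
theorem com_Z (hs : s ∈ S) (hz : z ∈ Z) : ⁅s, z⁆ = 1 := com_ct (h.cen hs) hz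
theorem com_Q (hs : s ∈ S) (hy : y ∈ Q) : ⁅s, y⁆ ∈ Q :=
  mul_mem (conj_mem_of_Nm (h.nQ hs) hy) (inv_mem hy)
theorem nm_mid (h1 : Z ≤ X) (h2 : X ≤ Q) : Q ≤ Nm X := fun _ hg => Nm_of_Tv (h.tv hg) h1 h2
theorem nm_of (h1 : Z ≤ X) (h2 : X ≤ Q) (hv : v ∈ S) (nv : v ∉ Q) (n : v ∈ Nm X) : S ≤ Nm X :=
  (h.sp.sup hv nv).le.trans (sup_le (h.nm_mid h1 h2) (zpowers_le.2 n))

theorem mul_com (hx : x ∈ S) (hy : ⁅y, w⁆ ∈ Z) : ⁅x * y, w⁆ = ⁅y, w⁆ * ⁅x, w⁆ := by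
  rw [com_mul, h.cj_Z hx hy]

theorem com_mul (hx : x ∈ S) (hy : ⁅w, y⁆ ∈ Z) : ⁅w, x * y⁆ = ⁅w, x⁆ * ⁅w, y⁆ := by
  rw [com_mul', h.cj_Z hx hy]

theorem zpow_com (hx : x ∈ S) (hy : ⁅x, w⁆ ∈ Z) (k : ℤ) : ⁅x ^ k, w⁆ = ⁅x, w⁆ ^ k :=
  com_zpow (h.comm_Z hx hy) k

theorem com_zpow (hx : x ∈ S) (hy : ⁅w, x⁆ ∈ Z) (k : ℤ) : ⁅w, x ^ k⁆ = ⁅w, x⁆ ^ k :=
  com_zpow' (h.comm_Z hx hy) k

/-- the power map is a homomorphism on `Q` -/
theorem pi_mul (hx : x ∈ Q) (hy : y ∈ Q) : (x * y) ^ p = x ^ p * y ^ p := by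
  have m := h.com hy hx
  have := pow_mul_mod (B := ⊥) h.odd (nm_bot x) (nm_bot y) (h.com_Z (h.lQ hx) m ▸ one_mem _)
    (h.com_Z (h.lQ hy) m ▸ one_mem _) (h.sZ.pow m)
  exact (inv_mul_eq_one.1 (mem_bot.1 this)).symm

theorem pi_cj (hs : s ∈ S) (hy : y ∈ Q) : (s * y * s⁻¹) ^ p = y ^ p := by
  rw [conj_pow, h.cj_Z hs (h.pw y hy)]

theorem pi_com (hs : s ∈ S) (hy : y ∈ Q) : ⁅s, y⁆ ^ p = 1 := by
  rw [commutatorElement_def, h.pi_mul (conj_mem_of_Nm (h.nQ hs) hy) (inv_mem hy), h.pi_cj hs hy,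
    inv_pow, mul_inv_cancel]

/-- the kernel of the power map -/
theorem exists_om : ∃ U : Subgroup Ω, ∀ y, y ∈ U ↔ y ∈ Q ∧ y ^ p = 1 :=
  ⟨⟨⟨⟨{y | y ∈ Q ∧ y ^ p = 1}, fun a b => ⟨mul_mem a.1 b.1, by
    rw [h.pi_mul a.1 b.1, a.2, b.2, mul_one]⟩⟩, one_mem _, one_pow _⟩,
    fun a => ⟨inv_mem a.1, by rw [inv_pow, a.2, inv_one]⟩⟩, fun _ => Iff.rfl⟩

theorem card_ct (hX : X ≤ S) (e : ∀ g ∈ X, ⁅g, w⁆ ∈ Z) :
    Nat.card X ≤ p * Nat.card (X ⊓ Ct (zpowers w) :) :=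
  (card_le_cm h.sZ (le_tv_bot (hX.trans h.cen)) e).trans (Nat.mul_le_mul_left _ (card_le_of_le
    fun _ hg => ⟨hg.1, ct_zp.2 (mem_bot.1 hg.2.2)⟩))

theorem card_ct' (hX : X ≤ Q) (hw : w ∈ Q) : Nat.card X ≤ p * Nat.card (X ⊓ Ct (zpowers w) :) :=
  h.card_ct (hX.trans h.lQ) fun _ hg => h.com (hX hg) hw

/-- a subgroup centralizing a subgroup of index at most `p` of `Q` has order at most `p ^ 2` -/
theorem card_le_sq (hX : X ≤ Q) (hY : Y ≤ Q) (c : X ≤ Ct Y) (e : Nat.card Q ≤ p * Nat.card Y) :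
    Nat.card X ≤ p ^ 2 := by
  rcases sp_of_card_le (h.pg.to_le h.lQ) hY e with r | r
  · exact (card_le_of_le ((le_inf hX (r ▸ c)).trans h.ctr)).trans
      (h.cZ ▸ Nat.le_self_pow two_ne_zero _)
  · obtain ⟨x, hx, nx⟩ := r.ex
    refine (h.card_ct' hX hx).trans ?_
    rw [sq]
    refine Nat.mul_le_mul_left _ ((card_le_of_le fun g (hg : g ∈ X ⊓ _) =>
      h.ctr ⟨hX hg.1, ?_⟩).trans h.cZ.le)
    exact r.ct_of (c hg.1) hx nx (ct_zp.1 hg.2)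

theorem not_ab (hX : X ≤ Q) (c : X ≤ Ct X) : ¬ Nat.card Q ≤ p * Nat.card X := fun e => by
  have := h.big.trans (e.trans (Nat.mul_le_mul_left _ (h.card_le_sq hX hX c e)))
  rw [← pow_succ'] at this
  exact absurd ((Nat.pow_le_pow_iff_right hp.out.one_lt).1 this) (by norm_num)

/-- `⁅Q, v⁆` centralizes the elements of `Q` that `v` centralizes modulo `Z` -/
theorem com_com (hv : v ∈ S) (hq : q ∈ Q) (hd : d ∈ Q) (e : ⁅d, v⁆ ∈ Z) : ⁅⁅q, v⁆, d⁆ = 1 := by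
  have m := conj_mem_of_Nm (h.nQ hv) (inv_mem hq)
  have e1 : ⁅q, v⁆ = q * (v * q⁻¹ * v⁻¹) := by simp only [commutatorElement_def]; group
  have e2 : d = v * (v⁻¹ * ⁅d, v⁆ * v * d) * v⁻¹ := by simp only [commutatorElement_def]; group
  have e3 := conj_eq_of_Ct' (h.cen hv) e
  have e4 : ⁅v * q⁻¹ * v⁻¹, d⁆ = ⁅q, d⁆⁻¹ := by
    conv_lhs => rw [e2, com_cj, e3, h.com_mul (h.lS e) (h.com (inv_mem hq) hd),
      h.com_Z (inv_mem (h.lQ hq)) e, one_mul, h.cj_Z hv (h.com (inv_mem hq) hd)]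
    simpa using h.zpow_com (h.lQ hq) (h.com hq hd) (-1)
  rw [e1, h.mul_com (h.lQ hq) (h.com m hd), e4, inv_mul_cancel]

/-- all elements outside `Q` have the same fixed points on `Q / X` -/
theorem cm_all (h1 : Z ≤ X) (n : S ≤ Nm X) (hv : v ∈ S) (nv : v ∉ Q) (hy : y ∈ Q)
    (e : ⁅y, v⁆ ∈ X) (hs : s ∈ S) : ⁅y, s⁆ ∈ X :=
  com_symm ((h.sp.le_of (K := Cm y X) (fun _ hg => ⟨n (h.lQ hg), h1 (h.com hg hy)⟩) hv nv
    ⟨n hv, com_symm e⟩) hs).2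

theorem up (h1 : Z ≤ X) (h2 : X ≤ Q) (n : S ≤ Nm X) :
    Nat.card (Q ⊓ Cm v X :) * p ≤ Nat.card (Q ⊓ Cm v Z :) * Nat.card X := by
  induction' e : Nat.card X using Nat.strong_induction_on with k ih generalizing X
  subst e
  by_cases r : X ≤ Z
  · rw [le_antisymm r h1, h.cZ]
  obtain ⟨C, c1, c2, c3, c4⟩ := exists_top h.pg (h2.trans h.lQ) h1 n h.nZ r
  have i1 := ih _ (c2.card ▸ (Nat.lt_mul_iff_one_lt_left Nat.card_pos).2 hp.out.one_lt) c1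
    (c2.le.trans h2) c4 rfl
  have i2 := (card_le_cm (w := v) c2 ((inf_le_left.trans h.lQ).trans c3 : Q ⊓ Cm v X ≤ _)
    fun _ hg => hg.2.2).trans (Nat.mul_le_mul_left p (card_le_of_le
      (inf_le_inf_right _ inf_le_left : _ ≤ Q ⊓ Cm v C)))
  rw [c2.card]
  nlinarith

/-- `Q` is characteristic unless `S` acts on `Q / Z` by transvections -/
theorem nm_Q (hv : v ∈ S) (e : p * Nat.card (Q ⊓ Cm v Z :) < Nat.card Q)
    (hg : g ∈ Nm S) : g ∈ Nm Q := by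
  by_contra n
  have s1 : Sp p S (cj g Q) := cj_eq_of_Nm hg ▸ h.sp.cj g
  have ne : Q ≠ cj g Q := fun r => n (mem_Nm.2 r.symm)
  obtain ⟨s2, s3, -, -⟩ := two_max h.sp s1 ne
  obtain ⟨t, ht, nt⟩ := s3.ex
  have l : Q ⊓ cj g Q ≤ Q ⊓ Cm v Z := fun y hy => ⟨hy.1, h.nZ (h.lQ hy.1),
    h.cm_all le_rfl h.nZ (s1.le ht) (fun r => nt ⟨r, ht⟩) hy.1 (by
      have := conj_mem_cj g (h.com (mem_cj.1 hy.2) (mem_cj.1 ht))
      rw [cj_eq_of_Nm (h.nm_Z hg), ← com_cj] at this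
      simpa [mul_assoc] using this) hv⟩
  exact absurd (s2.card.le.trans (Nat.mul_le_mul_left _ (card_le_of_le l))) (not_le.2 e)

end XS

namespace PL
variable (h : PL p S Q Z v)
include h

theorem card_D : Nat.card (Q ⊓ Cm v Z :) ≤ p ^ 2 :=
  (h.card_ct (w := v) ((inf_le_left : Q ⊓ Cm v Z ≤ Q).trans h.lQ) fun _ hg => hg.2.2).trans (by
    rw [sq]
    exact Nat.mul_le_mul_left _ ((card_le_of_le ((inf_le_inf_right _ inf_le_left).trans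
      h.cq)).trans h.cZ.le))

theorem nm_Q (hg : g ∈ Nm S) : g ∈ Nm Q :=
  h.toXS.nm_Q h.hv (((Nat.mul_le_mul_left _ h.card_D).trans_lt (by
    rw [← pow_succ']; exact Nat.pow_lt_pow_right hp.out.one_lt (by norm_num))).trans_le h.big) hg

theorem up (h1 : Z ≤ X) (h2 : X ≤ Q) (n : S ≤ Nm X) : Nat.card (Q ⊓ Cm v X :) ≤ p * Nat.card X :=
  Nat.le_of_mul_le_mul_right (((h.toXS.up h1 h2 n).trans
    (Nat.mul_le_mul_right _ h.card_D)).trans (by rw [sq]; exact le_of_eq (by ring))) hp.out.pos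

theorem le_cm (h2 : X ≤ Q) (n : S ≤ Nm X) : X ≤ Q ⊓ Cm v X := fun _ hx =>
  ⟨h2 hx, le_Nm X hx, com_symm (comm_mem_of_Nm (n h.hv) hx)⟩

theorem nm_cm (n : S ≤ Nm X) (h1 : Z ≤ X) (h2 : X ≤ Q) : S ≤ Nm (Q ⊓ Cm v X) :=
  h.nm_of (h1.trans (h.le_cm h2 n)) inf_le_left h.hv h.nv (mem_Nm_of_conj fun y hy => by
    have := mul_mem (h.le_cm h2 n (com_symm hy.2.2)) hy
    rwa [commutatorElement_def, inv_mul_cancel_right] at this)

/-- the next term of the unique chain of normal subgroups between `Z` and `Q` -/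
theorem next (h1 : Z ≤ X) (n : S ≤ Nm X) (hY : Y ≤ Q) (l : X ≤ Y) (nY : S ≤ Nm Y) (r : ¬ Y ≤ X) :
    Sp p (Q ⊓ Cm v X) X ∧ Q ⊓ Cm v X ≤ Y := by
  obtain ⟨C, c1, c2, c3, -⟩ := exists_step h.pg (hY.trans h.lQ) l nY n r
  have e : C = Q ⊓ Cm v X := eq_of_le_of_card_ge (fun y hy => ⟨hY (c2 hy), c1.nm hy,
    com_symm (com_of_tv (c3 h.hv) hy)⟩) (c1.card ▸ h.up h1 (l.trans hY) n)
  exact e ▸ ⟨c1, c2⟩

/-- the normal subgroups between `Z` and `Q` form a chain -/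
theorem chain (h1 : Z ≤ X) (h2 : X ≤ Q) (n : S ≤ Nm X) (h3 : Z ≤ Y) (h4 : Y ≤ Q) (nY : S ≤ Nm Y) :
    X ≤ Y ∨ Y ≤ X := by
  by_contra r
  push Not at r
  have m : S ≤ Nm (X ⊓ Y) := fun _ hg => mem_Nm_inf (n hg) (nY hg)
  obtain ⟨a1, a2⟩ := h.next (le_inf h1 h3) m h2 inf_le_left n fun e => r.1 (e.trans inf_le_right)
  obtain ⟨-, a3⟩ := h.next (le_inf h1 h3) m h4 inf_le_right nY fun e => r.2 (e.trans inf_le_left)
  exact a1.not_le (le_inf a2 a3)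

theorem le_of_card (h1 : Z ≤ X) (h2 : X ≤ Q) (n : S ≤ Nm X) (h3 : Z ≤ Y) (h4 : Y ≤ Q)
    (nY : S ≤ Nm Y) (e : Nat.card X ≤ Nat.card Y) : X ≤ Y :=
  (h.chain h1 h2 n h3 h4 nY).elim id fun r => (eq_of_le_of_card_ge r e).ge

theorem sp_D : Sp p (Q ⊓ Cm v Z) Z :=
  (h.next le_rfl h.nZ le_rfl h.lZ h.nQ fun r => by
    have := h.big.trans ((card_le_of_le r).trans (h.cZ.trans (pow_one p).symm).le)
    exact absurd ((Nat.pow_le_pow_iff_right hp.out.one_lt).1 this) (by norm_num)).1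

end PL

end H87.XP
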