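/- Extraspecial subgroup of index `p`: the fusion system steps. -/
import Cfsg.Agent.H87.XPT

set_option autoImplicit false
set_option linter.unusedSectionVars false

namespace H87.XP
open Cfsg H92 H93 Subgroup H92.Es H92.P5 H87.F3
open scoped commutatorElement

universe u

variable {Ω : Type u} [Group Ω] {S Q Z E R : Subgroup Ω} {F : FusionSystem S} {a g t v : Ω} {p : ℕ}
  [hp : Fact p.Prime] [Finite Ω]

theorem pow_absurd {i j : ℕ} (e : p ^ i ≤ p ^ j) (l : j < i) : False :=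
  absurd ((Nat.pow_le_pow_iff_right hp.out.one_lt).1 e) (not_le.2 l)

namespace PL
variable (h : PL p S Q Z v)
include h

theorem sE : Sp p (Z ⊔ zpowers v) Z :=
  sp_sup h.pg h.lS h.hv (fun r => h.nv (h.lZ r)) (h.nZ h.hv) (h.pv ▸ one_mem _)

theorem nm_inf (hR : R ≤ S) (hZ : Z ≤ R) (ht : t ∈ R) (nt : t ∉ Q) : S ≤ Nm (R ⊓ Q) :=
  h.nm_of (le_inf hZ h.lZ) inf_le_right (hR ht) nt (mem_Nm_inf (le_Nm R ht) (h.nQ (hR ht)))

theorem card_Nm (hR : R ≤ S) (hZ : Z ≤ R) (ht : t ∈ R) (nt : t ∉ Q) :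
    Nat.card (S ⊓ Nm R :) ≤ p * Nat.card R := by
  have n := h.nm_inf hR hZ ht nt
  rw [(h.sp.inf hR fun r => nt (r ht)).card,
    (h.sp.inf (K := S ⊓ Nm R) inf_le_left fun r => nt (r ⟨hR ht, le_Nm R ht⟩)).card]
  refine Nat.mul_le_mul_left _ ((card_le_of_le fun y hy => ?_).trans
    (h.up (le_inf hZ h.lZ) inf_le_right n))
  exact ⟨hy.2, n hy.1.1, h.cm_all (le_inf hZ h.lZ) n (hR ht) nt hy.2
    ⟨comm_mem_of_Nm hy.1.2 ht, com_symm (h.com_Q (hR ht) hy.2)⟩ h.hv⟩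

theorem not_in (hE : F.IsCentric (Z ⊔ zpowers v)) (m : M F (Z ⊔ zpowers v) g) :
    ¬ cj g (Z ⊔ zpowers v) ≤ Q := fun l => by
  have c := centric_Ct_le (m.centric_cj hE)
  have c2 : Nat.card (cj g (Z ⊔ zpowers v)) = p ^ 2 := by rw [card_cj, h.sE.card, h.cZ, sq]
  have s := sp_of h.pg m.cj_le ((le_inf h.lS (le_Ct_comm.1 (m.cj_le.trans h.cen))).trans c) c2
    (h.cZ.trans (pow_one p).symm)
  obtain ⟨w, hw, nw⟩ := s.ex
  have := h.big.trans ((h.card_ct' le_rfl (l hw)).trans (Nat.mul_le_mul_left _ ((card_le_of_le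
    fun y (hy : y ∈ Q ⊓ _) =>
      c ⟨h.lQ hy.1, s.ct_of (h.cen (h.lQ hy.1)) hw nw (ct_zp.1 hy.2)⟩).trans c2.le)))
  exact pow_absurd (this.trans (pow_succ' p 2).ge) (by norm_num)

theorem aut_nm (hE : F.IsCentric (Z ⊔ zpowers v)) (l : Z ⊔ zpowers v < R) (hR : R ≤ S)
    (hg : g ∈ Aut F R) (n : g ∈ Nm Z) : g ∈ Nm (R ⊓ Q) := by
  by_contra ne
  have hv : v ∈ R := l.le (mem_sup_right (mem_zpowers v))
  have hZ : Z ≤ R := le_sup_left.trans l.le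
  have zB : Z ≤ R ⊓ Q := le_inf hZ h.lZ
  have nB := h.nm_inf hR hZ hv h.nv
  have s0 := h.sp.inf hR fun r => h.nv (r hv)
  have s1 : Sp p R (cj g (R ⊓ Q)) := by simpa only [cj_eq_of_Aut hg] using s0.cj g
  obtain ⟨s2, s3, -, -⟩ := two_max s0 s1 fun r => ne (mem_Nm.2 r.symm)
  obtain ⟨t, ht, nt⟩ := s3.ex
  have tQ : t ∉ Q := fun r => nt ⟨⟨s1.le ht, r⟩, ht⟩
  have lD : (R ⊓ Q) ⊓ cj g (R ⊓ Q) ≤ Q ⊓ Cm v Z := fun y hy => ⟨hy.1.2, h.nZ (hR hy.1.1),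
    h.cm_all le_rfl h.nZ (hR (s1.le ht)) tQ hy.1.2 (by
      have := conj_mem_cj g (h.com (mem_cj.1 hy.2).2 (mem_cj.1 ht).2)
      rw [cj_eq_of_Nm n, ← com_cj] at this
      simpa [mul_assoc] using this) h.hv⟩
  obtain ⟨sD, dB⟩ := h.next le_rfl h.nZ inf_le_right zB nB fun r =>
    l.not_ge ((s0.sup hv fun e => h.nv e.2).le.trans (sup_le_sup_right r _))
  have cD : Nat.card (Q ⊓ Cm v Z :) = p ^ 2 := by rw [sD.card, h.cZ, sq]
  have nD := h.nm_cm h.nZ le_rfl h.lZ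
  by_cases c : Q ⊓ Cm v Z ≤ cj g (R ⊓ Q)
  · rw [le_antisymm lD (le_inf dB c)] at s2
    obtain ⟨d, hd, nd⟩ := sD.ex
    have k : R ⊓ Q ≤ Q ⊓ Ct (Q ⊓ Cm v Z) := h.le_of_card zB inf_le_right nB
      (le_inf h.lZ (le_Ct_comm.1 ((inf_le_left.trans h.lQ).trans h.cen))) inf_le_left
      (fun _ hs => mem_Nm_inf (h.nQ hs) (mem_Nm_Ct (nD hs))) (by
        refine Nat.le_of_mul_le_mul_left (le_trans ?_ (h.big.trans ((h.card_ct' le_rfl hd.1).trans
          (Nat.mul_le_mul_left _ (card_le_of_le fun y hy => ⟨hy.1,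
            sD.ct_of (h.cen (h.lQ hy.1)) hd nd (ct_zp.1 hy.2)⟩))))) hp.out.pos
        rw [s2.card, cD, ← pow_succ', ← pow_succ']
        exact Nat.pow_le_pow_right hp.out.pos (by norm_num))
    have ab := cj_mono g (s2.cyc' (k.trans inf_le_right))
    rw [cj_Ct] at ab
    obtain ⟨j, hj⟩ := s0.dec (s1.le ht) (fun r => tQ r.2) hv
    have := mul_mem (zpow_mem (Ct_anti c (ab ht)) j) (k hj).2
    rw [mul_inv_cancel_left] at this
    exact nd (h.cq ⟨hd.1, mem_Ct_comm this hd⟩)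
  · have zB' : Z ≤ cj g (R ⊓ Q) := cj_eq_of_Nm n ▸ cj_mono g zB
    rw [sD.eq_of' (le_inf zB zB') lD fun r => c (r.trans inf_le_right)] at s2 s3
    have e := (Sp.eq_of_le' sD s2 dB).symm
    rw [e] at s0 s1 s3
    obtain ⟨x, hx, nx⟩ := (h.next sD.le nD le_rfl inf_le_left h.nQ fun r =>
      pow_absurd (h.big.trans ((card_le_of_le r).trans cD.le)) (by norm_num)).1.ex
    obtain ⟨i, hi⟩ := lines s0 sD (tv_sq s0.pg hZ (hR.trans h.nZ) (i := 1) (s0.card_up cD)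
      (h.cZ.trans (pow_one p).symm)) (g := x) (by
        rw [s0.sup hv fun r => h.nv r.1]
        exact tv_sup_zp (mem_Tv_self hx.2.1) (le_Nm _) (nD h.hv) hx.2.2)
      (Tv_anti inf_le_left Z (h.tv hx.1)) (fun r => nx ⟨hx.1, r.1, com_of_tv r hv⟩) h.sE s3 l.le
      s1.le (fun r => h.nv (r (mem_sup_right (mem_zpowers v))).1) fun r => tQ (r (e ▸ ht)).1
    refine h.not_in hE ((M.of_mem F hE.1 (pow_mem (h.lQ hx.1) i)).mul
      (M.of_Aut (inv_mem hg) hR) (hi ▸ s1.le)) ?_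
    rw [cj_mul, hi, cj_inv_cj]
    exact inf_le_left

theorem ext (hF : SatA p F) (hE : F.IsCentric (Z ⊔ zpowers v))
    (mx : ∀ R g, Z ⊔ zpowers v < R → M F R g → g ∈ Nm Z) (l : Z ⊔ zpowers v < R) (hR : R ≤ S)
    (hg : g ∈ Aut F R) : ∃ t ∈ Aut F S, g⁻¹ * t ∈ Ct R := by
  induction R using WellFoundedGT.induction generalizing g with | ind R ih => ?_
  rcases hR.eq_or_lt with rfl | lt
  · exact ⟨g, hg, by simp⟩
  have hv : v ∈ R := l.le (mem_sup_right (mem_zpowers v))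
  have hZ : Z ≤ R := le_sup_left.trans l.le
  have lt' := lt_Nm hF.pg lt
  have s := sp_of_le (hF.pgl inf_le_left) lt' (h.card_Nm hR hZ hv h.nv)
  have fn : F.IsFullyNormalized R := hF.amb.fn_iff.2 ⟨hR, fun k hk => by
    have z : Z ≤ cj k R := cj_eq_of_Nm (mx R k l hk) ▸ cj_mono k hZ
    refine (h.card_Nm hk.cj_le z (conj_mem_cj k hv) fun r => h.not_in hE (hk.mono l.le) ?_).trans
      (by rw [card_cj, s.card])
    rw [cj_sup, cj_zpowers, cj_eq_of_Nm (mx R k l hk)]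
    exact sup_le h.lZ (zpowers_le.2 r)⟩
  have ne : ¬ F.IsEssential p R := fun e => by
    have nB := h.nm_inf hR hZ hv h.nv
    have s0 := h.sp.inf hR fun r => h.nv (r hv)
    obtain ⟨x, hx, nx⟩ := (h.next (le_inf hZ h.lZ) nB le_rfl inf_le_right h.nQ fun r =>
      lt.not_ge (h.sp.le_of (r.trans inf_le_left) h.hv h.nv hv)).1.ex
    have t : x ∈ Tv R (R ⊓ Q) := by
      have := tv_sup_zp (mem_Tv_self hx.2.1) (le_Nm _) (nB h.hv) hx.2.2
      rwa [← s0.sup hv fun r => h.nv r.2] at this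
    exact nx ⟨mem_of_St hF e (l := [R ⊓ Q, Z]) (by
      simpa using ⟨fun k hk => h.aut_nm hE l hR hk (mx R k l (M.of_Aut hk hR)), hZ,
        fun k hk => mx R k l (M.of_Aut hk hR)⟩)
      ⟨h.lQ hx.1, Nm_of_Tv t inf_le_left le_rfl⟩
      ⟨t, Tv_anti inf_le_right Z (h.tv hx.1), h.cen (h.lQ hx.1)⟩, hx.1⟩
  obtain ⟨k, hk, e⟩ := ext_XE hF s (aut_le_XE hF lt fn ne hg)
  obtain ⟨t, ht, e'⟩ := ih _ lt' (l.trans lt') inf_le_left hk
  exact ⟨t, ht, div_trans e (Ct_anti lt'.le e')⟩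

end PL

theorem jobB1F : JobB1F.{u} := by
  intro Ω _ _ p hp S F Q Z a v hF h hE ha e mx k l kl
  have hv : v ∈ Z ⊔ zpowers v := mem_sup_right (mem_zpowers v)
  have lt := lt_Nm hF.pg (ess_lt hF hE)
  have s := sp_of_le (hF.pgl inf_le_left) lt (h.card_Nm hE.1.1 le_sup_left hv h.nv)
  obtain ⟨x, hx, nx⟩ := s.ex
  obtain ⟨τ, h1, -, h2, h3⟩ := (tor hF hE (r := []) hx nx h.sZ h.sE (by simp [SetLike.le_def])
    (h.sE.tv hF.pg hE.1.1 hx.1 hx.2 (h.nZ hx.1)) (tv_bot.2 (h.cen hx.1)) (by simp) ha fun r =>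
      h.nv (h.lZ (cj_eq_of_Nm (XE_le_of ((Ct_anti le_sup_left).trans (Ct_le_Nm Z))
        (fun g R _ b c => mx R g b c) r) ▸ e ▸ mem_zpowers v))).2.2 k l kl
  obtain ⟨t, ht, e1⟩ := ext_XE hF s h1
  obtain ⟨g, hg, e2⟩ := h.ext hF hE.1 mx lt inf_le_left ht
  have e3 := div_trans e1 (Ct_anti lt.le e2)
  exact ⟨g, Aut_le_Nm F S hg, fun y hy => (h2 y hy).congr (mem_sup_left hy) e3,
    ((h3 v (e ▸ mem_zpowers v)).congr hv e3).mono bot_le⟩

/-- an essential subgroup that moves `Z`, while all maps on larger subgroups fix it -/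
theorem exists_bad (hF : SatA p F) (h : XS p S Q Z) (hO : F.core = ⊥) :
    ∃ E, F.IsEssential p E ∧ ¬ Aut F E ≤ Nm Z ∧ ∀ R g, E < R → M F R g → g ∈ Nm Z := by
  have zE : ∀ P, P = S ∨ F.IsEssential p P → Z ≤ P := by
    rintro P (rfl | e)
    exacts [h.lS, h.eZ.le.trans (cen_le hF e)]
  by_contra r
  push Not at r
  have key := hF.alperin' (fun P g => Z ≤ P → g ∈ Nm Z)
    (fun P R g k _ c l e z => Nm_of_div_Ct (c (z.trans l)) (Ct_anti z e))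
    (fun P R g k _ c _ c' l z => mul_mem (c' ((cj_eq_of_Nm (c z)).ge.trans ((cj_mono g z).trans l)))
      (c z)) (by
      rintro P (rfl | e) ih a ha z
      · exact h.nm_Z (Aut_le_Nm F _ ha)
      · by_contra n
        obtain ⟨R, g, l, m, n'⟩ := r P e fun r => n (r ha)
        exact n' (ih R g (card_lt_of_lt l) m (z.trans l.le)))
  have := le_core (normal_of_ess hF fun P hP => ⟨zE P hP, fun g hg =>
    key P g (M.of_Aut hg (top_or_essential_centric hP).1) (zE P hP)⟩)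
  exact h.sZ.not_le (hO ▸ this)

theorem lx_of (hF : SatA p F) (h : XS p S Q Z) (hE : F.IsEssential p E) (nQ : ¬ E ≤ Q)
    (mv : ¬ Aut F E ≤ Nm Z) (mx : ∀ R g, E < R → M F R g → g ∈ Nm Z) :
    LX p S Q Z E (Aut F E) := by
  have zE := h.eZ.le.trans (cen_le hF hE)
  have cZ : Ct E ≤ Nm Z := (Ct_anti zE).trans (Ct_le_Nm Z)
  have pp := hF.pp_of_fn hE.2.1
  refine ⟨h, hE.1.1, zE, nQ, centric_Ct_le hE.1, Aut_le_Nm F E, Nm_le_Aut F E, mv,
    fun g hg x hx nx n => ?_, fun nE g hg l hl hs => ?_⟩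
  · have m : g⁻¹ * x * g⁻¹⁻¹ ∈ Aut F E ⊓ Nm Z :=
      mem_inf.2 ⟨mul_mem (mul_mem (inv_mem hg) (Nm_le_Aut F E hx)) (inv_mem (inv_mem hg)), by
        have := conj_mem_Nm_cj g⁻¹ n
        rwa [cj_inv_cj] at this⟩
    obtain ⟨b, hb, e⟩ := (pp.mono_right (le_inf pp.le (sup_le (inf_le_left.trans h.nZ) cZ))
      inf_le_left).exists_cj_le (Y := cj g⁻¹ (zpowers x))
      (isPGroup_cj _ (hF.pgl (zpowers_le.2 hx.1))) (by rw [cj_zpowers]; exact zpowers_le.2 m)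
    have := XE_le_of cZ (fun g R _ b c => mx R g b c) (mem_XE_of_conj hF hE.2.1
      (mul_mem hb.1 (inv_mem hg)) hx nx (e (cj_mul b g⁻¹ _ ▸ conj_mem_cj _ (mem_zpowers x))))
    exact inv_mem_iff.1 (((Nm Z).mul_mem_cancel_left hb.2).1 this)
  · have cS : ∀ {l : List (Subgroup Ω)} {A : Subgroup Ω}, A ≤ E → (∀ B ∈ l, B ≤ E) →
        Ct E ≤ St A l := by
      intro l
      induction l with
      | nil => exact fun a _ => Ct_anti a
      | cons B l ih =>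
        exact fun a b _ hc => ⟨mem_Tv_of_Ct (Ct_anti a hc)
          (Ct_le_Nm _ (Ct_anti (b B List.mem_cons_self) hc)),
          ih (b B List.mem_cons_self) (fun C hC => b C (List.mem_cons_of_mem _ hC)) hc⟩
    have l1 : (S ⊓ Nm E) ⊔ Ct E ≤ Aut F E ⊓ St E l :=
      le_inf pp.le (sup_le (inf_le_left.trans hs) (cS le_rfl fun B hB => (hl B hB).1))
    have e := (pp.mono_right l1 inf_le_left).eq_of_pMod
      (inf_le_left.trans (Aut_le_Nm_Ct F E)) le_sup_right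
      ((pMod_St fun B hB => hF.pgl ((hl B hB).1.trans hE.1.1)).mono inf_le_right le_rfl)
    obtain ⟨k, hk, e'⟩ := hF.ext_aut hg (hF.fc_of_fn hE.2.1) (le_inf le_rfl nE) (by
      rw [e]
      exact le_inf (cj_le_of_mem hg ((le_inf le_rfl nE).trans (Nm_le_Aut F E)))
        ((cj_mono g hs).trans (cj_eq_of_Nm (mem_Nm_St (Aut_le_Nm F E hg)
          fun B hB => (hl B hB).2)).le))
    exact ⟨k, mem_Nm_of_le (hk.mono le_sup_right).cj_le, e'⟩

end H87.XP
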