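/- Extraspecial subgroup of index `p`: the main theorem from the steps. -/
import Cfsg.Agent.H87.XPF
import Cfsg.Agent.H78.XSMap

set_option autoImplicit false
set_option linter.unusedSectionVars false

namespace H87.XP
open Cfsg H92 H93 Subgroup H92.Es H92.P5 H87.F3
open scoped commutatorElement

universe u

structure Jobs : Prop where
  a1 : JobA1.{u}
  a2 : JobA2.{u}
  a3 : JobA3.{u}
  b0 : JobB0.{u}
  b2a : JobB2a.{u}
  b2b : JobB2b.{u}
  b1w : JobB1W.{u}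
  ro : JobRO.{u}
  rg : JobRG.{u}
  sl : JobSL
  su : JobSU
  g2 : JobG2

/-- the conclusion -/
def Out (p : ℕ) [Fact p.Prime] (S : Type*) [Group S] : Prop :=
  Syl p S (Matrix.SpecialLinearGroup (Fin 4) (ZMod p)) ∨
    (∃ (K : Type) (_ : Field K) (_ : Fintype K), Fintype.card K = p ^ 2 ∧ Syl p S (SU 4 K p)) ∨
    (5 ≤ p ∧ Syl p S (Lie.G2 (ZMod p))) ∨
    (11 ≤ p ∧ Nat.card S = p ^ (p - 1) ∧ (∀ x : S, x ^ p = 1) ∧ Group.nilpotencyClass S = p - 2)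

theorem Syl.of_equiv {p : ℕ} {A B H : Type*} [Group A] [Group B] [Group H] (e : A ≃* B)
    (h : Syl p B H) : Syl p A H :=
  let ⟨P, ⟨f⟩⟩ := h
  ⟨P, ⟨e.trans f⟩⟩

theorem Out.of_equiv {p : ℕ} [Fact p.Prime] {A B : Type*} [Group A] [Group B] [Group.IsNilpotent A]
    (e : A ≃* B) (h : Out p B) : Out p A := by
  rcases h with h | ⟨K, _, _, c, h⟩ | ⟨c, h⟩ | ⟨c, h1, h2, h3⟩
  · exact Or.inl (h.of_equiv e)
  · exact Or.inr (Or.inl ⟨K, _, _, c, h.of_equiv e⟩)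
  · exact Or.inr (Or.inr (Or.inl ⟨c, h.of_equiv e⟩))
  · have := Group.nilpotent_of_mulEquiv e
    exact Or.inr (Or.inr (Or.inr ⟨c, (Nat.card_congr e.toEquiv).trans h1,
      fun x => e.injective (by rw [map_pow, h2, map_one]), h3 ▸ le_antisymm
        (Group.nilpotencyClass_le_of_surjective e.symm.toMonoidHom e.symm.surjective)
        (Group.nilpotencyClass_le_of_surjective e.toMonoidHom e.surjective)⟩))

section ambient
variable {Ω : Type u} [Group Ω] {S Q Z E U : Subgroup Ω} {F : FusionSystem S} {w x y : Ω} {p : ℕ}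
  [hp : Fact p.Prime] [Finite Ω] (J : Jobs.{u})
include J

theorem O4.out (h : O4 p S Q Z U w) : Out p S := by
  obtain ⟨d, -, k⟩ := J.ro Ω p S Q Z U w h
  by_cases s : IsSquare (-d : ZMod p)
  · obtain ⟨c, _, _, _, _, _, _, r, n⟩ := J.sl p d h.odd s
    exact Or.inl (k _ _ _ _ _ _ _ r n c)
  · obtain ⟨K, _, _, cK, c, _, _, _, _, _, _, r, n⟩ := J.su p d h.odd s
    exact Or.inr (Or.inl ⟨K, _, _, cK, k _ _ _ _ _ _ _ r n c⟩)

theorem G6.out (h : G6 p S Q Z y x) (h5 : 5 ≤ p) : Out p S := by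
  obtain ⟨c, _, _, _, _, _, _, r, n⟩ := J.g2 p h5
  exact Or.inr (Or.inr (Or.inl ⟨h5, J.rg Ω p S Q Z y x h _ _ _ _ _ _ _ r n c⟩))

theorem main (hF : SatA p F) (h : XS p S Q Z) (hO : F.core = ⊥)
    (hQ : ∀ E ≤ Q, F.IsEssential p E → E = Q) : Out p S := by
  obtain ⟨E, hE, mv, mx⟩ := exists_bad hF h hO
  have l := lx_of hF h hE (fun r => mv fun g hg => by
    obtain rfl := hQ E r hE
    rw [le_antisymm (le_inf h.lZ (le_Ct_comm.1 (h.lQ.trans h.cen))) h.ctr]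
    exact mem_Nm_inf (Aut_le_Nm F _ hg) (mem_Nm_Ct (Aut_le_Nm F _ hg))) mv mx
  by_cases c : ∀ g ∈ Aut F E, cj g Z ≤ Q
  · obtain ⟨M, A, V, a, k⟩ := J.a1 Ω p S Q Z E _ l c
    rcases J.a3 Ω p S Q Z E _ M A V a k (J.a2 Ω p S Q Z E _ M A V a k) with ⟨U, w, o⟩ | ⟨c, y, x, o⟩
    exacts [o.out J, o.out J c]
  push Not at c
  obtain ⟨a, ha, c⟩ := c
  obtain ⟨v, ev⟩ := exists_zpowers_of_card hp.out ((card_cj a Z).trans h.cZ)
  have nv : v ∉ Q := fun r => c (ev ▸ zpowers_le.2 r)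
  rcases J.b0 Ω p S Q Z E _ a v l ha ev nv with ⟨rfl, k⟩ | k
  · obtain ⟨c7, c1, c2, c3, c4⟩ := J.b1w Ω p S Q Z v k (jobB1F Ω p S F Q Z a v hF k hE ha ev mx)
    by_cases e : p = 7
    · obtain ⟨y, x, o⟩ := c4 e
      exact o.out J (by omega)
    · refine Or.inr (Or.inr (Or.inr ⟨?_, c1, fun x => Subtype.ext (c2 x x.2), c3⟩))
      by_contra r
      have : p = 8 ∨ p = 9 ∨ p = 10 := by omega
      have := hp.out
      rcases ‹p = 8 ∨ _› with rfl | rfl | rfl <;> exact absurd this (by norm_num)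
  · have k' := J.b2a Ω p S Q Z E _ a v k
    have hv : v ∈ E := (cj_le_iff_le_cj.2 (l.zE.trans (cj_eq_of_Nm (inv_mem (l.nm ha))).ge))
      (ev ▸ mem_zpowers v)
    exact O4.out J (U := E) (w := v) ⟨h, k'.cQ, J.b2b Ω p S Q Z E _ a v k k', l.lE, l.zE, k.el.ct,
      k.nE, hv, nv, mem_bot.1 (k.el.pw v hv), (h.sp.inf l.lE l.nQ).card_down k'.cE, k.inj⟩

end ambient

theorem s5177 (J : Jobs.{u}) {Ω : Type u} [Group Ω] {S : Subgroup Ω} [Finite S] {p : ℕ}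
    [hp : Fact p.Prime] (h2 : Odd p) (hS : IsPGroup p S) {Q : Subgroup Ω} (hQS : Q ≤ S)
    (hQ : IsExtraspecial p Q) (hQi : (Q.subgroupOf S).index = p) (h6 : p ^ 6 ≤ Nat.card S)
    {F : FusionSystem S} (hF : F.IsSaturated p) (hO : F.core = ⊥) [Group.IsNilpotent S] :
    Out p S := by
  obtain ⟨a, b, S', F', h, hA⟩ := exists_satA hS hF
  have e := h.1.equiv le_rfl h.1.img_top
  have l := h.1.img_le hQS
  have x := H78.isExtraspecial_of_equiv (h.1.equiv hQS rfl) hQ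
  have c : Nat.card S' = p * Nat.card (img Q a) := by
    rw [h.1.card_img hQS, ← Nat.card_congr e.toEquiv, ← card_mul_index (Q.subgroupOf S), hQi,
      Nat.card_congr (subgroupOfEquivOfLe hQS).toEquiv, mul_comm]
  have s : Sp p S' (img Q a) := ⟨l, hA.pg, c⟩
  have c6 : p ^ 6 ≤ Nat.card S' := Nat.card_congr e.toEquiv ▸ h6
  have z := s5178 h2 hA.pg l x s.idx hA.sat (h.core_eq_bot hO)
  obtain ⟨x1, x2⟩ := extra_facts x
  refine Out.of_equiv e (main J hA (Z := img Q a ⊓ Ct (img Q a)) ⟨by rintro rfl; exact absurd h2 (by decide),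
    s, sp_bot (hA.pgl (inf_le_left.trans l)) x1, inf_le_left, le_Ct_comm.1 (z.ge.trans inf_le_right),
    z.le, le_rfl, tv_of_le (fun _ hg => mem_Nm_inf (le_Nm _ hg) (mem_Nm_Ct (le_Nm _ hg))) x2.le,
    fun y hy => ?_, Nat.le_of_mul_le_mul_left (by rwa [← c, ← pow_succ']) hp.out.pos⟩
    (h.core_eq_bot hO) fun E hE k => s5179 hA.pg l x s.idx c6 hA.sat hE k)
  have := H9.pow_mem_phi (hA.pgl l) hy
  rw [← mem_subgroupOf (h := ⟨_, pow_mem hy p⟩), H9.phi_subgroupOf, x.1.2.1, mem_center_iff] at this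
  exact ⟨pow_mem hy p, mem_Ct'.2 fun g hg => congrArg Subtype.val (this ⟨g, hg⟩)⟩

end H87.XP
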