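/- The tower XP assembled. -/
import Cfsg.Agent.H87.XPZ
import Cfsg.Agent.H70.XpA
import Cfsg.Agent.H70.XpR
import Cfsg.Agent.H70.XpSL
import Cfsg.Agent.H27.XPB
import Cfsg.Agent.H27.XPW
import Cfsg.Agent.H29.XPB3
import Cfsg.Agent.H93.XPB2a
import Cfsg.Agent.H59.XPSU
import Cfsg.Agent.H59.XPG2

set_option autoImplicit false

namespace H87.XP

universe u

theorem jobs : Jobs.{u} :=
  ⟨H70.Xp.jobA1, H70.Xp.jobA2, H70.Xp.jobA3, H27.XP.jobB0, H93.XP.jobB2a, H29.XPB.jobB2b,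
    H27.XP.jobB1W, H70.Xp.jobRO, H70.Xp.jobRG, H70.Xp.jobSL, H59.XP.jobSU, H59.XP.jobG2⟩

end H87.XP
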